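/-
Minimal non-nilpotent groups.
-/
import Mathlib
import Cfsg.Prelude.Def_SolvableStructure
import Cfsg.Agent.Lib.PComplement
import Cfsg.Agent.Lib.Frobenius.Splitting

set_option autoImplicit false

namespace CfsgLib.Schmidt

open Cfsg
open scoped commutatorElement

universe u

variable {G : Type u} [Group G] [Finite G]

theorem nilpotent_of_forall_complement (h : ∀ p : ℕ, p.Prime → HasNormalPComplement p G) : Group.IsNilpotent G := by
  have hN : ∀ p : ℕ, p.Prime → ∃ N : Subgroup G, N.Normal ∧ (Nat.card N).Coprime p ∧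
      ∀ x : G, (orderOf x).Coprime p → x ∈ N := fun p hp => by
    have := Fact.mk hp
    obtain ⟨P, N, hNn, hc⟩ := h p hp
    obtain ⟨k, hk⟩ := IsPGroup.iff_card.mp P.isPGroup'
    refine ⟨N, hNn, ?_, fun x hx => ?_⟩
    · rw [Nat.coprime_comm, hp.coprime_iff_not_dvd, ← hc.index_eq_card]; exact P.not_dvd_index
    · rw [← QuotientGroup.eq_one_iff]
      refine orderOf_eq_one_iff.mp (Nat.dvd_one.mp ?_)
      have h1 : orderOf (x : G ⧸ N) ∣ orderOf x := orderOf_map_dvd (QuotientGroup.mk' N) x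
      have h2 : orderOf (x : G ⧸ N) ∣ p ^ k := by
        rw [← hk, ← hc.symm.index_eq_card]; exact orderOf_dvd_natCard _
      exact (hx.pow_right k) ▸ Nat.dvd_gcd h1 h2
  choose N hNn hNc hNm using hN
  refine ((Group.isNilpotent_of_finite_tfae (G := G)).out 0 3).mpr ?_
  intro q hq P
  have := hq
  set M : Subgroup G := ⨅ (p : ℕ) (hp : p.Prime) (_ : p ≠ q), N p hp with hM
  have hMn : M.Normal := Subgroup.normal_iInf_normal fun p => Subgroup.normal_iInf_normal fun hp =>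
    Subgroup.normal_iInf_normal fun _ => hNn p hp
  have hPM : (P : Subgroup G) ≤ M := fun x hx => by
    simp only [hM, Subgroup.mem_iInf]
    intro p hp hpq
    obtain ⟨k, hk⟩ := IsPGroup.iff_orderOf.mp P.isPGroup' ⟨x, hx⟩
    rw [Subgroup.orderOf_mk] at hk
    exact hNm p hp x (hk ▸ ((Nat.coprime_primes hq.out hp).mpr (Ne.symm hpq)).pow_left k)
  have hMq : IsPGroup q M := IsPGroup.iff_card.mpr ⟨_, Nat.eq_prime_pow_of_unique_prime_dvd Nat.card_pos.ne'
    fun {p} hp hpd => by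
      by_contra hpq
      have hle : M ≤ N p hp := fun x hx => by simp only [hM, Subgroup.mem_iInf] at hx; exact hx p hp hpq
      exact hp.coprime_iff_not_dvd.mp (hNc p hp).symm (hpd.trans (Subgroup.card_dvd_of_le hle))⟩
  rw [← P.is_maximal' hMq hPM]; exact hMn

theorem nilpotent_commute {H : Subgroup G} (hH : Group.IsNilpotent H) {x y : G} (hx : x ∈ H) (hy : y ∈ H)
    (hc : (orderOf x).Coprime (orderOf y)) : x * y = y * x := by
  have := hH
  have h := CfsgLib.Frob.commute_of_nilpotent_coprime (a := (⟨x, hx⟩ : H)) (b := ⟨y, hy⟩)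
    (by rwa [Subgroup.orderOf_mk, Subgroup.orderOf_mk])
  exact congrArg Subtype.val h.eq

/-- A minimal non-nilpotent group is a cyclic `p`-group acting on a normal Sylow `q`-subgroup. -/
theorem structure_schmidt (hG : IsMinimalNonNilpotent G) :
    ∃ (p q : ℕ) (U : Subgroup G) (g : G), p.Prime ∧ q.Prime ∧ p ≠ q ∧ U.Normal ∧ IsPGroup q U ∧
      (∃ a, orderOf g = p ^ a) ∧ U ⊔ Subgroup.zpowers g = ⊤ ∧ (∃ x ∈ U, x * g ≠ g * x) ∧
      Nat.card G = Nat.card U * Nat.card (Subgroup.zpowers g) := by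
  classical
  obtain ⟨hnn, hsub⟩ := hG
  obtain ⟨q, hq, hfail⟩ : ∃ q : ℕ, q.Prime ∧ ¬ HasNormalPComplement q G := by
    by_contra hno
    push Not at hno
    exact hnn (nilpotent_of_forall_complement hno)
  have := Fact.mk hq
  have hcond : ¬ CfsgLib.FrobeniusCond q G := fun h => hfail (CfsgLib.hasNormalPComplement_of_frobeniusCond h)
  simp only [CfsgLib.FrobeniusCond] at hcond
  push Not at hcond
  obtain ⟨U, hU, g₀, hg₀N, hg₀c, hg₀⟩ := hcond
  have hUcop : ∀ {x : G}, x ∈ U → ∀ {n : ℕ}, n.Coprime q → (orderOf x).Coprime n := fun {x} hx {n} hn => by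
    obtain ⟨k, hk⟩ := IsPGroup.iff_orderOf.mp hU ⟨x, hx⟩
    rw [Subgroup.orderOf_mk] at hk
    exact hk ▸ hn.symm.pow_left k
  have hUn : U.Normal := by
    by_contra hUn
    have hne : Subgroup.normalizer (U : Set G) ≠ ⊤ := fun h => hUn (Subgroup.normalizer_eq_top_iff.mp h)
    exact hg₀ (Subgroup.mem_centralizer_iff.mpr fun x hx =>
      nilpotent_commute (hsub _ hne) (Subgroup.le_normalizer hx) hg₀N (hUcop hx hg₀c))
  -- an element of least order not centralizing `U`
  let Bad : ℕ → Prop := fun n => ∃ g : G, orderOf g = n ∧ n.Coprime q ∧ g ∉ Subgroup.centralizer (U : Set G)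
  have hex : ∃ n, Bad n := ⟨_, g₀, rfl, hg₀c, hg₀⟩
  obtain ⟨g, hgo, hgc, hgU⟩ := Nat.find_spec hex
  have hn1 : orderOf g ≠ 1 := fun h => hgU (by rw [orderOf_eq_one_iff.mp h]; exact one_mem _)
  set p := (orderOf g).minFac with hp
  have hpp : p.Prime := Nat.minFac_prime hn1
  obtain ⟨a, m, hm, hgm⟩ := Nat.exists_eq_pow_mul_and_not_dvd (orderOf_pos g).ne' p hpp.ne_one
  have ha : a ≠ 0 := fun h => hm (by
    have := Nat.minFac_dvd (orderOf g); rw [← hp, hgm, h, pow_zero, one_mul] at this; exact this)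
  have hm1 : m = 1 := by
    by_contra hm1
    have hm0 : 0 < m := Nat.pos_of_ne_zero fun h => hm (h ▸ dvd_zero p)
    have small : ∀ d, d ∣ orderOf g → 1 < d → g ^ d ∈ Subgroup.centralizer (U : Set G) := fun d hd hd1 => by
      by_contra hgd
      have ho : orderOf (g ^ d) = orderOf g / d := by
        rw [orderOf_pow' g (by omega), Nat.gcd_eq_right hd]
      have hlt : orderOf (g ^ d) < Nat.find hex := by
        rw [ho, ← hgo]; exact Nat.div_lt_self (orderOf_pos g) hd1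
      exact Nat.find_min hex hlt ⟨g ^ d, rfl, by rw [ho]; exact (hgo ▸ hgc).coprime_dvd_left (Nat.div_dvd_of_dvd hd), hgd⟩
    have h1 := small (p ^ a) (hgm ▸ dvd_mul_right _ _) (Nat.one_lt_pow ha hpp.one_lt)
    have h2 := small m (hgm ▸ dvd_mul_left _ _) (by omega)
    refine hgU ?_
    have hb := Int.gcd_eq_gcd_ab (p ^ a : ℕ) (m : ℕ)
    rw [Int.gcd_natCast_natCast, ((hpp.coprime_iff_not_dvd.mpr hm).pow_left a).gcd_eq_one, Nat.cast_one] at hb
    rw [← zpow_one g, hb, zpow_add, zpow_mul, zpow_mul, zpow_natCast, zpow_natCast]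
    exact mul_mem (zpow_mem h1 _) (zpow_mem h2 _)
  rw [hm1, mul_one] at hgm
  have hpq : p ≠ q := fun h => by
    rw [← hgo, hgm, Nat.coprime_pow_left_iff (Nat.pos_of_ne_zero ha), h, Nat.coprime_self] at hgc
    exact hq.ne_one hgc
  rw [Subgroup.mem_centralizer_iff] at hgU
  push Not at hgU
  obtain ⟨x, hxU, hxg⟩ := hgU
  have htop : U ⊔ Subgroup.zpowers g = ⊤ := by
    by_contra hne
    exact hxg (nilpotent_commute (hsub _ hne) (Subgroup.mem_sup_left hxU)
      (Subgroup.mem_sup_right (Subgroup.mem_zpowers g)) (hUcop hxU (hgo ▸ hgc)))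
  refine ⟨p, q, U, g, hpp, hq, hpq, hUn, hU, ⟨a, hgm⟩, htop, ⟨x, hxU, hxg⟩, ?_⟩
  obtain ⟨b, hb⟩ := IsPGroup.iff_card.mp hU
  have hcop : (Nat.card U).Coprime (Nat.card (Subgroup.zpowers g)) := by
    rw [hb, Nat.card_zpowers, hgo]; exact hgc.symm.pow_left b
  have hdisj : Disjoint U (Subgroup.zpowers g) := disjoint_iff.mpr (Subgroup.inf_eq_bot_of_coprime hcop)
  exact (Subgroup.isComplement'_of_disjoint_and_mul_eq_univ hdisj (by
    rw [← Subgroup.normal_mul, htop]; rfl)).card_mul.symm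

theorem schmidt_sylows (hG : IsMinimalNonNilpotent G) :
    ∃ (p q : ℕ) (_ : p.Prime) (_ : q.Prime) (_ : p ≠ q) (P : Sylow p G) (Q : Sylow q G) (g : G),
      (P : Subgroup G) = Subgroup.zpowers g ∧ (Q : Subgroup G).Normal ∧ (P : Subgroup G) ⊔ Q = ⊤ ∧
      ∃ x ∈ (Q : Subgroup G), x * g ≠ g * x := by
  obtain ⟨p, q, U, g, hp, hq, hpq, hUn, hU, ⟨a, hga⟩, htop, hx, hcard⟩ := structure_schmidt hG
  have := Fact.mk hp
  have := Fact.mk hq
  obtain ⟨b, hb⟩ := IsPGroup.iff_card.mp hU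
  have hgp : IsPGroup p (Subgroup.zpowers g) := IsPGroup.iff_card.mpr ⟨a, by rw [Nat.card_zpowers, hga]⟩
  have hPi : ¬ p ∣ (Subgroup.zpowers g).index := fun h => by
    have h1 : (Subgroup.zpowers g).index = Nat.card U :=
      Nat.eq_of_mul_eq_mul_left (Nat.card_pos (α := Subgroup.zpowers g)) (by rw [Subgroup.card_mul_index, hcard, mul_comm])
    rw [h1, hb] at h
    exact hpq ((Nat.prime_dvd_prime_iff_eq hp hq).mp (hp.dvd_of_dvd_pow h))
  have hQi : ¬ q ∣ U.index := fun h => by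
    have h1 : U.index = p ^ a := Nat.eq_of_mul_eq_mul_left (Nat.card_pos (α := U)) (by
      rw [Subgroup.card_mul_index, hcard, Nat.card_zpowers, hga])
    rw [h1] at h
    exact hpq ((Nat.prime_dvd_prime_iff_eq hq hp).mp (hq.dvd_of_dvd_pow h)).symm
  exact ⟨p, q, hp, hq, hpq, hgp.toSylow hPi, hU.toSylow hQi, g, rfl, hUn, by rw [sup_comm]; exact htop, hx⟩

end CfsgLib.Schmidt
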