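/-
Wielandt: three solvable subgroups of pairwise coprime index.
-/
import Mathlib
import Cfsg.Agent.Lib.Elementary

set_option autoImplicit false

open scoped Pointwise

namespace CfsgLib.Wielandt3

universe u

theorem mul_eq_top {G : Type u} [Group G] [Finite G] {A B : Subgroup G} (h : A.index.Coprime B.index) (g : G) :
    ∃ a ∈ A, ∃ b ∈ B, g = a * b := by
  have h1 : B.index ≤ B.relIndex A := by
    have e : B.relIndex A * A.index = (A ⊓ B).index := by
      rw [← Subgroup.inf_relIndex_left, Subgroup.relIndex_mul_index inf_le_left]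
    have hd : B.index ∣ B.relIndex A * A.index := e ▸ Subgroup.index_dvd_of_le inf_le_right
    exact Nat.le_of_dvd (Nat.pos_of_ne_zero (Subgroup.index_ne_zero_of_finite (H := B.subgroupOf A))) (h.symm.dvd_of_dvd_mul_right hd)
  let f : A ⧸ B.subgroupOf A → G ⧸ B := Quotient.map' (fun a => (a : G)) fun a b hab => by
    rw [QuotientGroup.leftRel_apply] at hab ⊢
    exact hab
  have hf : Function.Injective f := by
    intro x y
    induction x using QuotientGroup.induction_on
    induction y using QuotientGroup.induction_on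
    intro e
    exact QuotientGroup.eq.mpr ((QuotientGroup.eq (s := B)).mp e)
  have hb : Function.Bijective f := hf.bijective_of_nat_card_le h1
  obtain ⟨q, hq⟩ := hb.2 (QuotientGroup.mk g)
  induction q using QuotientGroup.induction_on with
  | _ a => exact ⟨a, a.2, (a : G)⁻¹ * g, QuotientGroup.eq.mp hq, by group⟩

theorem isSolvable : ∀ (n : ℕ) {G : Type u} [Group G] [Finite G], Nat.card G = n →
    ∀ (A B C : Subgroup G), Group.IsSolvable A → Group.IsSolvable B → Group.IsSolvable C →
    A.index.Coprime B.index → A.index.Coprime C.index → B.index.Coprime C.index → Group.IsSolvable G := by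
  intro n
  induction n using Nat.strong_induction_on with
  | _ n ih =>
  intro G _ _ hn A B C hA hB hC hAB hAC hBC
  have key : ∀ X : Subgroup G, X = ⊤ → Group.IsSolvable X → Group.IsSolvable G := fun X hX h => by
    subst hX
    haveI := h
    exact Group.isSolvable_of_surjective (f := (Subgroup.topEquiv (G := G)).toMonoidHom) (MulEquiv.surjective _)
  by_cases hA0 : A = ⊥
  · refine key B (Subgroup.index_eq_one.mp ?_) hB
    exact Nat.eq_one_of_dvd_coprimes hAB (by rw [hA0, Subgroup.index_bot]; exact B.index_dvd_card) dvd_rfl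
  haveI : Nontrivial A := (Subgroup.nontrivial_iff_ne_bot A).mpr hA0
  obtain ⟨M, hMn, -, hM0, hmin⟩ := CfsgLib.exists_minimal_normal (N := (⊤ : Subgroup A)) top_ne_bot
  obtain ⟨-, p, hp, hMp⟩ := CfsgLib.minimal_normal_elementary hM0 inferInstance hmin
  have := Fact.mk hp
  have step : ∀ X : Subgroup G, Group.IsSolvable X → A.index.Coprime X.index → ¬ p ∣ X.index →
      ∃ N : Subgroup G, N.Normal ∧ N ≠ ⊥ ∧ Group.IsSolvable N := by
    intro X hX hAX hpX
    have hM' : IsPGroup p (M.map A.subtype) := by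
      refine IsPGroup.map ?_ _
      intro x
      exact ⟨1, by rw [pow_one]; exact Subtype.ext (hMp x x.2)⟩
    obtain ⟨S, hS⟩ := hM'.exists_le_sylow
    obtain ⟨S₀⟩ : Nonempty (Sylow p X) := inferInstance
    have hS₀ : ¬ p ∣ ((S₀ : Subgroup X).map X.subtype).index := by
      rw [Subgroup.index_map_subtype]
      exact hp.not_dvd_mul S₀.not_dvd_index hpX
    obtain ⟨g, hg⟩ := MulAction.exists_smul_eq G ((S₀.2.map X.subtype).toSylow hS₀) S
    set X' := MulAut.conj g • X with hX'
    have hMX : M.map A.subtype ≤ X' := by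
      refine hS.trans ?_
      rw [← hg, Sylow.coe_subgroup_smul, IsPGroup.toSylow_coe]
      exact Subgroup.pointwise_smul_le_pointwise_smul_iff.mpr (Subgroup.map_subtype_le _)
    have hX's : Group.IsSolvable X' := Group.isSolvable_of_surjective
      (f := (Subgroup.equivSMul (MulAut.conj g) X).toMonoidHom) (MulEquiv.surjective _)
    have hX'i : X'.index = X.index := Subgroup.index_map_equiv X (MulAut.conj g)
    refine ⟨Subgroup.normalClosure (M.map A.subtype : Set G), inferInstance, fun h => hM0 ?_, ?_⟩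
    · have h1 : (M.map A.subtype) ≤ ⊥ := h ▸ Subgroup.le_normalClosure
      exact (Subgroup.map_eq_bot_iff_of_injective _ A.subtype_injective).mp (le_bot_iff.mp h1)
    · have hle : Subgroup.normalClosure (M.map A.subtype : Set G) ≤ X' := by
        refine (Subgroup.closure_le _).mpr fun y hy => ?_
        obtain ⟨m, hm, hc⟩ := Group.mem_conjugatesOfSet_iff.mp hy
        obtain ⟨c, rfl⟩ := isConj_iff.mp hc
        obtain ⟨b, hb, a, ha, rfl⟩ := mul_eq_top (hX'i.symm ▸ hAX.symm : X'.index.Coprime A.index) c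
        obtain ⟨m', hm', rfl⟩ := hm
        have h1 : a * (m' : G) * a⁻¹ ∈ X' := hMX ⟨⟨a, ha⟩ * m' * ⟨a, ha⟩⁻¹, hMn.conj_mem m' hm' _, rfl⟩
        rw [show b * a * (A.subtype m') * (b * a)⁻¹ = b * (a * (m' : G) * a⁻¹) * b⁻¹ by simp [mul_assoc]]
        exact mul_mem (mul_mem hb h1) (inv_mem hb)
      exact Group.isSolvable_of_isSolvable_injective (Subgroup.inclusion_injective hle)
  obtain ⟨N, hNn, hN0, hNs⟩ : ∃ N : Subgroup G, N.Normal ∧ N ≠ ⊥ ∧ Group.IsSolvable N := by
    by_cases h : p ∣ B.index
    · exact step C hC hAC fun h' => hp.not_dvd_one (hBC ▸ Nat.dvd_gcd h h')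
    · exact step B hB hAB h
  have hlt : Nat.card (G ⧸ N) < n := by
    rw [← hn, N.card_eq_card_quotient_mul_card_subgroup]
    haveI : Nontrivial N := (Subgroup.nontrivial_iff_ne_bot N).mpr hN0
    have h2 : 1 < Nat.card N := Finite.one_lt_card
    have h3 : 0 < Nat.card (G ⧸ N) := Nat.card_pos
    exact lt_mul_of_one_lt_right h3 h2
  have hmap : ∀ X : Subgroup G, Group.IsSolvable X →
      Group.IsSolvable (X.map (QuotientGroup.mk' N)) ∧ (X.map (QuotientGroup.mk' N)).index ∣ X.index := fun X h =>
    ⟨Group.isSolvable_of_surjective ((QuotientGroup.mk' N).subgroupMap_surjective X),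
      Subgroup.index_map_dvd X (QuotientGroup.mk'_surjective N)⟩
  obtain ⟨hA', hA''⟩ := hmap A hA
  obtain ⟨hB', hB''⟩ := hmap B hB
  obtain ⟨hC', hC''⟩ := hmap C hC
  haveI : Group.IsSolvable (G ⧸ N) := ih _ hlt rfl _ _ _ hA' hB' hC'
    (Nat.Coprime.of_dvd hA'' hB'' hAB) (Nat.Coprime.of_dvd hA'' hC'' hAC) (Nat.Coprime.of_dvd hB'' hC'' hBC)
  haveI := hNs
  exact Group.isSolvable_of_ker_le_range N.subtype (QuotientGroup.mk' N) (by rw [QuotientGroup.ker_mk', Subgroup.range_subtype])

end CfsgLib.Wielandt3
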