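/-
Hall complement systems, system normalisers and Carter subgroups of finite solvable groups.
-/
import Mathlib
import Cfsg.Prelude.Def_SolvableStructure
import Cfsg.Agent.Lib.HallPi
import Cfsg.Agent.Lib.Elementary
import Cfsg.Agent.Lib.Solvable.Wielandt3
import Cfsg.Agent.Lib.Solvable.Schmidt

set_option autoImplicit false

open scoped Pointwise

namespace CfsgLib.HallSystem

open Cfsg Subgroup

universe u v

variable {G : Type u} [Group G]

/-- A Hall complement for the prime `p`. -/
def IsPComp (p : ℕ) (H : Subgroup G) : Prop := H.index = p ^ (Nat.card G).factorization p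

theorem relIndex_sup_left' [Finite G] (T N : Subgroup G) [N.Normal] : T.relIndex (T ⊔ N) = T.relIndex N := by
  have h1 : Nat.card T * T.relIndex (T ⊔ N) = Nat.card (T ⊔ N : Subgroup G) := card_mul_relIndex le_sup_left
  have h2 : Nat.card N * N.relIndex (T ⊔ N) = Nat.card (T ⊔ N : Subgroup G) := card_mul_relIndex le_sup_right
  rw [Subgroup.relIndex_sup_right] at h2
  have h3 : Nat.card (T ⊓ N : Subgroup G) * (T ⊓ N).relIndex N = Nat.card N := card_mul_relIndex inf_le_right
  have h4 : Nat.card (T ⊓ N : Subgroup G) * (T ⊓ N).relIndex T = Nat.card T := card_mul_relIndex inf_le_left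
  rw [Subgroup.inf_relIndex_right] at h3
  rw [Subgroup.inf_relIndex_left] at h4
  refine mul_left_cancel₀ (Nat.card_pos (α := T)).ne' ?_
  rw [h1, ← h2, ← h3, ← h4]
  ring

theorem relIndex_dvd_index' [Finite G] (T N : Subgroup G) [N.Normal] : T.relIndex N ∣ T.index :=
  relIndex_sup_left' T N ▸ Subgroup.relIndex_dvd_index_of_le le_sup_left

theorem relIndex_dvd_index_of_le_normalizer [Finite G] {K H : Subgroup G}
    (h : H ≤ Subgroup.normalizer (K : Set G)) : K.relIndex H ∣ K.index := by
  rw [← Subgroup.relIndex_subgroupOf h]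
  haveI : (K.subgroupOf (Subgroup.normalizer (K : Set G))).Normal := Subgroup.normal_in_normalizer
  exact (Subgroup.relIndex_dvd_index_of_normal _ _).trans
    (Subgroup.relIndex_dvd_index_of_le Subgroup.le_normalizer)

theorem conj_eq_iff_mem [Finite G] {g : G} {K : Subgroup G} :
    MulAut.conj g • K = K ↔ g ∈ Subgroup.normalizer (K : Set G) := by
  rw [Subgroup.mem_normalizer_iff'']
  refine ⟨fun h x => ?_, fun h => ?_⟩
  · conv_lhs => rw [← h, mem_conj_smul_iff]
  · ext x; rw [mem_conj_smul_iff]; exact (h x).symm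

theorem map_conj {X : Type v} [Group X] (f : G →* X) (g : G) (K : Subgroup G) :
    (MulAut.conj g • K).map f = MulAut.conj (f g) • K.map f := by
  ext x
  rw [mem_conj_smul_iff]
  constructor
  · rintro ⟨y, hy, rfl⟩
    exact ⟨g⁻¹ * y * g, mem_conj_smul_iff.mp hy, by simp⟩
  · rintro ⟨y, hy, hyx⟩
    refine ⟨g * y * g⁻¹, mem_conj_smul_iff.mpr (by simpa [mul_assoc] using hy), ?_⟩
    rw [map_mul, map_mul, hyx, map_inv]
    group

variable [Finite G] {p : ℕ}

theorem relIndex_sup_of_le {S D F : Subgroup G} [F.Normal] (h : F ≤ S) : S.relIndex (D ⊔ F) = S.relIndex D := by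
  have h1 := Subgroup.relIndex_map_map (QuotientGroup.mk' F) S D
  rw [← Subgroup.relIndex_comap, Subgroup.comap_map_eq, QuotientGroup.ker_mk', sup_eq_left.mpr h] at h1
  exact h1.symm

theorem relIndex_sup_of_le_normalizer {K H : Subgroup G} (h : H ≤ Subgroup.normalizer (K : Set G)) :
    K.relIndex (K ⊔ H) = K.relIndex H := by
  rw [← Subgroup.relIndex_subgroupOf (sup_le Subgroup.le_normalizer h), ← Subgroup.relIndex_subgroupOf h,
    Subgroup.subgroupOf_sup Subgroup.le_normalizer h, sup_comm]
  haveI : (K.subgroupOf (Subgroup.normalizer (K : Set G))).Normal := Subgroup.normal_in_normalizer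
  exact Subgroup.relIndex_sup_right _ _

/-- A self-normalising subgroup contained in a nilpotent subgroup is equal to it. -/
theorem eq_of_selfNormalizing {C D : Subgroup G} (hC : IsCarterSubgroup C) (hle : C ≤ D)
    (hD : Group.IsNilpotent D) : C = D := by
  haveI := hD
  refine le_antisymm hle ?_
  by_contra hlt
  have hne : C.subgroupOf D ≠ ⊤ := fun e => hlt (Subgroup.subgroupOf_eq_top.mp e)
  obtain ⟨x, hx, hxC⟩ := SetLike.exists_of_lt (Group.normalizerCondition_of_isNilpotent (G := D) _ (lt_top_iff_ne_top.mpr hne))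
  refine hxC ?_
  show (x : G) ∈ C
  rw [← hC.2, Subgroup.mem_normalizer_iff]
  intro y
  constructor
  · intro hy
    exact (Subgroup.mem_normalizer_iff.mp hx ⟨y, hle hy⟩).mp hy
  · intro hy
    have h1 : y ∈ D := by
      have := D.mul_mem (D.mul_mem (D.inv_mem x.2) (hle hy)) x.2
      simpa [mul_assoc] using this
    exact (Subgroup.mem_normalizer_iff.mp hx ⟨y, h1⟩).mpr hy

theorem not_dvd_card [hp : Fact p.Prime] {H : Subgroup G} (h : IsPComp p H) : ¬ p ∣ Nat.card H := by
  intro hd
  have e := H.card_mul_index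
  rw [h] at e
  refine Nat.pow_succ_factorization_not_dvd (n := Nat.card G) Nat.card_pos.ne' hp.out ?_
  conv_rhs => rw [← e]
  rw [pow_succ']
  exact mul_dvd_mul_right hd _

theorem of_dvd [hp : Fact p.Prime] {H : Subgroup G} {k : ℕ} (h : H.index ∣ p ^ k) (hc : ¬ p ∣ Nat.card H) :
    IsPComp p H := by
  obtain ⟨j, -, hj⟩ := (Nat.dvd_prime_pow hp.out).mp h
  show H.index = _
  have e := congrArg (fun n => n.factorization p) H.card_mul_index
  simp only [hj, Nat.factorization_mul Nat.card_pos.ne' (pow_ne_zero j hp.out.ne_zero), Finsupp.add_apply,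
    Nat.factorization_eq_zero_of_not_dvd hc, hp.out.factorization_pow, Finsupp.single_eq_same, zero_add] at e
  rw [hj, e]

theorem card_eq [hp : Fact p.Prime] {H L : Subgroup G} (hH : IsPComp p H) (hL : IsPComp p L) :
    Nat.card H = Nat.card L := by
  have h1 := H.card_mul_index
  rw [← L.card_mul_index, hH, hL] at h1
  exact mul_right_cancel₀ (pow_ne_zero _ hp.out.ne_zero) h1

theorem eq_of_le [hp : Fact p.Prime] {K M : Subgroup G} (hK : IsPComp p K) (h : K ≤ M) (hM : ¬ p ∣ Nat.card M) :
    M = K := by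
  refine (Subgroup.eq_of_le_of_card_ge h ?_).symm
  exact (card_eq hK (of_dvd (k := (Nat.card G).factorization p) ((Subgroup.index_dvd_of_le h).trans hK.dvd) hM)).ge

theorem exists_isPComp [hp : Fact p.Prime] [Group.IsSolvable G] : ∃ H : Subgroup G, IsPComp p H := by
  obtain ⟨⟨H, hH⟩, -⟩ := hall_main (G := G) (m := Nat.card G / p ^ (Nat.card G).factorization p)
    (n := p ^ (Nat.card G).factorization p)
    (Nat.div_mul_cancel (Nat.ordProj_dvd _ _)).symm ((Nat.coprime_ordCompl hp.out Nat.card_pos.ne').pow_left _).symm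
  refine ⟨H, ?_⟩
  have e := H.card_mul_index
  rw [hH] at e
  exact Nat.eq_of_mul_eq_mul_left (Nat.div_pos (Nat.ordProj_le _ Nat.card_pos.ne') (pow_pos hp.out.pos _))
    (e.trans (Nat.div_mul_cancel (Nat.ordProj_dvd _ _)).symm)

theorem normal_le [hp : Fact p.Prime] {K : Subgroup G} (hK : IsPComp p K) (N : Subgroup G) [N.Normal]
    (hN : ¬ p ∣ Nat.card N) : N ≤ K := by
  have hM : ¬ p ∣ Nat.card (K ⊔ N : Subgroup G) := by
    rw [← card_mul_relIndex (le_sup_left : K ≤ K ⊔ N), relIndex_sup_left']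
    intro h
    rcases hp.out.dvd_mul.mp h with h | h
    · exact not_dvd_card hK h
    · exact hN (h.trans (Subgroup.index_dvd_card _))
  rw [← eq_of_le hK le_sup_left hM]
  exact le_sup_right

/-- A subgroup of order prime to `p` inside `K N` is conjugate into `K` by an element of `N`. -/
theorem exists_conj_le [hp : Fact p.Prime] [Group.IsSolvable G] {K : Subgroup G} (hK : IsPComp p K)
    (N : Subgroup G) [N.Normal] {U : Subgroup G} (hU : U ≤ K ⊔ N) (hUp : ¬ p ∣ Nat.card U) :
    ∃ n ∈ N, MulAut.conj n • U ≤ K := by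
  have hHall : IsPiHallOf {q : ℕ | q ≠ p} K (K ⊔ N) := by
    refine ⟨le_sup_left, fun q _ hd => fun e => not_dvd_card hK (e ▸ hd), fun q hq hne hd => hne ?_⟩
    have h1 := hd.trans ((Subgroup.relIndex_dvd_index_of_le le_sup_left).trans hK.dvd)
    exact (Nat.prime_dvd_prime_iff_eq hq hp.out).mp (hq.dvd_of_dvd_pow h1)
  obtain ⟨g, hg, hgU⟩ := pi_le_conj_hall inferInstance hHall hU (fun q _ hd => fun e => hUp (e ▸ hd))
  have hg' : g ∈ ((K : Set G) * (N : Set G)) := by rw [← Subgroup.mul_normal]; exact hg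
  obtain ⟨k, hk, n, hn, rfl⟩ := hg'
  refine ⟨n, hn, fun x hx => ?_⟩
  have h1 : k * x * k⁻¹ ∈ K := hgU (mem_conj_smul_iff.mpr (by
    have := mem_conj_smul_iff.mp hx
    simpa [mul_assoc] using this))
  have := K.mul_mem (K.mul_mem (K.inv_mem hk) h1) hk
  simpa [mul_assoc] using this

theorem exists_conj_eq [hp : Fact p.Prime] [Group.IsSolvable G] {K L : Subgroup G} (hK : IsPComp p K)
    (hL : IsPComp p L) (N : Subgroup G) [N.Normal] (h : L ≤ K ⊔ N) : ∃ n ∈ N, MulAut.conj n • L = K := by
  obtain ⟨n, hn, hle⟩ := exists_conj_le hK N h (not_dvd_card hL)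
  exact ⟨n, hn, Subgroup.eq_of_le_of_card_ge hle (by rw [card_conj_smul, card_eq hK hL])⟩

theorem isPComp_conj {K : Subgroup G} (hK : IsPComp p K) (g : G) : IsPComp p (MulAut.conj g • K) := by
  rw [IsPComp, ← hK]
  have h1 := (MulAut.conj g • K).card_mul_index
  rw [card_conj_smul, ← K.card_mul_index] at h1
  exact Nat.eq_of_mul_eq_mul_left Nat.card_pos h1

theorem isPComp_map [hp : Fact p.Prime] {X : Type v} [Group X] [Finite X] {K : Subgroup G} (hK : IsPComp p K)
    {f : G →* X} (hf : Function.Surjective f) : IsPComp p (K.map f) :=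
  of_dvd (H := K.map f) (k := (Nat.card G).factorization p)
    ((Subgroup.index_map_dvd K hf).trans (dvd_of_eq (show K.index = p ^ (Nat.card G).factorization p from hK)))
    fun h => not_dvd_card hK (h.trans (Subgroup.card_map_dvd K f))

theorem isPComp_subgroupOf [hp : Fact p.Prime] {K H : Subgroup G} (hK : IsPComp p K) (h : K.relIndex H ∣ K.index) :
    IsPComp p (K.subgroupOf H) := by
  refine of_dvd (h.trans hK.dvd) fun hd => not_dvd_card hK (hd.trans ?_)
  rw [← Subgroup.card_map_of_injective H.subtype_injective, Subgroup.subgroupOf_map_subtype]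
  exact Subgroup.card_dvd_of_le inf_le_left

omit [Finite G] in
theorem comp_sys {K : Nat.Primes → Subgroup G} (hK : IsComplementSystem K) (p : Nat.Primes) : IsPComp (p : ℕ) (K p) :=
  hK p

omit [Finite G] in
instance fact_primes (p : Nat.Primes) : Fact (p : ℕ).Prime := ⟨p.2⟩

theorem mem_systemNormalizer {K : Nat.Primes → Subgroup G} {g : G} :
    g ∈ systemNormalizer K ↔ ∀ p, MulAut.conj g • K p = K p := by
  simp only [systemNormalizer, Subgroup.mem_iInf, conj_eq_iff_mem]

theorem systemNormalizer_conj (K : Nat.Primes → Subgroup G) (g : G) :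
    systemNormalizer (fun p => MulAut.conj g • K p) = MulAut.conj g • systemNormalizer K := by
  ext x
  simp only [mem_conj_smul_iff, mem_systemNormalizer, conj_smul_mul]
  refine forall_congr' fun p => ?_
  constructor
  · intro h
    rw [show g⁻¹ * x * g = g⁻¹ * (x * g) by group, ← conj_smul_mul, h, conj_smul_mul, inv_mul_cancel, map_one, one_smul]
  · intro h
    conv_rhs => rw [← h, conj_smul_mul]
    congr 2
    group

theorem isComplementSystem_conj {K : Nat.Primes → Subgroup G} (hK : IsComplementSystem K) (g : G) :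
    IsComplementSystem (fun p => MulAut.conj g • K p) := fun p => isPComp_conj (hK p) g

theorem exists_system [Group.IsSolvable G] : ∃ K : Nat.Primes → Subgroup G, IsComplementSystem K := by
  choose K hK using fun p : Nat.Primes => exists_isPComp (G := G) (p := (p : ℕ))
  exact ⟨K, hK⟩

theorem eq_top_of_not_dvd {K : Nat.Primes → Subgroup G} (hK : IsComplementSystem K) (p : Nat.Primes)
    (hp : ¬ (p : ℕ) ∣ Nat.card G) : K p = ⊤ := by
  rw [← Subgroup.index_eq_one, hK p, Nat.factorization_eq_zero_of_not_dvd hp, pow_zero]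

theorem index_inf_system {K : Nat.Primes → Subgroup G} (hK : IsComplementSystem K) (σ : Finset Nat.Primes) :
    (σ.inf K).index = ∏ q ∈ σ, (q : ℕ) ^ (Nat.card G).factorization (q : ℕ) := by
  classical
  induction σ using Finset.induction with
  | empty => simp
  | @insert a s ha ih =>
    rw [Finset.inf_insert, Finset.prod_insert ha, ← ih, ← hK a]
    have hc : (K a).index.Coprime (s.inf K).index := by
      rw [hK a, ih]
      exact Nat.Coprime.prod_right fun q hq => Nat.Coprime.pow _ _
        ((Nat.coprime_primes a.2 q.2).mpr fun e => ha (Subtype.ext e ▸ hq))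
    refine le_antisymm Subgroup.index_inf_le (Nat.le_of_dvd (Nat.pos_of_ne_zero Subgroup.index_ne_zero_of_finite) ?_)
    exact hc.mul_dvd_of_dvd_of_dvd (Subgroup.index_dvd_of_le inf_le_left) (Subgroup.index_dvd_of_le inf_le_right)

/-- Two systems agreeing modulo `N` are conjugate by an element of `N`. -/
theorem conj_in_normal [Group.IsSolvable G] {K L : Nat.Primes → Subgroup G} (hK : IsComplementSystem K)
    (hL : IsComplementSystem L) (N : Subgroup G) [N.Normal] (h : ∀ p, K p ⊔ N = L p ⊔ N) :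
    ∃ n ∈ N, ∀ p, MulAut.conj n • K p = L p := by
  classical
  have key : ∀ σ : Finset Nat.Primes, ∃ n ∈ N, ∀ p ∈ σ, MulAut.conj n • K p = L p := by
    intro σ
    induction σ using Finset.induction with
    | empty => exact ⟨1, N.one_mem, fun p hp => absurd hp (Finset.notMem_empty p)⟩
    | @insert a s ha ih =>
      obtain ⟨n, hn, hns⟩ := ih
      have hle : MulAut.conj n • K a ≤ L a ⊔ N := by
        intro x hx
        rw [mem_conj_smul_iff] at hx
        have h1 : n⁻¹ * x * n ∈ L a ⊔ N := h a ▸ Subgroup.mem_sup_left hx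
        have := Subgroup.mul_mem _ (Subgroup.mul_mem _ (Subgroup.mem_sup_right hn) h1)
          (Subgroup.inv_mem _ (Subgroup.mem_sup_right hn))
        simpa [mul_assoc] using this
      obtain ⟨x, hx, hxe⟩ := exists_conj_eq (p := (a : ℕ)) (hL a) (isPComp_conj (hK a) n) N hle
      have hc : ((L a).subgroupOf N).index.Coprime ((s.inf L).subgroupOf N).index := by
        refine Nat.Coprime.coprime_dvd_left (relIndex_dvd_index' (L a) N)
          (Nat.Coprime.coprime_dvd_right (relIndex_dvd_index' (s.inf L) N) ?_)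
        rw [hL a, index_inf_system hL]
        exact Nat.Coprime.prod_right fun q hq => Nat.Coprime.pow _ _
          ((Nat.coprime_primes a.2 q.2).mpr fun e => ha (Subtype.ext e ▸ hq))
      obtain ⟨l, hl, t, ht, he⟩ := Wielandt3.mul_eq_top hc ⟨x, hx⟩
      refine ⟨(t : G) * n, N.mul_mem t.2 hn, fun p hp => ?_⟩
      rw [← conj_smul_mul]
      rcases Finset.mem_insert.mp hp with rfl | hp
      · have e : (t : G) = (l : G)⁻¹ * x := by
          rw [show x = (l : G) * t from congrArg Subtype.val he, inv_mul_cancel_left]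
        rw [e, ← conj_smul_mul, hxe, Subgroup.conj_smul_eq_self_of_mem (H := L p) (h := (l : G)⁻¹) ((L p).inv_mem hl)]
      · rw [hns p hp, Subgroup.conj_smul_eq_self_of_mem (H := L p) (h := (t : G)) ((Finset.inf_le (f := L) hp : s.inf L ≤ L p) ht)]
  obtain ⟨n, hn, hσ⟩ := key ((Nat.card G).primeFactors.subtype Nat.Prime)
  refine ⟨n, hn, fun p => ?_⟩
  by_cases hp : (p : ℕ) ∣ Nat.card G
  · exact hσ p (Finset.mem_subtype.mpr (Nat.mem_primeFactors.mpr ⟨p.2, hp, Nat.card_pos.ne'⟩))
  · rw [eq_top_of_not_dvd hK p hp, eq_top_of_not_dvd hL p hp]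
    exact top_unique fun x _ => mem_conj_smul_iff.mpr (Subgroup.mem_top _)

theorem systems_conjugate [Group.IsSolvable G] {K L : Nat.Primes → Subgroup G} (hK : IsComplementSystem K)
    (hL : IsComplementSystem L) : ∃ g : G, ∀ p, MulAut.conj g • K p = L p := by
  obtain ⟨g, -, h⟩ := conj_in_normal hK hL ⊤ fun p => by simp
  exact ⟨g, h⟩

theorem map_system {X : Type v} [Group X] [Finite X] {K : Nat.Primes → Subgroup G} (hK : IsComplementSystem K)
    {f : G →* X} (hf : Function.Surjective f) : IsComplementSystem (fun p => (K p).map f) :=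
  fun p => isPComp_map (p := (p : ℕ)) (hK p) hf

theorem systemNormalizer_map [Group.IsSolvable G] {K : Nat.Primes → Subgroup G} (hK : IsComplementSystem K)
    {X : Type v} [Group X] [Finite X] (f : G →* X) (hf : Function.Surjective f) :
    systemNormalizer (fun p => (K p).map f) = (systemNormalizer K).map f := by
  refine le_antisymm (fun y hy => ?_) ?_
  · obtain ⟨g, rfl⟩ := hf y
    rw [mem_systemNormalizer] at hy
    obtain ⟨n, hn, he⟩ := conj_in_normal (isComplementSystem_conj hK g) hK f.ker fun p => by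
      rw [← Subgroup.comap_map_eq, ← Subgroup.comap_map_eq, map_conj, hy p]
    refine ⟨n * g, mem_systemNormalizer.mpr fun p => ?_, by rw [map_mul, MonoidHom.mem_ker.mp hn, one_mul]⟩
    rw [← conj_smul_mul]; exact he p
  · rintro _ ⟨g, hg, rfl⟩
    rw [SetLike.mem_coe, mem_systemNormalizer] at hg
    exact mem_systemNormalizer.mpr fun p => by rw [← map_conj, hg p]

theorem system_normalizer_isNilpotent {K : Nat.Primes → Subgroup G} (hK : IsComplementSystem K) :
    Group.IsNilpotent (systemNormalizer K) := by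
  refine Schmidt.nilpotent_of_forall_complement fun p hp => ?_
  haveI := Fact.mk hp
  set D := systemNormalizer K
  have hle : D ≤ Subgroup.normalizer (K ⟨p, hp⟩ : Set G) := iInf_le _ _
  have hN : IsPComp p ((K ⟨p, hp⟩).subgroupOf D) :=
    isPComp_subgroupOf (hK ⟨p, hp⟩) (relIndex_dvd_index_of_le_normalizer hle)
  obtain ⟨P⟩ : Nonempty (Sylow p D) := inferInstance
  refine ⟨P, _, Subgroup.normal_subgroupOf_of_le_normalizer hle, ?_⟩
  have hP : Nat.card (P : Subgroup D) = ((K ⟨p, hp⟩).subgroupOf D).index := by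
    rw [hN, P.card_eq_multiplicity]
  refine Subgroup.isComplement'_of_coprime (by rw [hP, Subgroup.card_mul_index]) ?_
  rw [P.card_eq_multiplicity]
  exact ((hp.coprime_iff_not_dvd.mpr (not_dvd_card hN)).pow_left _).symm

/-- In a nilpotent group the `p`-complements are normal. -/
theorem normal_of_nilpotent [hp : Fact p.Prime] (hG : Group.IsNilpotent G) {K : Subgroup G} (hK : IsPComp p K) :
    K.Normal := by
  have hn : ∀ (q : ℕ) [Fact q.Prime] (P : Sylow q G), (P : Subgroup G).Normal := fun q hq P =>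
    (Group.isNilpotent_of_finite_tfae.out 0 3 rfl rfl |>.mp hG) q hq P
  let S : {q : Nat.Primes // (q : ℕ) ≠ p} → Subgroup G := fun q => ((default : Sylow (q.1 : ℕ) G) : Subgroup G)
  have hS : ∀ q, (S q).Normal := fun q => hn _ _
  have hle : (⨆ q, S q) ≤ K := iSup_le fun q => by
    haveI := hS q
    refine normal_le hK (S q) fun hd => q.2 ?_
    obtain ⟨k, hk⟩ := IsPGroup.iff_card.mp (default : Sylow (q.1 : ℕ) G).isPGroup'
    exact ((Nat.prime_dvd_prime_iff_eq hp.out q.1.2).mp (hp.out.dvd_of_dvd_pow (hk ▸ hd))).symm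
  have he : (⨆ q, S q) = K := by
    refine Subgroup.eq_of_le_of_card_ge hle (Nat.le_of_dvd Nat.card_pos ?_)
    refine (Nat.dvd_iff_prime_pow_dvd_dvd _ _).mpr fun q k hq hd => ?_
    rcases Nat.eq_zero_or_pos k with rfl | hk
    · simp
    have hqp : q ≠ p := fun e => not_dvd_card hK (e ▸ (dvd_pow_self q hk.ne').trans hd)
    haveI := Fact.mk hq
    refine dvd_trans ?_ (Subgroup.card_dvd_of_le (le_iSup S ⟨⟨q, hq⟩, hqp⟩))
    show q ^ k ∣ Nat.card (default : Sylow q G)
    exact (default : Sylow q G).pow_dvd_card_of_pow_dvd_card (hd.trans (Subgroup.card_subgroup_dvd_card _))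
  rw [← he]
  haveI := hS
  exact Subgroup.iSup_normal S

/-- The `p'`-part of a nilpotent subgroup. -/
theorem exists_pPart [hp : Fact p.Prime] {H : Subgroup G} (hH : Group.IsNilpotent H) :
    ∃ H' : Subgroup G, H' ≤ H ∧ ¬ p ∣ Nat.card H' ∧ (∃ k, H'.relIndex H = p ^ k) ∧
      ∀ U ≤ H, ¬ p ∣ Nat.card U → U ≤ H' := by
  haveI := hH
  haveI : Group.IsSolvable H := inferInstance
  obtain ⟨L, hL⟩ := exists_isPComp (G := H) (p := p)
  haveI := normal_of_nilpotent hH hL
  refine ⟨L.map H.subtype, Subgroup.map_subtype_le _, ?_, ⟨(Nat.card H).factorization p, ?_⟩, fun U hU hUp => ?_⟩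
  · rw [Subgroup.card_map_of_injective H.subtype_injective]; exact not_dvd_card hL
  · rw [Subgroup.relIndex, Subgroup.subgroupOf, Subgroup.comap_map_eq_self_of_injective H.subtype_injective]
    exact hL
  · intro x hx
    refine ⟨⟨x, hU hx⟩, ?_, rfl⟩
    have h1 : orderOf (QuotientGroup.mk' L ⟨x, hU hx⟩) ∣ orderOf x := by
      have := orderOf_map_dvd (QuotientGroup.mk' L) ⟨x, hU hx⟩
      rwa [Subgroup.orderOf_mk] at this
    have h2 : orderOf (QuotientGroup.mk' L ⟨x, hU hx⟩) ∣ p ^ (Nat.card H).factorization p := by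
      rw [← hL, Subgroup.index_eq_card]; exact orderOf_dvd_natCard _
    have hc : (orderOf x).Coprime (p ^ (Nat.card H).factorization p) :=
      ((hp.out.coprime_iff_not_dvd.mpr fun h => hUp (h.trans (Subgroup.orderOf_dvd_natCard U hx))).pow_left _).symm
    exact (QuotientGroup.eq_one_iff _).mp (orderOf_eq_one_iff.mp (Nat.eq_one_of_dvd_coprimes hc h1 h2))

/-- Elements normalising a nilpotent subgroup normalise its `p'`-part. -/
theorem pPart_conj {H H' : Subgroup G} (hle : H' ≤ H) (hc : ¬ p ∣ Nat.card H')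
    (hmax : ∀ U ≤ H, ¬ p ∣ Nat.card U → U ≤ H') {g : G} (hg : g ∈ Subgroup.normalizer (H : Set G)) :
    MulAut.conj g • H' = H' := by
  refine Subgroup.eq_of_le_of_card_ge (hmax _ ?_ (by rwa [card_conj_smul])) (card_conj_smul g H').ge
  intro x hx
  rw [← conj_eq_iff_mem.mpr hg, mem_conj_smul_iff]
  exact hle (mem_conj_smul_iff.mp hx)

theorem systemNormalizer_eq_top_of_nilpotent (hG : Group.IsNilpotent G) {K : Nat.Primes → Subgroup G}
    (hK : IsComplementSystem K) : systemNormalizer K = ⊤ :=
  top_unique fun g _ => mem_systemNormalizer.mpr fun p => by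
    haveI := normal_of_nilpotent (p := (p : ℕ)) hG (hK p)
    exact Subgroup.Normal.conj_smul_eq_self g (K p)

theorem sup_eq_top_of_nilpotent_quotient [Group.IsSolvable G] (F : Subgroup G) [F.Normal]
    (hGF : Group.IsNilpotent (G ⧸ F)) {K : Nat.Primes → Subgroup G} (hK : IsComplementSystem K) :
    systemNormalizer K ⊔ F = ⊤ := by
  have h := systemNormalizer_eq_top_of_nilpotent hGF (map_system hK (QuotientGroup.mk'_surjective F))
  rw [systemNormalizer_map hK _ (QuotientGroup.mk'_surjective F)] at h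
  have h2 := congrArg (Subgroup.comap (QuotientGroup.mk' F)) h
  rwa [Subgroup.comap_map_eq, Subgroup.comap_top, QuotientGroup.ker_mk'] at h2

theorem isSolvable_of_nilpotent_by_nilpotent (F : Subgroup G) [F.Normal] (hF : Group.IsNilpotent F)
    (hGF : Group.IsNilpotent (G ⧸ F)) : Group.IsSolvable G := by
  haveI := hF
  haveI := hGF
  refine Group.isSolvable_of_ker_le_range F.subtype (QuotientGroup.mk' F) ?_
  rw [QuotientGroup.ker_mk', Subgroup.range_subtype]

/-- In a nilpotent-by-nilpotent group system normalisers are Carter subgroups. -/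
theorem isCarter_of_nilpotent_by_nilpotent (F : Subgroup G) [F.Normal] (hF : Group.IsNilpotent F)
    (hGF : Group.IsNilpotent (G ⧸ F)) {K : Nat.Primes → Subgroup G} (hK : IsComplementSystem K) :
    IsCarterSubgroup (systemNormalizer K) := by
  haveI := isSolvable_of_nilpotent_by_nilpotent F hF hGF
  refine ⟨system_normalizer_isNilpotent hK, le_antisymm (fun g hg => ?_) Subgroup.le_normalizer⟩
  set D := systemNormalizer K with hD
  have htop := sup_eq_top_of_nilpotent_quotient F hGF hK
  rw [← hD] at htop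
  have hgm : g ∈ ((D : Set G) * (F : Set G)) := by rw [← Subgroup.mul_normal, htop]; trivial
  obtain ⟨d, hd, x, hx, rfl⟩ := hgm
  refine D.mul_mem hd ?_
  have hxN : x ∈ Subgroup.normalizer (D : Set G) := by
    have := Subgroup.mul_mem _ (Subgroup.inv_mem _ (Subgroup.le_normalizer hd)) hg
    rwa [inv_mul_cancel_left] at this
  refine mem_systemNormalizer.mpr fun q => ?_
  obtain ⟨F', hF'le, hF'c, -, hF'max⟩ := exists_pPart (p := (q : ℕ)) hF
  obtain ⟨D', hD'le, hD'c, ⟨k, hD'i⟩, hD'max⟩ := exists_pPart (p := (q : ℕ)) (system_normalizer_isNilpotent hK)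
  have hF'x := pPart_conj hF'le hF'c hF'max (g := x) (by rw [Subgroup.normalizer_eq_top]; trivial)
  have hD'x := pPart_conj hD'le hD'c hD'max hxN
  haveI : F'.Normal := ⟨fun a ha g => by
    have := pPart_conj hF'le hF'c hF'max (g := g) (by rw [Subgroup.normalizer_eq_top]; trivial)
    rw [← this, mem_conj_smul_iff]
    simpa [mul_assoc] using ha⟩
  haveI : Fact ((q : ℕ)).Prime := inferInstance
  have hFK : F' ≤ K q := normal_le (hK q) F' hF'c
  -- `D'` lies in `K q`
  have hDK : D' ≤ K q := by
    have hle : D' ≤ Subgroup.normalizer (K q : Set G) := hD'le.trans (iInf_le _ _)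
    have h1 : ¬ (q : ℕ) ∣ Nat.card (K q ⊔ D' : Subgroup G) := by
      rw [← card_mul_relIndex (le_sup_left : K q ≤ K q ⊔ D')]
      intro h
      rcases q.2.dvd_mul.mp h with h | h
      · exact not_dvd_card (hK q) h
      · refine hD'c (h.trans ?_)
        rw [relIndex_sup_of_le_normalizer hle]
        exact Subgroup.index_dvd_card _
    rw [← eq_of_le (hK q) le_sup_left h1]
    exact le_sup_right
  -- the product is all of `K q`
  have hsup : F' ⊔ D' = K q := by
    refine le_antisymm (sup_le hFK hDK) fun y hy => ?_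
    have hS : IsPComp (q : ℕ) (D'.map (QuotientGroup.mk' F)) := by
      refine of_dvd (k := k) ?_ fun h => hD'c (h.trans (Subgroup.card_map_dvd _ _))
      have h1 : (D'.map (QuotientGroup.mk' F)).index = (D' ⊔ F).relIndex (D ⊔ F) := by
        rw [htop, Subgroup.relIndex_top_right, Subgroup.index_map, (QuotientGroup.mk' F).range_eq_top_of_surjective (QuotientGroup.mk'_surjective F), Subgroup.index_top, mul_one, QuotientGroup.ker_mk']
      rw [h1, ← hD'i]
      calc (D' ⊔ F).relIndex (D ⊔ F)
        _ = (D' ⊔ F).relIndex D := relIndex_sup_of_le le_sup_right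
        _ ∣ D'.relIndex D := Subgroup.relIndex_dvd_of_le_left _ le_sup_left
    have hKm : (K q).map (QuotientGroup.mk' F) = D'.map (QuotientGroup.mk' F) :=
      eq_of_le hS (Subgroup.map_mono hDK) fun h => not_dvd_card (hK q) (h.trans (Subgroup.card_map_dvd _ _))
    obtain ⟨d', hd', he⟩ := (hKm ▸ Subgroup.mem_map_of_mem _ hy : QuotientGroup.mk' F y ∈ D'.map (QuotientGroup.mk' F))
    obtain ⟨z, hz, rfl⟩ := (QuotientGroup.mk'_eq_mk' F).mp he
    have hzK : z ∈ K q := by
      have := (K q).mul_mem ((K q).inv_mem (hDK hd')) hy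
      rwa [inv_mul_cancel_left] at this
    have hzF : Subgroup.zpowers z ≤ F' := hF'max _ (Subgroup.zpowers_le.mpr hz) fun h =>
      not_dvd_card (hK q) (h.trans (Subgroup.card_dvd_of_le (Subgroup.zpowers_le.mpr hzK)))
    exact Subgroup.mul_mem _ (Subgroup.mem_sup_right hd') (Subgroup.mem_sup_left (hzF (Subgroup.mem_zpowers z)))
  rw [← hsup, Subgroup.smul_sup, hF'x, hD'x]

/-- A Carter subgroup supplementing a nilpotent normal subgroup is a system normaliser. -/
theorem carter_eq_of_sup (F : Subgroup G) [F.Normal] (hF : Group.IsNilpotent F) {C : Subgroup G}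
    (hC : IsCarterSubgroup C) (hCF : C ⊔ F = ⊤) :
    ∃ K : Nat.Primes → Subgroup G, IsComplementSystem K ∧ C = systemNormalizer K ∧
      (∀ p : Nat.Primes, ∀ U ≤ C, ¬ (p : ℕ) ∣ Nat.card U → U ≤ K p) ∧
      ∀ p : Nat.Primes, ∀ M : Subgroup G, ¬ (p : ℕ) ∣ Nat.card M →
        (∀ U ≤ C, ¬ (p : ℕ) ∣ Nat.card U → U ≤ M) → (∀ U ≤ F, ¬ (p : ℕ) ∣ Nat.card U → U ≤ M) → M = K p := by
  choose C' hC'le hC'c hC'i hC'max using fun p : Nat.Primes => exists_pPart (p := (p : ℕ)) hC.1
  choose F' hF'le hF'c hF'i hF'max using fun p : Nat.Primes => exists_pPart (p := (p : ℕ)) hF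
  have hF'n : ∀ p, (F' p).Normal := fun p => ⟨fun a ha g => by
    have := pPart_conj (hF'le p) (hF'c p) (hF'max p) (g := g) (by rw [Subgroup.normalizer_eq_top]; trivial)
    rw [← this, mem_conj_smul_iff]
    simpa [mul_assoc] using ha⟩
  have hK : IsComplementSystem (fun p => C' p ⊔ F' p) := fun p => by
    haveI := hF'n p
    obtain ⟨a, ha⟩ := hC'i p
    obtain ⟨b, hb⟩ := hF'i p
    refine of_dvd (p := (p : ℕ)) (k := b + a) ?_ ?_
    · set S := C' p ⊔ F' p
      rw [← Subgroup.relIndex_mul_index (le_sup_left : S ≤ S ⊔ F), relIndex_sup_left', pow_add]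
      refine mul_dvd_mul ((Subgroup.relIndex_dvd_of_le_left _ le_sup_right).trans hb.dvd) ?_
      rw [← Subgroup.relIndex_top_right, ← hCF, relIndex_sup_of_le le_sup_right, ← ha]
      exact Subgroup.relIndex_dvd_of_le_left _ (le_sup_left.trans le_sup_left)
    · rw [← card_mul_relIndex (le_sup_left : C' p ≤ C' p ⊔ F' p), relIndex_sup_left']
      intro h
      rcases p.2.dvd_mul.mp h with h | h
      · exact hC'c p h
      · exact hF'c p (h.trans (Subgroup.index_dvd_card _))
  refine ⟨_, hK, ?_, fun p U hU hUp => (hC'max p U hU hUp).trans le_sup_left, fun p M hM h1 h2 =>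
    eq_of_le (hK p) (sup_le (h1 _ (hC'le p) (hC'c p)) (h2 _ (hF'le p) (hF'c p))) hM⟩
  have hle : C ≤ systemNormalizer (fun p => C' p ⊔ F' p) := fun c hc => mem_systemNormalizer.mpr fun p => by
    haveI := hF'n p
    rw [Subgroup.smul_sup, pPart_conj (hC'le p) (hC'c p) (hC'max p) (Subgroup.le_normalizer hc),
      Subgroup.Normal.conj_smul_eq_self c (F' p)]
  exact eq_of_selfNormalizing hC hle (system_normalizer_isNilpotent hK)

omit [Finite G] in
theorem isNilpotent_congr {X : Type v} [Group X] (e : G ≃* X) (h : Group.IsNilpotent G) : Group.IsNilpotent X := by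
  haveI := h
  exact Group.nilpotent_of_surjective e.toMonoidHom e.surjective

theorem isCarter_conj {C : Subgroup G} (hC : IsCarterSubgroup C) (g : G) :
    IsCarterSubgroup (MulAut.conj g • C) := by
  refine ⟨isNilpotent_congr (Subgroup.equivSMul _ _) hC.1, le_antisymm (fun x hx => ?_) Subgroup.le_normalizer⟩
  rw [mem_conj_smul_iff, ← hC.2, ← conj_eq_iff_mem]
  have h := congrArg (MulAut.conj g⁻¹ • ·) (conj_eq_iff_mem.mpr hx)
  simp only [conj_smul_mul, inv_mul_cancel, map_one, one_smul] at h
  rw [← mul_assoc] at h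
  exact h

theorem isCarter_subgroupOf {C J : Subgroup G} (hC : IsCarterSubgroup C) (h : C ≤ J) :
    IsCarterSubgroup (C.subgroupOf J) := by
  refine ⟨isNilpotent_congr (Subgroup.subgroupOfEquivOfLe h).symm hC.1, le_antisymm (fun x hx => ?_) Subgroup.le_normalizer⟩
  show (x : G) ∈ C
  rw [← hC.2, ← conj_eq_iff_mem]
  have h1 := congrArg (Subgroup.map J.subtype) (conj_eq_iff_mem.mpr hx)
  rwa [map_conj, Subgroup.map_subgroupOf_eq_of_le h] at h1

theorem isNilpotent_quotient_subgroupOf {C F J : Subgroup G} [F.Normal] (hC : Group.IsNilpotent C)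
    (hJ : C ⊔ F = J) : Group.IsNilpotent (J ⧸ F.subgroupOf J) := by
  haveI := hC
  have hle : C ≤ J := hJ ▸ le_sup_left
  refine Group.nilpotent_of_surjective ((QuotientGroup.mk' (F.subgroupOf J)).comp (Subgroup.inclusion hle)) fun y => ?_
  induction y using QuotientGroup.induction_on with
  | _ j =>
    have hj : (j : G) ∈ ((C : Set G) * (F : Set G)) := by rw [← Subgroup.mul_normal, hJ]; exact j.2
    obtain ⟨c, hc, f, hf, e⟩ := hj
    refine ⟨⟨c, hc⟩, (QuotientGroup.mk'_eq_mk' _).mpr ⟨⟨f, hJ ▸ Subgroup.mem_sup_right hf⟩, hf, Subtype.ext e⟩⟩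

/-- A Carter subgroup times a nilpotent normal subgroup is self-normalising. -/
theorem normalizer_carter_sup [Group.IsSolvable G] (F : Subgroup G) [F.Normal] (hF : Group.IsNilpotent F)
    {C : Subgroup G} (hC : IsCarterSubgroup C) :
    Subgroup.normalizer ((C ⊔ F : Subgroup G) : Set G) = C ⊔ F := by
  refine le_antisymm (fun g hg => ?_) Subgroup.le_normalizer
  set J := C ⊔ F with hJ
  have hgJ := conj_eq_iff_mem.mpr hg
  have hle2 : MulAut.conj g • C ≤ J := hgJ ▸ Subgroup.pointwise_smul_le_pointwise_smul_iff.mpr le_sup_left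
  have hF' : Group.IsNilpotent (F.subgroupOf J) :=
    isNilpotent_congr (Subgroup.subgroupOfEquivOfLe le_sup_right).symm hF
  have key : ∀ {A : Subgroup G} (hA : IsCarterSubgroup A) (hle : A ≤ J), A ⊔ F = J →
      ∃ L : Nat.Primes → Subgroup J, IsComplementSystem L ∧ A.subgroupOf J = systemNormalizer L := fun {A} hA hle e => by
    obtain ⟨L, hL, he, -⟩ := carter_eq_of_sup (F.subgroupOf J) hF' (isCarter_subgroupOf hA hle)
      (by rw [← Subgroup.subgroupOf_sup hle le_sup_right, e, Subgroup.subgroupOf_self])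
    exact ⟨L, hL, he⟩
  have e2 : MulAut.conj g • C ⊔ F = J := by
    conv_rhs => rw [← hgJ, hJ, Subgroup.smul_sup, Subgroup.Normal.conj_smul_eq_self g F]
  obtain ⟨L₁, hL₁, h1⟩ := key hC le_sup_left rfl
  obtain ⟨L₂, hL₂, h2⟩ := key (isCarter_conj hC g) hle2 e2
  obtain ⟨j, hj⟩ := systems_conjugate hL₁ hL₂
  have h3 : MulAut.conj j • C.subgroupOf J = (MulAut.conj g • C).subgroupOf J := by
    rw [h1, ← systemNormalizer_conj, h2]
    exact congrArg _ (funext hj)
  have h4 := congrArg (Subgroup.map J.subtype) h3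
  rw [map_conj, Subgroup.map_subgroupOf_eq_of_le le_sup_left, Subgroup.map_subgroupOf_eq_of_le hle2] at h4
  have h5 : (j : G)⁻¹ * g ∈ C := by
    rw [← hC.2, ← conj_eq_iff_mem, ← conj_smul_mul, ← h4]
    simp [conj_smul_mul]
  have := J.mul_mem j.2 ((le_sup_left : C ≤ J) h5)
  rwa [mul_inv_cancel_left] at this

theorem self_normalizing_map {H' : Type v} [Group H'] {f : G →* H'} (hf : Function.Surjective f) {J : Subgroup G}
    (hker : f.ker ≤ J) (hJ : Subgroup.normalizer (J : Set G) = J) :
    Subgroup.normalizer ((J.map f : Subgroup H') : Set H') = J.map f := by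
  refine le_antisymm (fun y hy => ?_) Subgroup.le_normalizer
  obtain ⟨g, rfl⟩ := hf y
  refine Subgroup.mem_map_of_mem f ?_
  rw [← hJ, Subgroup.mem_normalizer_iff]
  intro x
  have h := Subgroup.mem_normalizer_iff.mp hy (f x)
  rw [← map_mul, ← map_inv, ← map_mul] at h
  have hc : ∀ z, f z ∈ J.map f ↔ z ∈ J := fun z => by
    rw [← Subgroup.mem_comap, Subgroup.comap_map_eq, sup_eq_left.mpr hker]
  rwa [hc, hc] at h

theorem carter_sup_eq_top [Group.IsSolvable G] (F : Subgroup G) [F.Normal] (hF : Group.IsNilpotent F)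
    (hGF : Group.IsNilpotent (G ⧸ F)) {C : Subgroup G} (hC : IsCarterSubgroup C) : C ⊔ F = ⊤ := by
  by_contra hne
  haveI := hGF
  set f := QuotientGroup.mk' F
  have hker : f.ker ≤ C ⊔ F := (QuotientGroup.ker_mk' F).le.trans le_sup_right
  have hs := self_normalizing_map (QuotientGroup.mk'_surjective F) hker (normalizer_carter_sup F hF hC)
  have hlt : (C ⊔ F).map f < ⊤ := lt_top_iff_ne_top.mpr fun e => hne (by
    have := congrArg (Subgroup.comap f) e
    rwa [Subgroup.comap_map_eq, Subgroup.comap_top, sup_eq_left.mpr hker] at this)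
  exact (Group.normalizerCondition_of_isNilpotent (G := G ⧸ F) _ hlt).ne hs.symm

/-- Every Carter subgroup contains a system normaliser. -/
theorem exists_system_le_carter : ∀ (n : ℕ) {G : Type u} [Group G] [Finite G] [Group.IsSolvable G], Nat.card G = n →
    ∀ {C : Subgroup G}, IsCarterSubgroup C → ∃ K : Nat.Primes → Subgroup G, IsComplementSystem K ∧
      systemNormalizer K ≤ C ∧ ∀ p : Nat.Primes, ∀ U ≤ C, ¬ (p : ℕ) ∣ Nat.card U → U ≤ K p := by
  intro n
  induction n using Nat.strong_induction_on with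
  | _ n ih =>
  intro G _ _ _ hn C hC
  rcases subsingleton_or_nontrivial G with hs | hnt
  · obtain ⟨K, hK⟩ := exists_system (G := G)
    exact ⟨K, hK, fun x _ => Subsingleton.elim (1 : G) x ▸ C.one_mem,
      fun p U _ _ x _ => Subsingleton.elim (1 : G) x ▸ (K p).one_mem⟩
  obtain ⟨N, hNn, -, hN0, hNmin⟩ := CfsgLib.exists_minimal_normal (N := (⊤ : Subgroup G)) top_ne_bot
  haveI := hNn
  obtain ⟨hNc, p₀, hp₀, hNp⟩ := CfsgLib.minimal_normal_elementary hN0 inferInstance hNmin
  haveI := hNc
  have hNnil : Group.IsNilpotent N := by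
    letI : CommGroup N := { (inferInstance : Group N) with mul_comm := fun a b => IsMulCommutative.is_comm.comm a b }
    exact CommGroup.isNilpotent
  set f := QuotientGroup.mk' N
  set J := C ⊔ N with hJ
  have hker : f.ker ≤ J := (QuotientGroup.ker_mk' N).le.trans le_sup_right
  have hmapJ : J.map f = C.map f := by
    rw [hJ, Subgroup.map_sup, (Subgroup.map_eq_bot_iff N).mpr (QuotientGroup.ker_mk' N).ge, sup_bot_eq]
  have hCq : IsCarterSubgroup (C.map f) := by
    refine ⟨?_, ?_⟩
    · haveI := hC.1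
      exact Group.nilpotent_of_surjective (f.subgroupMap C) (f.subgroupMap_surjective C)
    · rw [← hmapJ]
      exact self_normalizing_map (QuotientGroup.mk'_surjective N) hker (normalizer_carter_sup N hNnil hC)
  obtain ⟨Kb, hKb, hDb, hUb⟩ := ih (Nat.card (G ⧸ N)) (by
    rw [← hn, ← N.card_mul_index, ← Subgroup.index_eq_card]
    refine lt_mul_of_one_lt_left (Nat.pos_of_ne_zero Subgroup.index_ne_zero_of_finite) ?_
    haveI : Nontrivial N := (Subgroup.nontrivial_iff_ne_bot N).mpr hN0
    exact Finite.one_lt_card) rfl hCq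
  obtain ⟨K₀, hK₀⟩ := exists_system (G := G)
  obtain ⟨gq, hgq⟩ := systems_conjugate (map_system hK₀ (QuotientGroup.mk'_surjective N)) hKb
  obtain ⟨g, rfl⟩ := QuotientGroup.mk'_surjective N gq
  set K₁ := fun p => MulAut.conj g • K₀ p with hK₁d
  have hK₁ : IsComplementSystem K₁ := isComplementSystem_conj hK₀ g
  have hm1 : ∀ p, (K₁ p).map f = Kb p := fun p => by rw [← hgq p]; exact map_conj f g (K₀ p)
  have hin : ∀ p : Nat.Primes, (p : ℕ) ≠ p₀ → N ≤ K₁ p := fun p hp => normal_le (hK₁ p) N fun hd => hp (by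
    haveI := Fact.mk p.2
    obtain ⟨x, hx⟩ := exists_prime_orderOf_dvd_card' (G := N) (p : ℕ) hd
    have h1 : orderOf x ∣ p₀ := orderOf_dvd_of_pow_eq_one (Subtype.ext (hNp x x.2))
    rw [hx] at h1
    exact (Nat.prime_dvd_prime_iff_eq p.2 hp₀).mp h1)
  have hsup : ∀ p : Nat.Primes, ∀ U ≤ C, ¬ (p : ℕ) ∣ Nat.card U → U ≤ K₁ p ⊔ N := fun p U hU hUp => by
    have h1 := hUb p (U.map f) (Subgroup.map_mono hU) fun h => hUp (h.trans (Subgroup.card_map_dvd U f))
    rw [← hm1, Subgroup.map_le_iff_le_comap, Subgroup.comap_map_eq, QuotientGroup.ker_mk'] at h1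
    exact h1
  obtain ⟨C₀, hC₀le, hC₀c, -, hC₀max⟩ := exists_pPart (p := p₀) (hp := ⟨hp₀⟩) hC.1
  obtain ⟨m, hm, hmC⟩ := exists_conj_le (p := p₀) (hp := ⟨hp₀⟩) (hK₁ ⟨p₀, hp₀⟩) N (hsup ⟨p₀, hp₀⟩ C₀ hC₀le hC₀c) hC₀c
  set K := fun p => MulAut.conj m⁻¹ • K₁ p with hKd
  have hK : IsComplementSystem K := isComplementSystem_conj hK₁ m⁻¹
  have hUK : ∀ p : Nat.Primes, ∀ U ≤ C, ¬ (p : ℕ) ∣ Nat.card U → U ≤ K p := by
    intro p U hU hUp x hx
    show x ∈ MulAut.conj m⁻¹ • K₁ p
    by_cases hp : (p : ℕ) = p₀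
    · rw [mem_conj_smul_iff, inv_inv]
      obtain rfl : p = ⟨p₀, hp₀⟩ := Subtype.ext hp
      exact hmC (mem_conj_smul_iff.mpr (by simpa [mul_assoc] using hC₀max U hU hUp hx))
    · rw [Subgroup.conj_smul_eq_self_of_mem ((K₁ p).inv_mem (hin p hp hm))]
      have := hsup p U hU hUp hx
      rwa [sup_eq_left.mpr (hin p hp)] at this
  have hm2 : ∀ p, (K p).map f = Kb p := fun p => by
    rw [hKd, map_conj, hm1, show f m⁻¹ = 1 from (QuotientGroup.eq_one_iff _).mpr (N.inv_mem hm), map_one, one_smul]
  have hDJ : systemNormalizer K ≤ J := by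
    have h1 : (systemNormalizer K).map f ≤ J.map f := by
      rw [← systemNormalizer_map hK f (QuotientGroup.mk'_surjective N), hmapJ, funext hm2]
      exact hDb
    rw [Subgroup.map_le_iff_le_comap, Subgroup.comap_map_eq, sup_eq_left.mpr hker] at h1
    exact h1
  obtain ⟨L, hL, hCL, -, hLu⟩ := carter_eq_of_sup (N.subgroupOf J)
    (isNilpotent_congr (Subgroup.subgroupOfEquivOfLe le_sup_right).symm hNnil) (isCarter_subgroupOf hC le_sup_left)
    (by rw [← Subgroup.subgroupOf_sup le_sup_left le_sup_right, Subgroup.subgroupOf_self])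
  have hLK : ∀ p, (K p).subgroupOf J = L p := fun p => by
    refine hLu p _ (fun h => not_dvd_card (p := (p : ℕ)) (hK p) (h.trans ?_)) (fun U hU hUp => ?_) (fun U hU hUp => ?_)
    · rw [← Subgroup.card_map_of_injective J.subtype_injective, Subgroup.subgroupOf_map_subtype]
      exact Subgroup.card_dvd_of_le inf_le_left
    · intro x hx
      refine hUK p (U.map J.subtype) ?_ (by rwa [Subgroup.card_map_of_injective J.subtype_injective]) ⟨x, hx, rfl⟩
      rw [Subgroup.map_le_iff_le_comap]; exact hU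
    · intro x hx
      by_cases hp : (p : ℕ) = p₀
      · have : x = 1 := by
          by_contra hx1
          refine hUp ?_
          haveI := Fact.mk p.2
          rw [← orderOf_eq_prime (p := (p : ℕ)) (x := x) (Subtype.ext (by simpa [hp] using hNp x (hU hx))) hx1]
          exact Subgroup.orderOf_dvd_natCard U hx
        rw [this]; exact Subgroup.one_mem _
      · show (x : G) ∈ MulAut.conj m⁻¹ • K₁ p
        rw [Subgroup.conj_smul_eq_self_of_mem ((K₁ p).inv_mem (hin p hp hm))]
        exact hin p hp (hU hx)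
  refine ⟨K, hK, fun x hx => ?_, hUK⟩
  have h1 : (⟨x, hDJ hx⟩ : J) ∈ systemNormalizer L := by
    rw [mem_systemNormalizer] at hx ⊢
    intro p
    rw [← hLK p]
    ext y
    rw [mem_conj_smul_iff, Subgroup.mem_subgroupOf, Subgroup.mem_subgroupOf]
    have hy := (Subgroup.mem_normalizer_iff''.mp (conj_eq_iff_mem.mp (hx p)) (y : G))
    simpa using hy.symm
  exact Subgroup.mem_subgroupOf.mp (hCL ▸ h1)

theorem exists_carter : ∀ (n : ℕ) (G : Type u) [Group G] [Finite G] [Group.IsSolvable G], Nat.card G = n →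
    ∃ C : Subgroup G, IsCarterSubgroup C := by
  intro n
  induction n using Nat.strong_induction_on with
  | _ n ih =>
  intro G _ _ _ hn
  rcases subsingleton_or_nontrivial G with hs | hnt
  · haveI : Subsingleton (⊤ : Subgroup G) := ⟨fun a b => Subtype.ext (Subsingleton.elim _ _)⟩
    exact ⟨⊤, Group.isNilpotent_of_subsingleton, top_unique Subgroup.le_normalizer⟩
  obtain ⟨N, hNn, -, hN0, hNmin⟩ := CfsgLib.exists_minimal_normal (N := (⊤ : Subgroup G)) top_ne_bot
  haveI := hNn
  obtain ⟨hNc, p₀, hp₀, hNp⟩ := CfsgLib.minimal_normal_elementary hN0 inferInstance hNmin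
  haveI := hNc
  obtain ⟨Cb, hCb⟩ := ih (Nat.card (G ⧸ N)) (by
    rw [← hn, ← N.card_mul_index, ← Subgroup.index_eq_card]
    refine lt_mul_of_one_lt_left (Nat.pos_of_ne_zero Subgroup.index_ne_zero_of_finite) ?_
    haveI : Nontrivial N := (Subgroup.nontrivial_iff_ne_bot N).mpr hN0
    exact Finite.one_lt_card) (G ⧸ N) rfl
  set f := QuotientGroup.mk' N
  set J := Cb.comap f with hJ
  have hNJ : N ≤ J := fun x hx => by
    show f x ∈ Cb
    rw [show f x = 1 from (QuotientGroup.eq_one_iff x).mpr hx]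
    exact Cb.one_mem
  have hNnil : Group.IsNilpotent (N.subgroupOf J) := isNilpotent_congr (Subgroup.subgroupOfEquivOfLe hNJ).symm (by
    letI : CommGroup N := { (inferInstance : Group N) with mul_comm := fun a b => IsMulCommutative.is_comm.comm a b }
    exact CommGroup.isNilpotent)
  have hJq : Group.IsNilpotent (J ⧸ N.subgroupOf J) := by
    haveI := hCb.1
    have e : N.subgroupOf J = (f.subgroupComap Cb).ker := by
      ext x
      rw [Subgroup.mem_subgroupOf, MonoidHom.mem_ker, ← QuotientGroup.eq_one_iff (N := N)]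
      exact ⟨fun h => Subtype.ext h, fun h => congrArg Subtype.val h⟩
    exact isNilpotent_congr ((QuotientGroup.quotientMulEquivOfEq e).trans (QuotientGroup.quotientKerEquivOfSurjective _ (MonoidHom.subgroupComap_surjective_of_surjective f Cb (QuotientGroup.mk'_surjective N)))).symm hCb.1
  obtain ⟨L, hL⟩ := exists_system (G := J)
  have hD := isCarter_of_nilpotent_by_nilpotent (N.subgroupOf J) hNnil hJq hL
  have htop := sup_eq_top_of_nilpotent_quotient (N.subgroupOf J) hJq hL
  refine ⟨(systemNormalizer L).map J.subtype,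
    isNilpotent_congr ((systemNormalizer L).equivMapOfInjective J.subtype J.subtype_injective) hD.1,
    le_antisymm (fun g hg => ?_) Subgroup.le_normalizer⟩
  have hsupJ : (systemNormalizer L).map J.subtype ⊔ N = J := by
    have := congrArg (Subgroup.map J.subtype) htop
    rwa [Subgroup.map_sup, Subgroup.map_subgroupOf_eq_of_le hNJ, ← MonoidHom.range_eq_map, Subgroup.range_subtype] at this
  have hgJ : g ∈ J := by
    have h1 : MulAut.conj g • J = J := by
      rw [← hsupJ, Subgroup.smul_sup, conj_eq_iff_mem.mpr hg, Subgroup.Normal.conj_smul_eq_self g N]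
    have h2 := congrArg (Subgroup.map f) h1
    rw [map_conj, hJ, Subgroup.map_comap_eq_self_of_surjective (QuotientGroup.mk'_surjective N), conj_eq_iff_mem, hCb.2] at h2
    exact h2
  refine ⟨⟨g, hgJ⟩, ?_, rfl⟩
  rw [SetLike.mem_coe, ← hD.2, ← conj_eq_iff_mem]
  refine Subgroup.map_injective J.subtype_injective ?_
  rw [map_conj]
  exact conj_eq_iff_mem.mpr hg

theorem le_carter [Group.IsSolvable G] {K : Nat.Primes → Subgroup G} (hK : IsComplementSystem K) :
    ∃ C : Subgroup G, IsCarterSubgroup C ∧ systemNormalizer K ≤ C := by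
  obtain ⟨C, hC⟩ := exists_carter (Nat.card G) G rfl
  obtain ⟨L, hL, hLC, -⟩ := exists_system_le_carter _ rfl hC
  obtain ⟨g, hg⟩ := systems_conjugate hL hK
  refine ⟨MulAut.conj g • C, isCarter_conj hC g, ?_⟩
  rw [← funext hg, systemNormalizer_conj]
  exact Subgroup.pointwise_smul_le_pointwise_smul_iff.mpr hLC

end CfsgLib.HallSystem
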