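import Mathlib

/-! Frattini subgroup lemmas. -/

set_option autoImplicit false

namespace CfsgLib.FrattiniLemmas

open scoped Pointwise

variable {G : Type*} [Group G]

theorem eq_top_of_sup_eq_top [Finite G] {H B : Subgroup G} (hB : B ≤ frattini G) (h : H ⊔ B = ⊤) :
    H = ⊤ :=
  frattini_nongenerating (top_le_iff.mp (h ▸ sup_le_sup_left hB H))

/-- If `B ≤ A` are normal, `B ≤ Φ(G)` and `A/B` is nilpotent then `A` is nilpotent. -/
theorem isNilpotent_of_quotient [Finite G] {A B : Subgroup G} [A.Normal] [B.Normal] (hBA : B ≤ A)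
    (hB : B ≤ frattini G) (h : Group.IsNilpotent (↥A ⧸ B.subgroupOf A)) : Group.IsNilpotent A := by
  refine ((Group.isNilpotent_of_finite_tfae (G := A)).out 0 3).mpr fun p hp S => ?_
  haveI := hp
  -- the image of `S` in `A / B` is a normal, hence characteristic, Sylow subgroup
  set q := QuotientGroup.mk' (B.subgroupOf A) with hq
  have hqs : Function.Surjective q := QuotientGroup.mk'_surjective _
  let S' : Sylow p (↥A ⧸ B.subgroupOf A) := S.mapSurjective hqs
  have hS' : (S' : Subgroup (↥A ⧸ B.subgroupOf A)) = (S : Subgroup A).map q :=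
    Sylow.coe_mapSurjective hqs S
  have hn : (S' : Subgroup (↥A ⧸ B.subgroupOf A)).Normal := by
    have := h
    infer_instance
  set T := ((S : Subgroup A).map q).comap q with hT
  have hTn : T.Normal := by rw [hT, ← hS']; exact hn.comap q
  have hTe : T = (S : Subgroup A) ⊔ B.subgroupOf A := by
    rw [hT, Subgroup.comap_map_eq, hq, QuotientGroup.ker_mk']
  -- `T` is normal in `G`
  have hT' : (T.map A.subtype).Normal := by
    constructor
    rintro _ ⟨t, ht, rfl⟩ g
    obtain ⟨a, ha⟩ := MulAction.exists_smul_eq A S ((MulAut.conjNormal g : MulAut A) • S)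
    have hgt : (MulAut.conjNormal g : MulAut A) t ∈ (MulAut.conjNormal g : MulAut A) • T := Subgroup.smul_mem_pointwise_smul t _ T ht
    refine ⟨(MulAut.conjNormal g : MulAut A) t, ?_, by simp⟩
    rw [hTe] at hgt ⊢
    rw [Subgroup.smul_sup, ← Sylow.pointwise_smul_def, ← ha, Sylow.coe_subgroup_smul] at hgt
    refine SetLike.le_def.mp (sup_le ?_ ?_) hgt
    · rw [← hTe]
      intro x hx
      obtain ⟨y, hy, rfl⟩ := hx
      exact hTn.conj_mem y (hTe ▸ Subgroup.mem_sup_left hy) a
    · intro x hx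
      obtain ⟨y, hy, rfl⟩ := hx
      refine Subgroup.mem_sup_right ?_
      show ((((MulAut.conjNormal g : MulAut A) y) : A) : G) ∈ B
      rw [MulAut.conjNormal_apply]
      exact ‹B.Normal›.conj_mem _ hy g
  set N := T.map A.subtype with hN
  -- Frattini argument
  let S₁ : Sylow p N := S.comapOfInjective (Subgroup.inclusion (Subgroup.map_subtype_le T))
    (Subgroup.inclusion_injective _) (fun x hx => by
      refine ⟨⟨(x : G), ⟨x, hTe ▸ Subgroup.mem_sup_left hx, rfl⟩⟩, Subtype.ext rfl⟩)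
  have hfr := Sylow.normalizer_sup_eq_top S₁
  have hS₁ : (S₁ : Subgroup N).map N.subtype = (S : Subgroup A).map A.subtype := by
    ext x
    constructor
    · rintro ⟨y, hy, rfl⟩
      exact ⟨Subgroup.inclusion (Subgroup.map_subtype_le T) y, hy, rfl⟩
    · rintro ⟨y, hy, rfl⟩
      exact ⟨⟨(y : G), ⟨y, hTe ▸ Subgroup.mem_sup_left hy, rfl⟩⟩, hy, rfl⟩
  rw [hS₁] at hfr
  set M := Subgroup.normalizer (((S : Subgroup A).map A.subtype : Subgroup G) : Set G) with hM
  have hNM : N ≤ M ⊔ B := by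
    rw [hN, hTe, Subgroup.map_sup, Subgroup.map_subgroupOf_eq_of_le hBA]
    exact sup_le_sup_right Subgroup.le_normalizer B
  have htop : M ⊔ B = ⊤ := top_le_iff.mp (hfr ▸ sup_le le_sup_left hNM)
  have hMtop := eq_top_of_sup_eq_top hB htop
  rw [hM] at hMtop
  have hSn : ((S : Subgroup A).map A.subtype).Normal := Subgroup.normalizer_eq_top_iff.mp hMtop
  constructor
  intro x hx a
  obtain ⟨y, hy, hye⟩ := hSn.conj_mem (x : G) ⟨x, hx, rfl⟩ a
  have : y = a * x * a⁻¹ := Subtype.ext hye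
  exact this ▸ hy

/-- `Φ(H) ≤ Φ(G)` for normal `H`. -/
theorem map_frattini_le [Finite G] (H : Subgroup G) [H.Normal] :
    (frattini H).map H.subtype ≤ frattini G := by
  set F := (frattini H).map H.subtype with hF
  have hFH : F ≤ H := Subgroup.map_subtype_le _
  haveI : F.Normal := hF ▸ inferInstance
  by_contra hle
  obtain ⟨M, hM, hFM⟩ : ∃ M : Subgroup G, IsCoatom M ∧ ¬ F ≤ M := by
    by_contra hcon
    refine hle ?_
    simp only [frattini, Order.radical, le_iInf_iff]
    intro M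
    intro hM
    exact by_contra fun h => hcon ⟨M, hM, h⟩
  have htop : M ⊔ F = ⊤ := hM.2 _ (lt_of_le_of_ne le_sup_left fun e => hFM (e ▸ le_sup_right))
  have hH : M.subgroupOf H ⊔ frattini H = ⊤ := by
    refine eq_top_iff.mpr fun x _ => ?_
    have hx : (x : G) ∈ M ⊔ F := htop ▸ Subgroup.mem_top _
    obtain ⟨m, hm, f, hf, hmf⟩ := Subgroup.mem_sup_of_normal_right.mp hx
    obtain ⟨f', hf', rfl⟩ := hf
    have hmH : m ∈ H := by
      have : m = (x : G) * (f' : G)⁻¹ := by rw [← hmf]; simp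
      rw [this]; exact H.mul_mem x.2 (H.inv_mem f'.2)
    rw [show x = ⟨m, hmH⟩ * f' from Subtype.ext hmf.symm]
    exact mul_mem (Subgroup.mem_sup_left hm) (Subgroup.mem_sup_right hf')
  have h2 : M.subgroupOf H = ⊤ := frattini_nongenerating hH
  exact hFM (hFH.trans (Subgroup.subgroupOf_eq_top.mp h2))

theorem le_frattini_of_forall [Finite G] {N : Subgroup G}
    (h : ∀ M : Subgroup G, IsCoatom M → N ≤ M) : N ≤ frattini G := by
  simp only [frattini, Order.radical, le_iInf_iff]
  exact h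

/-- An abelian normal subgroup meeting the Frattini subgroup trivially has a complement. -/
theorem exists_complement [Finite G] (A : Subgroup G) [A.Normal] [IsMulCommutative A]
    (hA : A ⊓ frattini G = ⊥) : ∃ H : Subgroup G, Subgroup.IsComplement' A H := by
  obtain ⟨H, -, hH⟩ := Finite.exists_le_minimal (p := fun H : Subgroup G => A ⊔ H = ⊤) (sup_top_eq A)
  have hn : (A ⊓ H).Normal := by
    constructor
    intro x hx g
    have hg : g ∈ A ⊔ H := hH.prop.symm ▸ Subgroup.mem_top g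
    obtain ⟨a, ha, h, hh, rfl⟩ := Subgroup.mem_sup_of_normal_left.mp hg
    have h1 : h * x * h⁻¹ ∈ A ⊓ H :=
      ⟨‹A.Normal›.conj_mem x hx.1 h, H.mul_mem (H.mul_mem hh hx.2) (H.inv_mem hh)⟩
    have h2 : a * (h * x * h⁻¹) = (h * x * h⁻¹) * a := congrArg Subtype.val (IsMulCommutative.is_comm.comm (⟨a, ha⟩ : A) ⟨_, h1.1⟩)
    have : a * h * x * (a * h)⁻¹ = h * x * h⁻¹ := by
      rw [show a * h * x * (a * h)⁻¹ = a * (h * x * h⁻¹) * a⁻¹ by group, h2, mul_inv_cancel_right]
    rwa [this]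
  by_cases hbot : A ⊓ H = ⊥
  · refine ⟨H, Subgroup.isComplement'_of_disjoint_and_mul_eq_univ (disjoint_iff.mpr hbot) ?_⟩
    rw [← Subgroup.normal_mul A H, hH.prop, Subgroup.coe_top]
  · exfalso
    have : ¬ A ⊓ H ≤ frattini G := fun hle =>
      hbot (le_bot_iff.mp (hA ▸ le_inf inf_le_left hle))
    obtain ⟨M, hM, hnM⟩ : ∃ M : Subgroup G, IsCoatom M ∧ ¬ A ⊓ H ≤ M := by
      by_contra hcon
      exact this (le_frattini_of_forall fun M hM => by_contra fun h => hcon ⟨M, hM, h⟩)
    have htop : M ⊔ (A ⊓ H) = ⊤ :=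
      hM.2 _ (lt_of_le_of_ne le_sup_left fun e => hnM (e ▸ le_sup_right))
    have h3 : A ⊔ H ⊓ M = ⊤ := by
      refine top_le_iff.mp (hH.prop.symm.le.trans (sup_le le_sup_left fun x hx => ?_))
      have hxm : x ∈ M ⊔ (A ⊓ H) := htop ▸ Subgroup.mem_top x
      obtain ⟨m, hm, y, hy, rfl⟩ := Subgroup.mem_sup_of_normal_right.mp hxm
      have hmH : m ∈ H := by simpa using H.mul_mem hx (H.inv_mem hy.2)
      exact mul_mem (Subgroup.mem_sup_right ⟨hmH, hm⟩) (Subgroup.mem_sup_left hy.1)
    exact hnM (inf_le_right.trans ((hH.2 h3 inf_le_left).trans inf_le_right))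

end CfsgLib.FrattiniLemmas
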