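import Mathlib
import Cfsg.Prelude.Def_SolvableStructure

/-! Basic theory of supersolvable groups. -/

set_option autoImplicit false

namespace CfsgLib.Supersolvable

open Cfsg

universe u v
variable {G : Type u} [Group G] {K : Type v} [Group K]

theorem of_surjective {f : G →* K} (hf : Function.Surjective f) (hG : IsSupersolvable G) :
    IsSupersolvable K := by
  obtain ⟨n, H, h0, h1, hn, hs⟩ := hG
  refine ⟨n, fun i => (H i).map f, ?_, ?_, fun i => ?_, fun i => ?_⟩
  · simp [h0]
  · simp only [h1]; exact Subgroup.map_top_of_surjective f hf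
  · exact (hn i).map f hf
  · obtain ⟨g, hg⟩ := hs i
    refine ⟨f g, ?_⟩
    show (H i.succ).map f = _
    rw [hg, Subgroup.map_sup, MonoidHom.map_zpowers]

theorem of_subgroup (hG : IsSupersolvable G) (L : Subgroup G) : IsSupersolvable L := by
  obtain ⟨n, H, h0, h1, hn, hs⟩ := hG
  refine ⟨n, fun i => (H i).subgroupOf L, ?_, ?_, fun i => ?_, fun i => ?_⟩
  · simp [h0]
  · simp [h1]
  · exact (hn i).subgroupOf L
  · obtain ⟨g, hg⟩ := hs i
    have := hn i.castSucc
    let S : AddSubgroup ℤ :=
      { carrier := {k | g ^ k ∈ H i.castSucc ⊔ L}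
        add_mem' := fun {a b} ha hb => by
          show g ^ (a + b) ∈ H i.castSucc ⊔ L
          rw [zpow_add]; exact mul_mem ha hb
        zero_mem' := by show g ^ (0 : ℤ) ∈ H i.castSucc ⊔ L; rw [zpow_zero]; exact one_mem _
        neg_mem' := fun {a} ha => by
          show g ^ (-a) ∈ H i.castSucc ⊔ L
          rw [zpow_neg]; exact inv_mem ha }
    obtain ⟨d, hd⟩ := Int.subgroup_cyclic S
    have hdS : g ^ d ∈ H i.castSucc ⊔ L := by
      show d ∈ S
      rw [hd]; exact AddSubgroup.subset_closure rfl
    obtain ⟨a, ha, l, hl, hal⟩ := Subgroup.mem_sup_of_normal_left.mp hdS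
    refine ⟨⟨l, hl⟩, ?_⟩
    have hlH : l ∈ H i.succ := by
      have : l = a⁻¹ * g ^ d := by rw [← hal, inv_mul_cancel_left]
      rw [this, hg]
      exact mul_mem (inv_mem (Subgroup.mem_sup_left ha))
        (Subgroup.mem_sup_right (Subgroup.zpow_mem_zpowers g d))
    refine le_antisymm (fun x hx => ?_) (sup_le (fun x hx => ?_) ((Subgroup.zpowers_le).mpr hlH))
    · have hx' : (x : G) ∈ H i.castSucc ⊔ Subgroup.zpowers g := hg ▸ (hx : (x : G) ∈ H i.succ)
      obtain ⟨h, hh, z, hz, hhz⟩ := Subgroup.mem_sup_of_normal_left.mp hx'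
      obtain ⟨k, rfl⟩ := hz
      have hkS : g ^ k ∈ H i.castSucc ⊔ L := by
        have : g ^ k = h⁻¹ * (x : G) := by rw [← hhz, inv_mul_cancel_left]
        rw [this]
        exact mul_mem (inv_mem (Subgroup.mem_sup_left hh)) (Subgroup.mem_sup_right x.2)
      have hk' : k ∈ S := hkS
      rw [hd, AddSubgroup.mem_closure_singleton] at hk'
      obtain ⟨m, rfl⟩ := hk'
      have hq : (x : G) * (l ^ m)⁻¹ ∈ H i.castSucc := by
        rw [← QuotientGroup.eq_one_iff, QuotientGroup.mk_mul, QuotientGroup.mk_inv, QuotientGroup.mk_zpow,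
          ← hhz, QuotientGroup.mk_mul, (QuotientGroup.eq_one_iff h).mpr hh, one_mul]
        have hl' : ((l : G) : G ⧸ H i.castSucc) = (g : G ⧸ H i.castSucc) ^ d := by
          rw [← QuotientGroup.mk_zpow, ← hal, QuotientGroup.mk_mul, (QuotientGroup.eq_one_iff a).mpr ha,
            one_mul]
        show ((g ^ (m • d) : G) : G ⧸ H i.castSucc) * _ = 1
        rw [hl', QuotientGroup.mk_zpow, ← zpow_mul, smul_eq_mul, mul_comm m d, mul_inv_cancel]
      have e : x = (x * ((⟨l, hl⟩ : L) ^ m)⁻¹) * (⟨l, hl⟩ : L) ^ m := by rw [inv_mul_cancel_right]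
      rw [e]
      exact mul_mem (Subgroup.mem_sup_left (by simpa [Subgroup.mem_subgroupOf] using hq))
        (Subgroup.mem_sup_right (Subgroup.zpow_mem_zpowers _ m))
    · show (x : G) ∈ H i.succ
      rw [hg]; exact Subgroup.mem_sup_left hx

theorem of_ker_cyclic {f : G →* K} (hf : Function.Surjective f) [IsCyclic f.ker]
    (hK : IsSupersolvable K) : IsSupersolvable G := by
  obtain ⟨n, H, h0, h1, hn, hs⟩ := hK
  refine ⟨n + 1, Fin.cons (⊥ : Subgroup G) (fun i => (H i).comap f), ?_, ?_, ?_, ?_⟩
  · simp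
  · rw [← Fin.succ_last, Fin.cons_succ, h1]; simp
  · intro i
    induction i using Fin.cases with
    | zero => simp only [Fin.cons_zero]; exact inferInstance
    | succ j => simp only [Fin.cons_succ]; exact (hn j).comap f
  · intro i
    induction i using Fin.cases with
    | zero =>
      obtain ⟨x, hx⟩ := IsCyclic.exists_generator (α := f.ker)
      refine ⟨x, ?_⟩
      rw [Fin.cons_succ, h0]
      show f.ker = _
      rw [Fin.castSucc_zero, Fin.cons_zero, bot_sup_eq]
      refine le_antisymm (fun y hy => ?_) (Subgroup.zpowers_le.mpr x.2)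
      obtain ⟨k, hk⟩ := hx ⟨y, hy⟩
      exact ⟨k, congrArg Subtype.val hk⟩
    | succ j =>
      obtain ⟨q, hq⟩ := hs j
      obtain ⟨g, rfl⟩ := hf q
      refine ⟨g, ?_⟩
      rw [Fin.cons_succ, ← Fin.succ_castSucc, Fin.cons_succ, hq]
      have h2 : ((H j.castSucc).comap f ⊔ Subgroup.zpowers g).map f =
          H j.castSucc ⊔ Subgroup.zpowers (f g) := by
        rw [Subgroup.map_sup, Subgroup.map_comap_eq_self_of_surjective hf, MonoidHom.map_zpowers]
      rw [← h2, Subgroup.comap_map_eq_self]
      exact le_sup_of_le_left (Subgroup.ker_le_comap f _)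

theorem of_equiv (e : G ≃* K) (hG : IsSupersolvable G) : IsSupersolvable K :=
  of_surjective (f := e.toMonoidHom) e.surjective hG

theorem of_quotient (N : Subgroup G) [N.Normal] [IsCyclic N] (h : IsSupersolvable (G ⧸ N)) :
    IsSupersolvable G := by
  haveI : IsCyclic (QuotientGroup.mk' N).ker :=
    isCyclic_of_surjective (MulEquiv.subgroupCongr (QuotientGroup.ker_mk' N).symm).toMonoidHom
      (MulEquiv.subgroupCongr (QuotientGroup.ker_mk' N).symm).surjective
  exact of_ker_cyclic (f := QuotientGroup.mk' N) (QuotientGroup.mk'_surjective N) h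

theorem quotient (hG : IsSupersolvable G) (N : Subgroup G) [N.Normal] : IsSupersolvable (G ⧸ N) :=
  of_surjective (QuotientGroup.mk'_surjective N) hG

theorem of_subsingleton [Subsingleton G] : IsSupersolvable G :=
  ⟨0, fun _ => ⊥, rfl, Subsingleton.elim _ _, fun _ => inferInstance, fun i => i.elim0⟩

/-- In a nontrivial supersolvable group every nontrivial normal subgroup contains a nontrivial
cyclic normal subgroup. -/
theorem exists_cyclic_normal_le (hG : IsSupersolvable G) {N : Subgroup G} [N.Normal] (hN : N ≠ ⊥) :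
    ∃ C : Subgroup G, C.Normal ∧ C ≠ ⊥ ∧ C ≤ N ∧ IsCyclic C := by
  obtain ⟨n, H, h0, h1, hn, hs⟩ := hG
  by_contra hcon
  have key : ∀ i, H i ⊓ N = ⊥ := by
    intro i
    induction i using Fin.induction with
    | zero => simp [h0]
    | succ i ih =>
      by_contra hne
      refine hcon ⟨H i.succ ⊓ N, ?_, hne, inf_le_right, ?_⟩
      · have := hn i.succ
        infer_instance
      · obtain ⟨g, hg⟩ := hs i
        have := hn i.castSucc
        let ψ : ↥(H i.succ ⊓ N) →* Subgroup.zpowers (g : G ⧸ H i.castSucc) :=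
          ((QuotientGroup.mk' (H i.castSucc)).comp (H i.succ ⊓ N).subtype).codRestrict _ fun x => by
            have hx : (x : G) ∈ H i.castSucc ⊔ Subgroup.zpowers g := hg ▸ x.2.1
            obtain ⟨h, hh, z, ⟨k, rfl⟩, hhz⟩ := Subgroup.mem_sup_of_normal_left.mp hx
            refine ⟨k, ?_⟩
            show (g : G ⧸ H i.castSucc) ^ k = ((x : G) : G ⧸ H i.castSucc)
            rw [← hhz, QuotientGroup.mk_mul, (QuotientGroup.eq_one_iff h).mpr hh, one_mul,
              QuotientGroup.mk_zpow]
        refine isCyclic_of_injective ψ ?_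
        rw [← MonoidHom.ker_eq_bot_iff, eq_bot_iff]
        intro x hx
        have h2 : (x : G) ∈ H i.castSucc :=
          (QuotientGroup.eq_one_iff _).mp (congrArg Subtype.val (MonoidHom.mem_ker.mp hx))
        have h3 : (x : G) ∈ H i.castSucc ⊓ N := ⟨h2, x.2.2⟩
        rw [ih, Subgroup.mem_bot] at h3
        exact Subtype.ext h3
  exact hN (by simpa [h1] using key (Fin.last n))

/-- A subgroup of a cyclic normal subgroup is normal. -/
theorem normal_of_le_cyclic [Finite G] {C D : Subgroup G} [hC : C.Normal] [IsCyclic C] (h : D ≤ C) :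
    D.Normal := by
  constructor
  intro x hx g
  obtain ⟨c, hc⟩ := IsCyclic.exists_generator (α := C)
  obtain ⟨m, hm⟩ := hc ⟨g * c * g⁻¹, hC.conj_mem c c.2 g⟩
  obtain ⟨k, hk⟩ := hc ⟨x, h hx⟩
  have hk' : (c : G) ^ k = x := congrArg Subtype.val hk
  have hm' : (c : G) ^ m = g * c * g⁻¹ := congrArg Subtype.val hm
  have hxm : g * x * g⁻¹ = x ^ m := by
    rw [← hk', ← conj_zpow, ← hm', ← zpow_mul, ← zpow_mul, mul_comm]
  rw [hxm]
  exact D.zpow_mem hx m

theorem exists_prime_normal_le [Finite G] (hG : IsSupersolvable G) {N : Subgroup G} [N.Normal]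
    (hN : N ≠ ⊥) : ∃ P : Subgroup G, P.Normal ∧ P ≤ N ∧ (Nat.card P).Prime := by
  obtain ⟨C, hCn, hC0, hCN, hCc⟩ := exists_cyclic_normal_le hG hN
  obtain ⟨x, hx⟩ := exists_prime_orderOf_dvd_card' (G := C) (Nat.card C).minFac
    (hp := ⟨Nat.minFac_prime fun e => hC0 (Subgroup.eq_bot_of_card_eq C e)⟩) (Nat.minFac_dvd _)
  refine ⟨Subgroup.zpowers (x : G), normal_of_le_cyclic (C := C) (Subgroup.zpowers_le.mpr x.2),
    Subgroup.zpowers_le.mpr (hCN x.2), ?_⟩
  rw [Nat.card_zpowers, Subgroup.orderOf_coe, hx]
  exact Nat.minFac_prime fun e => hC0 (Subgroup.eq_bot_of_card_eq C e)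

/-- A minimal normal subgroup of a finite supersolvable group has prime order. -/
theorem card_minimal_normal_prime [Finite G] (hG : IsSupersolvable G) {N : Subgroup G} [N.Normal]
    (hN : N ≠ ⊥) (hmin : ∀ K : Subgroup G, K.Normal → K ≤ N → K = ⊥ ∨ K = N) :
    (Nat.card N).Prime := by
  obtain ⟨P, hPn, hPN, hP⟩ := exists_prime_normal_le hG hN
  rcases hmin P hPn hPN with e | e
  · rw [e, Subgroup.card_bot] at hP; exact absurd hP Nat.not_prime_one
  · exact e ▸ hP

theorem card_quotient_lt [Finite G] (N : Subgroup G) [N.Normal] (hN : N ≠ ⊥) :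
    Nat.card (G ⧸ N) < Nat.card G := by
  rw [Subgroup.card_eq_card_quotient_mul_card_subgroup N]
  haveI : Nontrivial N := (Subgroup.nontrivial_iff_ne_bot N).mpr hN
  exact lt_mul_of_one_lt_right Nat.card_pos Finite.one_lt_card

theorem isCyclic_of_prime_card {N : Subgroup G} (h : (Nat.card N).Prime) : IsCyclic N :=
  haveI : Fact (Nat.card N).Prime := ⟨h⟩
  _root_.isCyclic_of_prime_card (α := N) rfl

theorem prod {H : Type v} [Group H] [Finite G] (hG : IsSupersolvable G) (hH : IsSupersolvable H) :
    IsSupersolvable (G × H) := by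
  induction hn : Nat.card G using Nat.strong_induction_on generalizing G with
  | h n ih =>
    subst hn
    rcases subsingleton_or_nontrivial G with hs | hs
    · refine of_equiv ?_ hH
      exact
        { toFun := fun x => (1, x)
          invFun := fun x => x.2
          left_inv := fun x => rfl
          right_inv := fun x => Prod.ext (Subsingleton.elim _ _) rfl
          map_mul' := fun a b => Prod.ext (Subsingleton.elim _ _) rfl }
    obtain ⟨C, hCn, hC0, -, hCc⟩ := exists_cyclic_normal_le hG (N := ⊤) top_ne_bot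
    have h1 := ih _ (card_quotient_lt C hC0) (quotient hG C) rfl
    have hsur : Function.Surjective ((QuotientGroup.mk' C).prodMap (MonoidHom.id H)) := by
      intro ⟨a, b⟩
      obtain ⟨a', rfl⟩ := QuotientGroup.mk'_surjective C a
      exact ⟨(a', b), rfl⟩
    let e : C →* ((QuotientGroup.mk' C).prodMap (MonoidHom.id H)).ker :=
      ((MonoidHom.inl G H).comp C.subtype).codRestrict _ fun x => by
        simp [MonoidHom.mem_ker]
    haveI := isCyclic_of_surjective e (by
      rintro ⟨⟨a, b⟩, hab⟩
      simp only [MonoidHom.mem_ker, MonoidHom.prodMap, MonoidHom.prod_apply, Prod.mk_eq_one] at hab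
      exact ⟨⟨a, (QuotientGroup.eq_one_iff a).mp hab.1⟩, Subtype.ext (Prod.ext rfl hab.2.symm)⟩)
    exact of_ker_cyclic hsur h1

theorem isSolvable [Finite G] (hG : IsSupersolvable G) : Group.IsSolvable G := by
  induction hn : Nat.card G using Nat.strong_induction_on generalizing G with
  | h n ih =>
    subst hn
    rcases subsingleton_or_nontrivial G with hs | hs
    · infer_instance
    obtain ⟨C, hCn, hC0, -, hCc⟩ := exists_cyclic_normal_le hG (N := ⊤) top_ne_bot
    haveI := ih _ (card_quotient_lt C hC0) (quotient hG C) rfl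
    letI := hCc.commGroup
    exact solvable_of_ker_le_range C.subtype (QuotientGroup.mk' C) (by simp)

theorem index_map_eq_of_le {N M : Subgroup G} [N.Normal] (h : N ≤ M) :
    (M.map (QuotientGroup.mk' N)).index = M.index :=
  Subgroup.index_map_eq M (QuotientGroup.mk'_surjective N) (by rwa [QuotientGroup.ker_mk'])

theorem isCoatom_map_of_le {N M : Subgroup G} [N.Normal] (h : N ≤ M) (hM : IsCoatom M) :
    IsCoatom (M.map (QuotientGroup.mk' N)) := by
  have hcm : (M.map (QuotientGroup.mk' N)).comap (QuotientGroup.mk' N) = M :=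
    Subgroup.comap_map_eq_self (by rwa [QuotientGroup.ker_mk'])
  refine ⟨fun e => hM.1 (by rw [← hcm, e, Subgroup.comap_top]), fun K hK => ?_⟩
  have h1 : M < K.comap (QuotientGroup.mk' N) := by
    rw [← hcm]
    exact (Subgroup.comap_lt_comap_of_surjective (QuotientGroup.mk'_surjective N)).mpr hK
  have := congrArg (Subgroup.map (QuotientGroup.mk' N)) (hM.2 _ h1)
  rwa [Subgroup.map_comap_eq_self_of_surjective (QuotientGroup.mk'_surjective N),
    Subgroup.map_top_of_surjective _ (QuotientGroup.mk'_surjective N)] at this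

theorem isCoatom_comap {N : Subgroup G} [N.Normal] {M : Subgroup (G ⧸ N)} (hM : IsCoatom M) :
    IsCoatom (M.comap (QuotientGroup.mk' N)) := by
  refine ⟨fun e => hM.1 ?_, fun K hK => ?_⟩
  · rw [← Subgroup.map_comap_eq_self_of_surjective (QuotientGroup.mk'_surjective N) M, e,
      Subgroup.map_top_of_surjective _ (QuotientGroup.mk'_surjective N)]
  · have hNK : N ≤ K := by
      refine le_trans ?_ hK.le
      conv_lhs => rw [← QuotientGroup.ker_mk' N]
      exact Subgroup.ker_le_comap _ _
    have hKc : (K.map (QuotientGroup.mk' N)).comap (QuotientGroup.mk' N) = K :=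
      Subgroup.comap_map_eq_self (by rwa [QuotientGroup.ker_mk'])
    have h1 : M < K.map (QuotientGroup.mk' N) := by
      rw [← Subgroup.comap_lt_comap_of_surjective (QuotientGroup.mk'_surjective N), hKc]
      exact hK
    rw [← hKc, hM.2 _ h1, Subgroup.comap_top]

/-- Maximal subgroups of finite supersolvable groups have prime index. -/
theorem index_prime [Finite G] (hG : IsSupersolvable G) {M : Subgroup G} (hM : IsCoatom M) :
    M.index.Prime := by
  induction hn : Nat.card G using Nat.strong_induction_on generalizing G with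
  | h n ih =>
    subst hn
    haveI : Nontrivial G := by
      rcases subsingleton_or_nontrivial G with hs | hs
      · exact absurd (Subsingleton.elim _ _) hM.1
      · exact hs
    obtain ⟨P, hPn, -, hP⟩ := exists_prime_normal_le hG (N := ⊤) top_ne_bot
    by_cases hPM : P ≤ M
    · rw [← index_map_eq_of_le hPM]
      refine ih _ (card_quotient_lt P fun e => ?_) (quotient hG P) (isCoatom_map_of_le hPM hM) rfl
      rw [e, Subgroup.card_bot] at hP; exact Nat.not_prime_one hP
    · have htop : M ⊔ P = ⊤ := hM.2 _ (lt_of_le_of_ne le_sup_left fun e => hPM (e ▸ le_sup_right))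
      have hd : Disjoint M P := by
        rw [disjoint_iff]
        rcases hP.eq_one_or_self_of_dvd _ (Subgroup.card_dvd_of_le (inf_le_right : M ⊓ P ≤ P)) with e | e
        · exact Subgroup.eq_bot_of_card_eq _ e
        · exact absurd (inf_eq_right.mp (Subgroup.eq_of_le_of_card_ge inf_le_right e.ge)) hPM
      have hc : Subgroup.IsComplement' M P := Subgroup.isComplement'_of_disjoint_and_mul_eq_univ hd
        (by rw [← Subgroup.mul_normal M P, htop, Subgroup.coe_top])
      rw [hc.symm.index_eq_card]
      exact hP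

end CfsgLib.Supersolvable
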