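import Mathlib
import Cfsg.Agent.Lib.Solvable.Supersolvable
import Cfsg.Agent.Lib.Solvable.Frattini

/-! Huppert's theorem and related facts on supersolvable groups. -/

set_option autoImplicit false

namespace CfsgLib.Supersolvable

open Cfsg
open scoped Pointwise commutatorElement

universe u
variable {G : Type u} [Group G]

/-- If every maximal subgroup has prime index, the Sylow subgroup for the largest prime is normal. -/
theorem sylow_normal_of_index_prime [Finite G] (h : ∀ M : Subgroup G, IsCoatom M → M.index.Prime)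
    {p : ℕ} [Fact p.Prime] (hmax : ∀ q : ℕ, q.Prime → q ∣ Nat.card G → q ≤ p) (P : Sylow p G) :
    (P : Subgroup G).Normal := by
  by_contra hn
  have hN : Subgroup.normalizer ((P : Subgroup G) : Set G) ≠ ⊤ :=
    fun e => hn (Subgroup.normalizer_eq_top_iff.mp e)
  obtain ⟨M, hM, hNM⟩ :=
    (eq_top_or_exists_le_coatom (Subgroup.normalizer ((P : Subgroup G) : Set G))).resolve_left hN
  have hPM : (P : Subgroup G) ≤ M := Subgroup.le_normalizer.trans hNM
  have h1 := card_sylow_modEq_one p G
  rw [P.card_eq_index_normalizer] at h1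
  have h2 := card_sylow_modEq_one p M
  rw [(P.subtype hPM).card_eq_index_normalizer] at h2
  have e : Subgroup.normalizer ((P.subtype hPM : Subgroup M) : Set M) =
      (Subgroup.normalizer ((P : Subgroup G) : Set G)).subgroupOf M := by
    rw [Sylow.coe_subtype, ← Subgroup.subgroupOf_normalizer_eq hPM]
  change Nat.ModEq p (Subgroup.normalizer ((P.subtype hPM : Subgroup M) : Set M)).index 1 at h2
  rw [e] at h2
  change Nat.ModEq p (Subgroup.normalizer ((P : Subgroup G) : Set G)).index 1 at h1
  change Nat.ModEq p ((Subgroup.normalizer ((P : Subgroup G) : Set G)).relIndex M) 1 at h2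
  rw [← Subgroup.relIndex_mul_index hNM] at h1
  have h3 : M.index ≡ 1 [MOD p] := by
    have := (h2.mul_right M.index).symm.trans h1
    rwa [one_mul] at this
  have hq := h M hM
  have hle := hmax _ hq M.index_dvd_card
  rcases hle.lt_or_eq with hlt | heq
  · have := h3.eq_of_lt_of_lt hlt (Fact.out : p.Prime).one_lt
    exact hq.ne_one this
  · rw [heq] at h3
    have h4 := (Nat.modEq_zero_iff_dvd.mpr (dvd_refl p)).symm.trans h3
    exact (Fact.out : p.Prime).one_lt.ne' (Nat.dvd_one.mp (Nat.modEq_zero_iff_dvd.mp h4.symm))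

theorem exists_largest_prime [Finite G] [Nontrivial G] :
    ∃ p : ℕ, p.Prime ∧ p ∣ Nat.card G ∧ ∀ q : ℕ, q.Prime → q ∣ Nat.card G → q ≤ p := by
  have hne : (Nat.card G).primeFactors.Nonempty :=
    Nat.nonempty_primeFactors.mpr Finite.one_lt_card
  obtain ⟨p, hp, hmax⟩ := Finset.exists_max_image _ id hne
  rw [Nat.mem_primeFactors] at hp
  exact ⟨p, hp.1, hp.2.1, fun q hq hd => hmax q (Nat.mem_primeFactors.mpr ⟨hq, hd, Nat.card_pos.ne'⟩)⟩

theorem index_prime_quotient {N : Subgroup G} [N.Normal]
    (h : ∀ M : Subgroup G, IsCoatom M → M.index.Prime) (M : Subgroup (G ⧸ N)) (hM : IsCoatom M) :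
    M.index.Prime := by
  have := h _ (isCoatom_comap hM)
  rwa [Subgroup.index_comap_of_surjective _ (QuotientGroup.mk'_surjective N)] at this

theorem isSolvable_of_index_prime [Finite G] (h : ∀ M : Subgroup G, IsCoatom M → M.index.Prime) :
    Group.IsSolvable G := by
  induction hn : Nat.card G using Nat.strong_induction_on generalizing G with
  | h n ih =>
    subst hn
    rcases subsingleton_or_nontrivial G with hs | hs
    · infer_instance
    obtain ⟨p, hp, hpd, hmax⟩ := exists_largest_prime (G := G)
    haveI : Fact p.Prime := ⟨hp⟩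
    obtain ⟨P⟩ : Nonempty (Sylow p G) := inferInstance
    haveI := sylow_normal_of_index_prime h hmax P
    have hne : (P : Subgroup G) ≠ ⊥ := P.ne_bot_of_dvd_card hpd
    haveI := ih _ (card_quotient_lt _ hne) (index_prime_quotient h) rfl
    haveI : Group.IsNilpotent (P : Subgroup G) := P.2.isNilpotent
    exact solvable_of_ker_le_range (P : Subgroup G).subtype (QuotientGroup.mk' (P : Subgroup G)) (by simp)

/-- Conjugation on a cyclic normal subgroup is abelian, and killed by the exponent `φ(card)`. -/
theorem cyclic_normal_centralized [Finite G] (B : Subgroup G) [B.Normal] [hc : IsCyclic B] :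
    commutator G ≤ Subgroup.centralizer (B : Set G) ∧
      ∀ g : G, g ^ Nat.totient (Nat.card B) ∈ Subgroup.centralizer (B : Set G) := by
  have hker : ∀ g : G, MulAut.conjNormal (H := B) g = 1 → g ∈ Subgroup.centralizer (B : Set G) := by
    intro g hg
    rw [Subgroup.mem_centralizer_iff]
    intro b hb
    have h1 := congrArg Subtype.val (congrFun (congrArg DFunLike.coe hg) (⟨b, hb⟩ : B))
    rw [MulAut.conjNormal_apply] at h1
    change g * b * g⁻¹ = b at h1
    calc b * g = g * b * g⁻¹ * g := by rw [h1]
      _ = g * b := inv_mul_cancel_right _ _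
  let f : G →* (ZMod (Nat.card B))ˣ :=
    (IsCyclic.mulAutMulEquiv B).toMonoidHom.comp MulAut.conjNormal
  have hf : ∀ g, f g = 1 → g ∈ Subgroup.centralizer (B : Set G) := fun g hg =>
    hker g ((IsCyclic.mulAutMulEquiv B).injective (hg.trans (map_one _).symm))
  refine ⟨fun g hg => hf g (MonoidHom.mem_ker.mp (Abelianization.commutator_subset_ker f hg)),
    fun g => hf _ ?_⟩
  haveI : NeZero (Nat.card B) := ⟨Nat.card_pos.ne'⟩
  rw [map_pow, ← ZMod.card_units_eq_totient, pow_card_eq_one]

/-- A normal subgroup of a supersolvable group centralizing all prime order normal sections inside it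
is nilpotent. -/
theorem isNilpotent_of_centralizes [Finite G] (hG : IsSupersolvable G) (X : Subgroup G) [X.Normal]
    (h : ∀ A B : Subgroup G, A.Normal → B.Normal → A ≤ B → B ≤ X → (A.relIndex B).Prime →
      ⁅X, B⁆ ≤ A) : Group.IsNilpotent X := by
  induction hn : Nat.card G using Nat.strong_induction_on generalizing G with
  | h n ih =>
    subst hn
    rcases eq_or_ne X ⊥ with rfl | hX
    · infer_instance
    obtain ⟨P, hPn, hPX, hP⟩ := exists_prime_normal_le hG hX
    have hP0 : P ≠ ⊥ := fun e => Nat.not_prime_one (by simpa [e] using hP)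
    have hPc : ⁅X, P⁆ = ⊥ :=
      le_bot_iff.mp (h ⊥ P inferInstance hPn bot_le hPX (by rwa [Subgroup.relIndex_bot_left]))
    set q := QuotientGroup.mk' P with hq
    have hqs : Function.Surjective q := QuotientGroup.mk'_surjective P
    haveI : (X.map q).Normal := Subgroup.Normal.map inferInstance q hqs
    have hnil := ih _ (card_quotient_lt P hP0) (quotient hG P) (X.map q)
      (fun A B hA hB hAB hBX hprime => by
        have h1 := h (A.comap q) (B.comap q) (hA.comap q) (hB.comap q) (Subgroup.comap_mono hAB)
          ((Subgroup.comap_mono hBX).trans (by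
            rw [Subgroup.comap_map_eq_self (by rwa [hq, QuotientGroup.ker_mk'])]))
          (by
            rw [Subgroup.relIndex_comap, Subgroup.map_comap_eq_self_of_surjective hqs]
            exact hprime)
        have h2 := Subgroup.map_mono (f := q) h1
        rwa [Subgroup.map_commutator, Subgroup.map_comap_eq_self_of_surjective hqs,
          Subgroup.map_comap_eq_self_of_surjective hqs] at h2) rfl
    haveI := hnil
    refine Subgroup.isNilpotent_of_ker_le_center (q.subgroupMap X) (fun x hx => ?_)
    rw [Subgroup.mem_center_iff]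
    intro y
    have hxP : (x : G) ∈ P :=
      (QuotientGroup.eq_one_iff _).mp (congrArg Subtype.val (MonoidHom.mem_ker.mp hx))
    have h3 := Subgroup.commutator_mem_commutator (H₁ := X) (H₂ := P) y.2 hxP
    rw [hPc, Subgroup.mem_bot] at h3
    exact Subtype.ext (commutatorElement_eq_one_iff_mul_comm.mp h3)

theorem commutator_centralizes_section [Finite G] {A B : Subgroup G} (hA : A.Normal) (hB : B.Normal)
    (hAB : A ≤ B) (hp : (A.relIndex B).Prime) :
    ⁅commutator G, B⁆ ≤ A ∧ ∀ g : G, ∀ b ∈ B, ⁅g ^ (A.relIndex B - 1), b⁆ ∈ A := by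
  set q := QuotientGroup.mk' A with hq
  have hqs : Function.Surjective q := QuotientGroup.mk'_surjective A
  haveI : (B.map q).Normal := hB.map q hqs
  have hcard : Nat.card (B.map q) = A.relIndex B := by
    rw [← Subgroup.relIndex_bot_left (B.map q), ← Subgroup.relIndex_comap,
      MonoidHom.comap_bot, QuotientGroup.ker_mk'] <;> rfl
  haveI := isCyclic_of_prime_card (N := B.map q) (hcard ▸ hp)
  obtain ⟨h1, h2⟩ := cyclic_normal_centralized (B.map q)
  have key : ∀ x : G, q x ∈ Subgroup.centralizer ((B.map q : Subgroup (G ⧸ A)) : Set (G ⧸ A)) →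
      ∀ b ∈ B, ⁅x, b⁆ ∈ A := by
    intro x hx b hb
    refine (QuotientGroup.eq_one_iff _).mp ?_
    show q ⁅x, b⁆ = 1
    rw [map_commutatorElement, commutatorElement_eq_one_iff_mul_comm]
    exact (Subgroup.mem_centralizer_iff.mp hx (q b) ⟨b, hb, rfl⟩).symm
  refine ⟨Subgroup.commutator_le.mpr fun x hx b hb => key x (h1 ?_) b hb, fun g b hb => key _ ?_ b hb⟩
  · have : q x ∈ (commutator G).map q := ⟨x, hx, rfl⟩
    rwa [commutator_def, Subgroup.map_commutator, Subgroup.map_top_of_surjective q hqs,
      ← commutator_def] at this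
  · have := h2 (q g)
    rwa [hcard, Nat.totient_prime hp, ← map_pow] at this

/-- The derived subgroup of a finite supersolvable group is nilpotent. -/
theorem isNilpotent_commutator [Finite G] (hG : IsSupersolvable G) :
    Group.IsNilpotent (commutator G) :=
  isNilpotent_of_centralizes hG _ fun _ _ hA hB hAB _ hp =>
    (commutator_centralizes_section hA hB hAB hp).1

open Polynomial in
theorem exists_eigen {p : ℕ} [Fact p.Prime] {M : Type*} [AddCommGroup M] [Module (ZMod p) M]
    [Nontrivial M] (T : Module.End (ZMod p) M) (hT : T ^ (p - 1) = 1) :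
    ∃ (c : ZMod p) (v : M), v ≠ 0 ∧ T v = c • v := by
  classical
  by_contra hcon
  push Not at hcon
  have key : ∀ s : Finset (ZMod p), ∀ v : M, aeval T (∏ c ∈ s, (X - C c)) v = 0 → v = 0 := by
    intro s
    induction s using Finset.induction with
    | empty => intro v hv; simpa using hv
    | insert c s hc ih =>
      intro v hv
      rw [Finset.prod_insert hc, map_mul, Module.End.mul_apply] at hv
      refine ih v (by_contra fun hne => hcon c _ hne ?_)
      rwa [map_sub, aeval_X, aeval_C, LinearMap.sub_apply, Module.algebraMap_end_apply,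
        sub_eq_zero] at hv
  have hprod : (∏ c : ZMod p, (X - C c)) = X ^ p - X := by
    have hp1 : 1 < p := (Fact.out : p.Prime).one_lt
    have hmon : (X ^ p - X : (ZMod p)[X]).Monic :=
      monic_X_pow_sub (by rw [degree_X]; exact_mod_cast hp1)
    have hroots : (X ^ p - X : (ZMod p)[X]).roots = Finset.univ.val := by
      have := FiniteField.roots_X_pow_card_sub_X (ZMod p)
      rwa [ZMod.card] at this
    have := prod_multiset_X_sub_C_of_monic_of_roots_card_eq hmon (by
      rw [hroots, FiniteField.X_pow_card_sub_X_natDegree_eq (ZMod p) hp1]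
      exact ZMod.card p)
    rw [hroots] at this
    exact this
  obtain ⟨v, hv⟩ := exists_ne (0 : M)
  refine hv (key Finset.univ v ?_)
  have hTp : T ^ p = T := by
    have := pow_succ T (p - 1)
    rwa [hT, one_mul, Nat.sub_add_cancel (Fact.out : p.Prime).one_le] at this
  rw [hprod, map_sub, map_pow, aeval_X, hTp, sub_self, LinearMap.zero_apply]

theorem exists_scalar_aux {p : ℕ} [Fact p.Prime] {V : Type*} [CommGroup V] [Nontrivial V]
    [Module (ZMod p) (Additive V)] (φ : V →* V) (hφ : ∀ v, φ^[p - 1] v = v) :
    ∃ k : ℕ, ∃ v : V, v ≠ 1 ∧ φ v = v ^ k := by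
  let T : Module.End (ZMod p) (Additive V) :=
    { toFun := fun x => Additive.ofMul (φ (Additive.toMul x))
      map_add' := fun x y => congrArg Additive.ofMul (map_mul φ _ _)
      map_smul' := fun c x => ZMod.map_smul (MonoidHom.toAdditive φ) c x }
  have hit : ∀ k : ℕ, ∀ x : Additive V,
      (⇑T)^[k] x = Additive.ofMul (φ^[k] (Additive.toMul x)) := by
    intro k
    induction k with
    | zero => intro x; rfl
    | succ k ih =>
      intro x
      rw [Function.iterate_succ_apply', ih, Function.iterate_succ_apply']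
      rfl
  obtain ⟨c, v, hv, hcv⟩ := exists_eigen T (LinearMap.ext fun x => by
    rw [Module.End.coe_pow, hit, hφ]
    rfl)
  refine ⟨c.val, Additive.toMul v, fun e => hv (Additive.toMul.injective e), ?_⟩
  rw [← ZMod.natCast_zmod_val c, Nat.cast_smul_eq_nsmul] at hcv
  exact congrArg Additive.toMul hcv

/-- An element acting with exponent dividing `p - 1` on a nontrivial abelian group of exponent `p`
has an eigenvector. -/
theorem exists_scalar {p : ℕ} [Fact p.Prime] {N : Subgroup G} [N.Normal] (hN : N ≠ ⊥)
    (hcomm : ∀ a ∈ N, ∀ b ∈ N, a * b = b * a) (hexp : ∀ a ∈ N, a ^ p = 1) (g : G)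
    (hg : g ^ (p - 1) ∈ Subgroup.centralizer (N : Set G)) :
    ∃ k : ℕ, ∃ v ∈ N, v ≠ 1 ∧ g * v * g⁻¹ = v ^ k := by
  letI : CommGroup N :=
    { (inferInstance : Group N) with mul_comm := fun a b => Subtype.ext (hcomm a a.2 b b.2) }
  letI : Module (ZMod p) (Additive N) := AddCommGroup.zmodModule fun a => by
    change Additive.ofMul ((Additive.toMul a) ^ p) = 0
    rw [show (Additive.toMul a) ^ p = 1 from Subtype.ext (by
      simpa using hexp _ (Additive.toMul a).2)]
    rfl
  haveI : Nontrivial N := (Subgroup.nontrivial_iff_ne_bot N).mpr hN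
  have hit : ∀ k : ℕ, ∀ n : N, ((⇑(MulAut.conjNormal (H := N) g))^[k] n : G) = g ^ k * (n : G) * (g ^ k)⁻¹ := by
    intro k
    induction k with
    | zero => intro n; simp
    | succ k ih =>
      intro n
      rw [Function.iterate_succ_apply', MulAut.conjNormal_apply, ih n, pow_succ', mul_inv_rev]
      simp only [mul_assoc]
  obtain ⟨k, v, hv, hk⟩ := exists_scalar_aux (p := p) (MulEquiv.toMonoidHom (MulAut.conjNormal (H := N) g))
    (fun v => Subtype.ext (by
      refine (hit (p - 1) v).trans ?_
      rw [← Subgroup.mem_centralizer_iff.mp hg _ v.2, mul_inv_cancel_right]))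
  refine ⟨k, v, v.2, fun e => hv (Subtype.ext e), ?_⟩
  have := congrArg Subtype.val hk
  simpa using this

theorem exists_minimal_normal_le [Finite G] {N : Subgroup G} [N.Normal] (hN : N ≠ ⊥) :
    ∃ K : Subgroup G, K.Normal ∧ K ≤ N ∧ K ≠ ⊥ ∧
      ∀ L : Subgroup G, L.Normal → L ≤ K → L = ⊥ ∨ L = K := by
  obtain ⟨K, hKN, hK⟩ := Finite.exists_le_minimal
    (p := fun K : Subgroup G => K.Normal ∧ K ≠ ⊥) (a := N) ⟨inferInstance, hN⟩
  refine ⟨K, hK.prop.1, hKN, hK.prop.2, fun L hL hLK => ?_⟩
  by_cases h : L = ⊥
  · exact Or.inl h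
  · exact Or.inr (le_antisymm hLK (hK.2 ⟨hL, h⟩ hLK))

theorem isPGroup_of_normal_nilpotent [Finite G] {p : ℕ} [Fact p.Prime] {N : Subgroup G}
    (hNp : IsPGroup p N) (huniq : ∀ L : Subgroup G, L.Normal → L ≠ ⊥ → N ≤ L) (hN : N ≠ ⊥)
    {Y : Subgroup G} [Y.Normal] (hY : Group.IsNilpotent Y) : IsPGroup p Y := by
  have key : ∀ r : ℕ, r.Prime → r ∣ Nat.card Y → r = p := by
    intro r hr hd
    haveI : Fact r.Prime := ⟨hr⟩
    obtain ⟨R⟩ : Nonempty (Sylow r Y) := inferInstance
    haveI := hY
    have hRc : (R : Subgroup Y).Characteristic := Sylow.characteristic_of_normal R inferInstance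
    have h1 := huniq ((R : Subgroup Y).map Y.subtype) inferInstance (fun e => R.ne_bot_of_dvd_card hd
      ((Subgroup.map_eq_bot_iff_of_injective _ Y.subtype_injective).mp e))
    by_contra hne
    have h3 := IsPGroup.disjoint_of_ne p r (Ne.symm hne) N _ hNp (R.2.map Y.subtype)
    exact hN (disjoint_self.mp (h3.mono_right h1))
  exact IsPGroup.of_card (n := (Nat.card Y).primeFactorsList.length)
    (Nat.eq_prime_pow_of_unique_prime_dvd Nat.card_pos.ne' fun {r} hr hd => key r hr hd)

/-- **Huppert.** A finite group all of whose maximal subgroups have prime index is supersolvable. -/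
theorem of_index_prime [Finite G] (h : ∀ M : Subgroup G, IsCoatom M → M.index.Prime) :
    IsSupersolvable G := by
  induction hn : Nat.card G using Nat.strong_induction_on generalizing G with
  | h n ih =>
    subst hn
    rcases subsingleton_or_nontrivial G with hs | hs
    · exact of_subsingleton
    haveI := isSolvable_of_index_prime h
    obtain ⟨N, hNn, -, hN0, hmin⟩ := exists_minimal_normal_le (N := (⊤ : Subgroup G)) top_ne_bot
    have hquot : ∀ L : Subgroup G, [L.Normal] → L ≠ ⊥ → IsSupersolvable (G ⧸ L) :=
      fun L _ hL => ih _ (card_quotient_lt L hL) (index_prime_quotient h) rfl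
    by_cases hprime : (Nat.card N).Prime
    · haveI := isCyclic_of_prime_card hprime
      exact of_quotient N (hquot N hN0)
    -- every nontrivial normal subgroup contains `N`
    have huniq : ∀ L : Subgroup G, L.Normal → L ≠ ⊥ → N ≤ L := by
      intro L hL hL0
      rcases hmin (N ⊓ L) inferInstance inf_le_left with e | e
      · exfalso
        refine hprime (card_minimal_normal_prime ?_ hN0 hmin)
        have h2 := prod (hquot N hN0) (hquot L hL0)
        set f := (QuotientGroup.mk' N).prod (QuotientGroup.mk' L)
        have hf : Function.Injective f := by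
          rw [← MonoidHom.ker_eq_bot_iff, eq_bot_iff, ← e]
          intro x hx
          have hx' := MonoidHom.mem_ker.mp hx
          simp only [f, MonoidHom.prod_apply, Prod.mk_eq_one] at hx'
          exact ⟨(QuotientGroup.eq_one_iff x).mp hx'.1, (QuotientGroup.eq_one_iff x).mp hx'.2⟩
        exact of_equiv (MonoidHom.ofInjective hf).symm (of_subgroup h2 f.range)
      · exact inf_eq_left.mp e
    -- `N` is an elementary abelian `p`-group
    obtain ⟨p, hp, hpd, hmax⟩ := exists_largest_prime (G := G)
    haveI : Fact p.Prime := ⟨hp⟩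
    obtain ⟨P⟩ : Nonempty (Sylow p G) := inferInstance
    haveI hPn := sylow_normal_of_index_prime h hmax P
    have hNP : N ≤ P := huniq _ hPn (P.ne_bot_of_dvd_card hpd)
    have hNp : IsPGroup p N := P.2.to_le hNP
    -- `P` centralizes `N`
    have hPN : N ≤ (Subgroup.center (P : Subgroup G)).map (P : Subgroup G).subtype := by
      refine huniq _ inferInstance fun e => ?_
      have h1 := (Subgroup.map_eq_bot_iff_of_injective _ (Subgroup.subtype_injective _)).mp e
      haveI : Nontrivial (P : Subgroup G) :=
        (Subgroup.nontrivial_iff_ne_bot _).mpr (P.ne_bot_of_dvd_card hpd)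
      haveI := P.2.center_nontrivial
      exact (Subgroup.nontrivial_iff_ne_bot _).mp (inferInstance : Nontrivial (Subgroup.center (P : Subgroup G))) h1
    have hPcent : ∀ x ∈ (P : Subgroup G), ∀ n ∈ N, x * n = n * x := by
      intro x hx n hn
      obtain ⟨z, hz, rfl⟩ := hPN hn
      exact congrArg Subtype.val (Subgroup.mem_center_iff.mp hz ⟨x, hx⟩)
    have hcomm : ∀ a ∈ N, ∀ b ∈ N, a * b = b * a := fun a ha b hb => hPcent a (hNP ha) b hb
    have hexp : ∀ a ∈ N, a ^ p = 1 := by
      let E : Subgroup G :=
        { carrier := {a | a ∈ N ∧ a ^ p = 1}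
          mul_mem' := fun {a b} ha hb => ⟨mul_mem ha.1 hb.1, by
            rw [(show Commute a b from hcomm a ha.1 b hb.1).mul_pow, ha.2, hb.2, one_mul]⟩
          one_mem' := ⟨one_mem _, one_pow _⟩
          inv_mem' := fun {a} ha => ⟨inv_mem ha.1, by rw [inv_pow, ha.2, inv_one]⟩ }
      haveI : E.Normal := ⟨fun a ha g => ⟨hNn.conj_mem a ha.1 g, by rw [conj_pow, ha.2]; group⟩⟩
      intro a ha
      have hE : N ≤ E := huniq E inferInstance (fun e => by
        obtain ⟨x, hx⟩ := exists_prime_orderOf_dvd_card' (G := N) p (by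
          haveI : Nontrivial N := (Subgroup.nontrivial_iff_ne_bot N).mpr hN0
          obtain ⟨k, hk, hc⟩ := hNp.nontrivial_iff_card.mp this
          rw [hc]; exact dvd_pow_self p (Nat.pos_iff_ne_zero.mp hk))
        have hxE : (x : G) ∈ E := ⟨x.2, by rw [← hx, ← SubmonoidClass.coe_pow, pow_orderOf_eq_one]; rfl⟩
        rw [e, Subgroup.mem_bot] at hxE
        rw [orderOf_eq_one_iff.mpr (Subtype.ext hxE : x = 1)] at hx
        exact hp.ne_one hx.symm)
      exact (hE ha).2
    -- `N ≤ Φ(G)`
    have hNF : N ≤ frattini G := by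
      refine FrattiniLemmas.le_frattini_of_forall fun M hM => by_contra fun hNM => hprime ?_
      have htop : M ⊔ N = ⊤ := hM.2 _ (lt_of_le_of_ne le_sup_left fun e => hNM (e ▸ le_sup_right))
      have hn' : (M ⊓ N).Normal := by
        constructor
        intro x hx g
        have hg : g ∈ M ⊔ N := htop ▸ Subgroup.mem_top g
        obtain ⟨m, hm, n, hn, rfl⟩ := Subgroup.mem_sup_of_normal_right.mp hg
        have : m * n * x * (m * n)⁻¹ = m * x * m⁻¹ := by
          rw [show m * n * x * (m * n)⁻¹ = m * (n * x) * n⁻¹ * m⁻¹ by group, hcomm n hn x hx.2]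
          group
        rw [this]
        exact ⟨M.mul_mem (M.mul_mem hm hx.1) (M.inv_mem hm), hNn.conj_mem x hx.2 m⟩
      rcases hmin _ hn' inf_le_right with e | e
      · have hc : Subgroup.IsComplement' M N :=
          Subgroup.isComplement'_of_disjoint_and_mul_eq_univ (disjoint_iff.mpr e)
            (by rw [← Subgroup.mul_normal M N, htop, Subgroup.coe_top])
        rw [← hc.symm.index_eq_card]
        exact h M hM
      · exact absurd (inf_eq_right.mp e) hNM
    -- a normal subgroup, nilpotent modulo `N`, is a `p`-group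
    set q := QuotientGroup.mk' N with hq
    have hqs : Function.Surjective q := QuotientGroup.mk'_surjective N
    have hGN := hquot N hN0
    have hlift : ∀ X : Subgroup (G ⧸ N), [X.Normal] → Group.IsNilpotent X → X.comap q ≤ P := by
      intro X _ hX
      have hNY : N ≤ X.comap q := by
        conv_lhs => rw [← QuotientGroup.ker_mk' N]
        exact Subgroup.ker_le_comap _ _
      have hnil : Group.IsNilpotent (X.comap q) := by
        refine FrattiniLemmas.isNilpotent_of_quotient hNY hNF ?_
        let φ : X.comap q →* X := q.subgroupComap X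
        have hφs : Function.Surjective φ := MonoidHom.subgroupComap_surjective_of_surjective q X hqs
        have hφk : φ.ker = N.subgroupOf (X.comap q) := by
          ext x
          rw [MonoidHom.mem_ker, Subgroup.mem_subgroupOf, ← QuotientGroup.eq_one_iff, ← Subtype.coe_inj]
          rfl
        exact Group.nilpotent_of_mulEquiv
          ((QuotientGroup.quotientMulEquivOfEq hφk.symm).trans
            (QuotientGroup.quotientKerEquivOfSurjective φ hφs)).symm
      have := isPGroup_of_normal_nilpotent hNp huniq hN0 (Y := X.comap q) hnil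
      obtain ⟨Q, hQ⟩ := this.exists_le_sylow
      obtain ⟨g, rfl⟩ := MulAction.exists_smul_eq G P Q
      rwa [Sylow.smul_eq_iff_mem_normalizer.mpr (show g ∈ Subgroup.normalizer ((P : Subgroup G) : Set G) by
        rw [Subgroup.normalizer_eq_top_iff.mpr hPn]; trivial)] at hQ
    have hG' : commutator G ≤ P := by
      refine le_trans ?_ (hlift (commutator (G ⧸ N)) (isNilpotent_commutator hGN))
      rw [← Subgroup.map_le_iff_le_comap, commutator_def, Subgroup.map_commutator,
        Subgroup.map_top_of_surjective q hqs, ← commutator_def]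
    let X : Subgroup (G ⧸ N) :=
      commutator (G ⧸ N) ⊔ Subgroup.closure (Set.range fun g : G ⧸ N => g ^ (p - 1))
    have hXn : X.Normal := Subgroup.Normal.of_commutator_le _ le_sup_left
    have hX : Group.IsNilpotent X := by
      refine isNilpotent_of_centralizes hGN X fun A B hA hB hAB hBX hr => ?_
      by_cases hrp : A.relIndex B = p
      · have h1 := commutator_centralizes_section hA hB hAB hr
        have hle : X ≤ { carrier := {x | ∀ b ∈ B, ⁅x, b⁆ ∈ A}
                         one_mem' := fun b _ => by simp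
                         mul_mem' := fun {x y} hx hy b hb => by
                           rw [show ⁅x * y, b⁆ = x * ⁅y, b⁆ * x⁻¹ * ⁅x, b⁆ by
                             simp only [commutatorElement_def]; group]
                           exact mul_mem (hA.conj_mem _ (hy b hb) x) (hx b hb)
                         inv_mem' := fun {x} hx b hb => by
                           rw [show ⁅x⁻¹, b⁆ = x⁻¹ * ⁅x, b⁆⁻¹ * (x⁻¹)⁻¹ by
                             simp only [commutatorElement_def]; group]
                           exact hA.conj_mem _ (inv_mem (hx b hb)) x⁻¹ : Subgroup (G ⧸ N) } := by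
          refine sup_le (fun x hx b hb => h1.1 (Subgroup.commutator_mem_commutator hx hb)) ?_
          rw [Subgroup.closure_le]
          rintro _ ⟨g, rfl⟩ b hb
          have := h1.2 g b hb
          rwa [hrp] at this
        exact Subgroup.commutator_le.mpr fun x hx b hb => hle hx b hb
      · -- sections of order prime to `p` are central
        refine Subgroup.commutator_le.mpr fun x _ b hb => ?_
        have hc : ⁅x, b⁆ ∈ commutator (G ⧸ N) :=
          Subgroup.commutator_mem_commutator (Subgroup.mem_top _) (Subgroup.mem_top _)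
        have hcB : ⁅x, b⁆ ∈ B := Subgroup.commutator_le_right ⊤ B
          (Subgroup.commutator_mem_commutator (Subgroup.mem_top _) hb)
        obtain ⟨y, hy⟩ := hqs x
        obtain ⟨z, hz⟩ := hqs b
        have hP' : ⁅y, z⁆ ∈ (P : Subgroup G) := hG'
          (Subgroup.commutator_mem_commutator (Subgroup.mem_top _) (Subgroup.mem_top _))
        obtain ⟨k, hk⟩ := P.2 ⟨_, hP'⟩
        have hk' : ⁅x, b⁆ ^ p ^ k = 1 := by
          rw [← hy, ← hz, ← map_commutatorElement, ← map_pow]
          have := congrArg Subtype.val hk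
          simp only [SubmonoidClass.coe_pow, OneMemClass.coe_one] at this
          rw [this, map_one]
        have hr' : ⁅x, b⁆ ^ A.relIndex B ∈ A := by
          haveI : (A.subgroupOf B).Normal := hA.subgroupOf B
          have := Subgroup.pow_index_mem (H := A.subgroupOf B) (⟨⁅x, b⁆, hcB⟩ : B)
          exact this
        have hco : (p ^ k).Coprime (A.relIndex B) :=
          ((Nat.coprime_primes hp hr).mpr (Ne.symm hrp)).pow_left k
        have hb1 : (1 : ℤ) = (p ^ k : ℕ) * Nat.gcdA (p ^ k) (A.relIndex B) +
            (A.relIndex B : ℕ) * Nat.gcdB (p ^ k) (A.relIndex B) := by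
          rw [← Nat.gcd_eq_gcd_ab, hco.gcd_eq_one, Nat.cast_one]
        rw [← zpow_one ⁅x, b⁆, hb1, zpow_add, zpow_mul, zpow_natCast, hk', one_zpow, one_mul, zpow_mul,
          zpow_natCast]
        exact A.zpow_mem hr' _
    have hXP := hlift X hX
    -- every element acts on `N` as a scalar
    have hscal : ∀ g : G, ∃ k : ℕ, ∀ n ∈ N, g * n * g⁻¹ = n ^ k := by
      intro g
      have hg : g ^ (p - 1) ∈ Subgroup.centralizer (N : Set G) := by
        rw [Subgroup.mem_centralizer_iff]
        intro n hn
        refine (hPcent _ (hXP (Subgroup.mem_sup_right (Subgroup.subset_closure ⟨q g, ?_⟩))) n hn).symm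
        exact (map_pow q g _).symm
      obtain ⟨k, v, hv, hv1, hvk⟩ := exists_scalar hN0 hcomm hexp g hg
      let E : Subgroup G :=
        { carrier := {n | n ∈ N ∧ g * n * g⁻¹ = n ^ k}
          mul_mem' := fun {a b} ha hb => ⟨mul_mem ha.1 hb.1, by
            rw [(show Commute a b from hcomm a ha.1 b hb.1).mul_pow, ← ha.2, ← hb.2]; group⟩
          one_mem' := ⟨one_mem _, by simp⟩
          inv_mem' := fun {a} ha => ⟨inv_mem ha.1, by rw [inv_pow, ← ha.2]; group⟩ }
      haveI : E.Normal := by
        refine ⟨fun a ha x => ⟨hNn.conj_mem a ha.1 x, ?_⟩⟩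
        have hc := hPcent _ (hG' (Subgroup.commutator_mem_commutator (Subgroup.mem_top g⁻¹)
          (Subgroup.mem_top x⁻¹))) a ha.1
        rw [conj_pow, ← ha.2]
        rw [show g * (x * a * x⁻¹) * g⁻¹ = x * g * (⁅g⁻¹, x⁻¹⁆ * a * ⁅g⁻¹, x⁻¹⁆⁻¹) * g⁻¹ * x⁻¹ by
          simp only [commutatorElement_def]; group, hc, mul_inv_cancel_right]
        group
      refine ⟨k, fun n hn => (huniq E inferInstance (fun e => hv1 ?_) hn).2⟩
      have hvE : v ∈ E := ⟨hv, hvk⟩
      rwa [e, Subgroup.mem_bot] at hvE
    exfalso
    obtain ⟨v, hv, hv1⟩ := N.bot_or_exists_ne_one.resolve_left hN0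
    haveI : (Subgroup.zpowers v).Normal := by
      refine ⟨fun a ha g => ?_⟩
      obtain ⟨k, hk⟩ := hscal g
      rw [hk a (Subgroup.zpowers_le.mpr hv ha)]
      exact pow_mem ha k
    have hNz : N ≤ Subgroup.zpowers v :=
      huniq _ inferInstance (fun e => hv1 (Subgroup.zpowers_eq_bot.mp e))
    apply hprime
    rw [le_antisymm hNz (Subgroup.zpowers_le.mpr hv), Nat.card_zpowers, orderOf_eq_prime (hexp v hv) hv1]
    exact hp

end CfsgLib.Supersolvable
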