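/-
A minimal normal subgroup is a direct power of a simple group.
-/
import Mathlib

set_option autoImplicit false

namespace CfsgLib.MinimalNormal

universe u

variable {H : Type u} [Group H] [Finite H]

open scoped Pointwise

open Classical in
theorem exists_factors (N : Subgroup H) [N.Normal] (hN : N ≠ ⊥)
    (hmin : ∀ M : Subgroup H, M.Normal → M ≤ N → M = ⊥ ∨ M = N) :
    ∃ (T₀ : Subgroup H) (s : Finset (Subgroup H)), IsSimpleGroup T₀ ∧ s.Nonempty ∧ T₀ ≤ N ∧
      (∀ T ∈ s, ∃ h : H, T = T₀.map (MulAut.conj h).toMonoidHom) ∧ s.sup id = N ∧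
      (∀ T ∈ s, T ≤ N ∧ N ≤ Subgroup.normalizer (T : Set H)) ∧
      (∀ T ∈ s, Disjoint T ((s.erase T).sup id)) ∧
      (∀ T ∈ s, ∀ T' ∈ s, T ≠ T' → ∀ x ∈ T, ∀ y ∈ T', Commute x y) := by
  classical
  obtain ⟨T₀, ⟨hT0, hT0N, hNT0⟩, hminT⟩ := (Set.toFinite
    {T : Subgroup H | T ≠ ⊥ ∧ T ≤ N ∧ N ≤ Subgroup.normalizer (T : Set H)}).exists_minimal
    ⟨N, hN, le_rfl, Subgroup.le_normalizer⟩
  let C : H → Subgroup H := fun h => T₀.map (MulAut.conj h).toMonoidHom
  have hNn : N.Normal := inferInstance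
  have hmem : ∀ h x, x ∈ C h ↔ h⁻¹ * x * h ∈ T₀ := fun h x => by
    simp only [C, Subgroup.mem_map, MulEquiv.coe_toMonoidHom, MulAut.conj_apply]
    exact ⟨fun ⟨y, hy, e⟩ => by rw [← e]; rwa [show h⁻¹ * (h * y * h⁻¹) * h = y by group], fun hx => ⟨_, hx, by group⟩⟩
  have hle : ∀ h, C h ≤ N := fun h x hx => by
    have := hNn.conj_mem _ (hT0N ((hmem h x).mp hx)) h
    rwa [show h * (h⁻¹ * x * h) * h⁻¹ = x by group] at this
  have hnorm : ∀ h, N ≤ Subgroup.normalizer (C h : Set H) := fun h n hn => by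
    rw [Subgroup.mem_normalizer_iff]
    intro x
    have hn' : h⁻¹ * n * h ∈ N := by simpa using hNn.conj_mem n hn h⁻¹
    rw [hmem, hmem, Subgroup.mem_normalizer_iff.mp (hNT0 hn') (h⁻¹ * x * h)]
    constructor <;> intro hx
    · rwa [show h⁻¹ * (n * x * n⁻¹) * h = h⁻¹ * n * h * (h⁻¹ * x * h) * (h⁻¹ * n * h)⁻¹ by group]
    · rwa [show h⁻¹ * n * h * (h⁻¹ * x * h) * (h⁻¹ * n * h)⁻¹ = h⁻¹ * (n * x * n⁻¹) * h by group]
  -- minimality of every conjugate
  have hsmall : ∀ h, ∀ M : Subgroup H, M ≤ C h → N ≤ Subgroup.normalizer (M : Set H) → M = ⊥ ∨ M = C h := by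
    intro h M hM hMN
    by_cases hM0 : M = ⊥
    · exact Or.inl hM0
    refine Or.inr (le_antisymm hM ?_)
    let M' : Subgroup H := M.map (MulAut.conj h⁻¹).toMonoidHom
    have hmem' : ∀ x, x ∈ M' ↔ h * x * h⁻¹ ∈ M := fun x => by
      simp only [M', Subgroup.mem_map, MulEquiv.coe_toMonoidHom, MulAut.conj_apply, inv_inv]
      exact ⟨fun ⟨y, hy, e⟩ => by rw [← e]; rwa [show h * (h⁻¹ * y * h) * h⁻¹ = y by group], fun hx => ⟨_, hx, by group⟩⟩
    have hM'0 : M' ≠ ⊥ := fun e => hM0 ((Subgroup.map_eq_bot_iff_of_injective _ (MulAut.conj h⁻¹).injective).mp e)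
    have hM'le : M' ≤ T₀ := fun x hx => by
      have := (hmem h _).mp (hM ((hmem' x).mp hx))
      rwa [show h⁻¹ * (h * x * h⁻¹) * h = x by group] at this
    have hM'N : N ≤ Subgroup.normalizer (M' : Set H) := fun n hn => by
      rw [Subgroup.mem_normalizer_iff]
      intro x
      rw [hmem', hmem', Subgroup.mem_normalizer_iff.mp (hMN (hNn.conj_mem n hn h)) (h * x * h⁻¹)]
      constructor <;> intro hx
      · rwa [show h * (n * x * n⁻¹) * h⁻¹ = h * n * h⁻¹ * (h * x * h⁻¹) * (h * n * h⁻¹)⁻¹ by group]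
      · rwa [show h * n * h⁻¹ * (h * x * h⁻¹) * (h * n * h⁻¹)⁻¹ = h * (n * x * n⁻¹) * h⁻¹ by group]
    have heq : T₀ ≤ M' := hminT ⟨hM'0, hM'le.trans hT0N, hM'N⟩ hM'le
    intro x hx
    have := (hmem' _).mp (heq ((hmem h x).mp hx))
    rwa [show h * (h⁻¹ * x * h) * h⁻¹ = x by group] at this
  have hCne : ∀ h, C h ≠ ⊥ := fun h e => hT0 ((Subgroup.map_eq_bot_iff_of_injective _ (MulAut.conj h).injective).mp e)
  have hcomm : ∀ g h, C g ≠ C h → ∀ x ∈ C g, ∀ y ∈ C h, Commute x y := by
    intro g h hne x hx y hy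
    have hbot : C g ⊓ C h = ⊥ := by
      rcases hsmall g (C g ⊓ C h) inf_le_left (fun n hn => by
        rw [Subgroup.mem_normalizer_iff]
        intro z
        simp only [Subgroup.mem_inf]
        rw [Subgroup.mem_normalizer_iff.mp (hnorm g hn) z, Subgroup.mem_normalizer_iff.mp (hnorm h hn) z]) with e | e
      · exact e
      · rcases hsmall h (C g) (inf_eq_left.mp e) (hnorm g) with e' | e'
        · exact absurd e' (hCne g)
        · exact absurd e' hne
    have h1 : x * y * x⁻¹ * y⁻¹ ∈ C g := by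
      have h2 := (Subgroup.mem_normalizer_iff.mp (hnorm g (hle h hy)) x⁻¹).mp (inv_mem hx)
      have := mul_mem hx h2
      simpa [mul_assoc] using this
    have h3 : x * y * x⁻¹ * y⁻¹ ∈ C h :=
      mul_mem ((Subgroup.mem_normalizer_iff.mp (hnorm h (hle g hx)) y).mp hy) (inv_mem hy)
    have h4 : x * y * x⁻¹ * y⁻¹ = 1 := Subgroup.mem_bot.mp (hbot ▸ ⟨h1, h3⟩)
    show x * y = y * x
    calc x * y = (x * y * x⁻¹ * y⁻¹) * (y * x) := by group
      _ = _ := by rw [h4, one_mul]
  -- a maximal independent family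
  let good : Finset (Subgroup H) → Prop := fun s =>
    (∀ T ∈ s, ∃ h, T = C h) ∧ ∀ T ∈ s, Disjoint T ((s.erase T).sup id)
  have : Finite (Finset (Subgroup H)) := inferInstance
  obtain ⟨s, hs, hmax⟩ := (Set.toFinite {s | good s}).exists_maximal ⟨∅, by simp [good]⟩
  have hsle : ∀ t : Finset (Subgroup H), (∀ T ∈ t, ∃ h, T = C h) → t.sup id ≤ N := fun t ht =>
    Finset.sup_le fun T hT => by obtain ⟨h, rfl⟩ := ht T hT; exact hle h
  have hnormsup : ∀ t : Finset (Subgroup H), (∀ T ∈ t, ∃ h, T = C h) → N ≤ Subgroup.normalizer ((t.sup id : Subgroup H) : Set H) := by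
    intro t ht
    induction t using Finset.induction_on with
    | empty =>
      rw [Finset.sup_empty, Subgroup.normalizer_eq_top_iff.mpr (inferInstance : (⊥ : Subgroup H).Normal)]
      exact le_top
    | insert T t _ iht =>
      intro n hn
      obtain ⟨h, hh⟩ := ht T (Finset.mem_insert_self T t)
      rw [Finset.sup_insert, id_eq, hh, Subgroup.mem_normalizer_iff]
      have key : ∀ m ∈ N, ∀ z ∈ C h ⊔ t.sup id, m * z * m⁻¹ ∈ C h ⊔ t.sup id := by
        intro m hm z hz
        rw [Subgroup.sup_eq_closure] at hz ⊢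
        induction hz using Subgroup.closure_induction with
        | mem w hw =>
          refine Subgroup.subset_closure ?_
          rcases hw with hw | hw
          · exact Or.inl ((Subgroup.mem_normalizer_iff.mp (hnorm h hm) w).mp hw)
          · exact Or.inr ((Subgroup.mem_normalizer_iff.mp (iht (fun T hT => ht T (Finset.mem_insert_of_mem hT)) hm) w).mp hw)
        | one => simp
        | mul a b _ _ iha ihb => rw [show m * (a * b) * m⁻¹ = m * a * m⁻¹ * (m * b * m⁻¹) by group]; exact mul_mem iha ihb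
        | inv a _ iha => rw [show m * a⁻¹ * m⁻¹ = (m * a * m⁻¹)⁻¹ by group]; exact inv_mem iha
      intro z
      refine ⟨key n hn z, fun hz => ?_⟩
      have := key n⁻¹ (inv_mem hn) _ hz
      rwa [show n⁻¹ * (n * z * n⁻¹) * n⁻¹⁻¹ = z by group] at this
  have hall : ∀ h, C h ≤ s.sup id := by
    intro h
    by_contra hno
    have hbot : C h ⊓ s.sup id = ⊥ := by
      rcases hsmall h (C h ⊓ s.sup id) inf_le_left (fun n hn => by
        rw [Subgroup.mem_normalizer_iff]
        intro z
        simp only [Subgroup.mem_inf]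
        rw [Subgroup.mem_normalizer_iff.mp (hnorm h hn) z, Subgroup.mem_normalizer_iff.mp (hnormsup s hs.1 hn) z]) with e | e
      · exact e
      · exact absurd (inf_eq_left.mp e) hno
    have hnots : C h ∉ s := fun hmem => hno (Finset.le_sup (f := id) hmem)
    have hgood : good (insert (C h) s) := by
      refine ⟨fun T hT => ?_, fun T hT => ?_⟩
      · rcases Finset.mem_insert.mp hT with rfl | hT
        · exact ⟨h, rfl⟩
        · exact hs.1 T hT
      rcases Finset.mem_insert.mp hT with rfl | hT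
      · rw [Finset.erase_insert hnots, disjoint_iff]; exact hbot
      · have hne : T ≠ C h := fun e => hnots (e ▸ hT)
        rw [Finset.erase_insert_of_ne (Ne.symm hne), Finset.sup_insert, id_eq, disjoint_iff, Subgroup.eq_bot_iff_forall]
        rintro x ⟨hxT, hx⟩
        have hle' : (s.erase T).sup id ≤ Subgroup.normalizer (C h : Set H) :=
          (hsle _ fun T' hT' => hs.1 T' (Finset.mem_of_mem_erase hT')).trans (hnorm h)
        change x ∈ ((C h ⊔ (s.erase T).sup id : Subgroup H) : Set H) at hx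
        rw [Subgroup.coe_mul_of_right_le_normalizer_left _ _ hle'] at hx
        obtain ⟨c, hc, r, hr, rfl⟩ := hx
        have hrs : r ∈ s.sup id := (Finset.sup_mono (f := id) (Finset.erase_subset T s) : (s.erase T).sup id ≤ s.sup id) hr
        have hc1 : c ∈ C h ⊓ s.sup id := by
          refine ⟨hc, ?_⟩
          have := mul_mem (Finset.le_sup (f := id) hT hxT) (inv_mem hrs)
          simpa using this
        rw [hbot, Subgroup.mem_bot] at hc1
        subst hc1
        simp only [one_mul] at hxT ⊢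
        exact Subgroup.mem_bot.mp ((hs.2 T hT).le_bot ⟨hxT, hr⟩)
    exact hnots (hmax hgood (Finset.subset_insert _ _) (Finset.mem_insert_self _ _))
  have hsup : s.sup id = N := by
    have hS : (⨆ h, C h).Normal := ⟨fun x hx g => by
      have h2 : ∀ z ∈ (⨆ h, C h).map (MulAut.conj g).toMonoidHom, z ∈ ⨆ h, C h := by
        rw [Subgroup.map_iSup]
        refine fun z hz => (iSup_le fun h => ?_ : (⨆ h, (C h).map (MulAut.conj g).toMonoidHom) ≤ _) hz
        refine le_trans ?_ (le_iSup C (g * h))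
        rintro _ ⟨w, hw, rfl⟩
        rw [SetLike.mem_coe, hmem] at hw
        rw [hmem]
        simpa [mul_assoc] using hw
      exact h2 _ ⟨x, hx, rfl⟩⟩
    have hSN : (⨆ h, C h) ≤ N := iSup_le hle
    rcases hmin _ hS hSN with e | e
    · exact absurd (le_bot_iff.mp (e ▸ le_iSup C 1)) (hCne 1)
    · exact le_antisymm (hsle s hs.1) (e ▸ iSup_le hall)
  have hC1 : C 1 = T₀ := by ext x; simp [hmem]
  have hsimple : IsSimpleGroup T₀ := by
    have : Nontrivial T₀ := (Subgroup.nontrivial_iff_ne_bot T₀).mpr hT0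
    refine ⟨fun M hM => ?_⟩
    have hM' : N ≤ Subgroup.normalizer ((M.map T₀.subtype : Subgroup H) : Set H) := by
      rw [← hsup]
      refine Finset.sup_le fun T hT => ?_
      obtain ⟨h, rfl⟩ := hs.1 T hT
      by_cases he : C h = C 1
      · rw [id_eq, he, hC1]
        intro t ht
        rw [Subgroup.mem_normalizer_iff]
        intro z
        constructor
        · rintro ⟨w, hw, rfl⟩
          exact ⟨⟨t, ht⟩ * w * ⟨t, ht⟩⁻¹, hM.conj_mem w hw ⟨t, ht⟩, rfl⟩
        · rintro ⟨w, hw, e⟩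
          refine ⟨⟨t, ht⟩⁻¹ * w * ⟨t, ht⟩, by simpa using hM.conj_mem w hw ⟨t, ht⟩⁻¹, ?_⟩
          simp only [Subgroup.coe_subtype] at e
          simp [e, mul_assoc]
      · intro t ht
        rw [Subgroup.mem_normalizer_iff]
        intro z
        have hc : ∀ w ∈ M.map T₀.subtype, t * w * t⁻¹ = w := fun w hw => by
          rw [(hcomm h 1 he t ht w (hC1.symm ▸ Subgroup.map_subtype_le _ hw)).eq, mul_inv_cancel_right]
        refine ⟨fun hz => by rwa [hc z hz], fun hz => ?_⟩
        have := hc _ hz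
        have e2 : t * z * t⁻¹ = z := mul_left_cancel (mul_right_cancel this)
        rwa [e2] at hz
    rcases hsmall 1 (M.map T₀.subtype) (hC1.symm ▸ Subgroup.map_subtype_le _) hM' with e | e
    · exact Or.inl ((Subgroup.map_eq_bot_iff_of_injective _ T₀.subtype_injective).mp e)
    · refine Or.inr (Subgroup.map_injective T₀.subtype_injective ?_)
      rw [e, hC1, ← MonoidHom.range_eq_map, Subgroup.range_subtype]
  refine ⟨T₀, s, hsimple, ?_, hT0N, hs.1, hsup, fun T hT => ?_, hs.2, fun T hT T' hT' hne => ?_⟩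
  · rw [Finset.nonempty_iff_ne_empty]
    rintro rfl
    exact hN (by simpa using hsup.symm)
  · obtain ⟨h, rfl⟩ := hs.1 T hT; exact ⟨hle h, hnorm h⟩
  · obtain ⟨g, rfl⟩ := hs.1 T hT
    obtain ⟨h, rfl⟩ := hs.1 T' hT'
    exact hcomm g h hne

theorem power_of_simple (N : Subgroup H) [N.Normal] (hN : N ≠ ⊥)
    (hmin : ∀ M : Subgroup H, M.Normal → M ≤ N → M = ⊥ ∨ M = N) :
    ∃ (T : Type) (_ : Group T) (m : ℕ), IsSimpleGroup T ∧ 0 < m ∧ Nonempty (N ≃* (Fin m → T)) := by
  classical
  obtain ⟨T₀, s, hsimple, hne, -, hconj, hsup, -, hdisj, hcomm⟩ := exists_factors N hN hmin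
  let K : s → Subgroup H := fun i => i.1
  have hpc : Pairwise fun i j : s => ∀ x y : H, x ∈ K i → y ∈ K j → Commute x y := fun i j hij x y hx hy =>
    hcomm i.1 i.2 j.1 j.2 (fun e => hij (Subtype.ext e)) x hx y hy
  have hind : iSupIndep K := by
    intro i
    refine (hdisj i.1 i.2).mono_right (iSup₂_le fun j hj => ?_)
    exact Finset.le_sup (f := id) (Finset.mem_erase.mpr ⟨fun e => hj (Subtype.ext e), j.2⟩)
  have hinj := Subgroup.injective_noncommPiCoprod_of_iSupIndep (hcomm := hpc) hind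
  have hrange : (Subgroup.noncommPiCoprod hpc).range = N := by
    rw [Subgroup.noncommPiCoprod_range, ← hsup, Finset.sup_eq_iSup, iSup_subtype]
    rfl
  let e1 : (∀ i : s, K i) ≃* N := (MonoidHom.ofInjective hinj).trans (MulEquiv.subgroupCongr hrange)
  haveI : Small.{0} T₀ := Countable.toSmall T₀
  let e2 : Shrink.{0} T₀ ≃* T₀ := Shrink.mulEquiv
  have e3 : ∀ i : s, Nonempty (K i ≃* Shrink.{0} T₀) := fun i => by
    obtain ⟨h, hh⟩ := hconj i.1 i.2
    exact ⟨(MulEquiv.subgroupCongr hh).trans ((T₀.equivMapOfInjective _ (MulAut.conj h).injective).symm.trans e2.symm)⟩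
  have : IsSimpleGroup (Shrink.{0} T₀) := e2.isSimpleGroup
  refine ⟨Shrink.{0} T₀, inferInstance, s.card, this, Finset.card_pos.mpr hne, ⟨?_⟩⟩
  exact e1.symm.trans ((MulEquiv.piCongrRight fun i => (e3 i).some).trans
    { toFun := fun f j => f (s.equivFin.symm j)
      invFun := fun f i => f (s.equivFin i)
      left_inv := fun f => by funext i; simp
      right_inv := fun f => by funext j; simp
      map_mul' := fun f g => rfl })

end CfsgLib.MinimalNormal
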