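/-
Groups with nilpotent centralisers: sections, and solvable groups of odd order with nilpotent centralisers.
-/
import Cfsg.Agent.Lib.PSolvable
import Cfsg.Agent.Lib.HallPi
import Cfsg.Agent.Lib.Elementary
import Cfsg.Agent.Lib.Frobenius.Complement
import Cfsg.Agent.Lib.Glauberman.Solvable
import Cfsg.Agent.Lib.ZJ.Complement
import Cfsg.Agent.Lib.Transfer
import Cfsg.Prelude.Def_LieExceptional

set_option autoImplicit false

namespace CfsgLib.CN

open Subgroup Cfsg
open scoped Pointwise commutatorElement

universe u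
variable {G : Type u} [Group G]

theorem isNilpotent_of_le {H K : Subgroup G} (h : H ≤ K) (hK : Group.IsNilpotent K) :
    Group.IsNilpotent H :=
  Group.nilpotent_of_mulEquiv (subgroupOfEquivOfLe h)

theorem isCN_of_injective {H : Type u} [Group H] [Finite G] (hG : IsCNGroup G) (f : H →* G)
    (hf : Function.Injective f) : IsCNGroup H := by
  intro x hx
  have h1 := hG (f x) fun e => hx (hf (by rw [e, map_one]))
  have h2 : (centralizer ({x} : Set H)).map f ≤ centralizer ({f x} : Set G) := by
    rintro _ ⟨c, hc, rfl⟩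
    rw [mem_centralizer_singleton_iff, ← map_mul, ← map_mul, mem_centralizer_singleton_iff.mp hc]
  haveI := isNilpotent_of_le h2 h1
  exact Group.nilpotent_of_mulEquiv ((centralizer ({x} : Set H)).equivMapOfInjective f hf).symm

theorem isCN_subgroup [Finite G] (hG : IsCNGroup G) (H : Subgroup G) : IsCNGroup H :=
  isCN_of_injective hG H.subtype H.subtype_injective

/-- Two elements of coprime orders in the centraliser of a non-trivial element commute. -/
theorem commute_of_mem_centralizer [Finite G] (hG : IsCNGroup G) {c a b : G} (hc : c ≠ 1)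
    (ha : a * c = c * a) (hb : b * c = c * b) (h : (orderOf a).Coprime (orderOf b)) : a * b = b * a := by
  haveI := hG c hc
  have := Frob.commute_of_nilpotent_coprime (G := centralizer ({c} : Set G))
    (a := ⟨a, mem_centralizer_singleton_iff.mpr ha⟩) (b := ⟨b, mem_centralizer_singleton_iff.mpr hb⟩)
    (by rwa [Subgroup.orderOf_mk, Subgroup.orderOf_mk])
  exact congrArg Subtype.val this.eq

theorem coprime_orderOf_of_pGroup [Finite G] {p : ℕ} {P : Subgroup G} (hP : IsPGroup p P)
    {y : G} (hy : (orderOf y).Coprime p) {x : G} (hx : x ∈ P) : (orderOf y).Coprime (orderOf x) := by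
  obtain ⟨k, hk⟩ := hP ⟨x, hx⟩
  exact (hy.pow_right k).coprime_dvd_right (orderOf_dvd_of_pow_eq_one (by simpa using congrArg Subtype.val hk))

theorem isCN_quotient_pgroup [Finite G] (hG : IsCNGroup G) (N : Subgroup G) [N.Normal] {p : ℕ}
    [Fact p.Prime] (hN : IsPGroup p N) : IsCNGroup (G ⧸ N) := by
  by_cases hN1 : N = ⊥
  · subst hN1
    exact isCN_of_injective hG (QuotientGroup.quotientBot (G := G)).toMonoidHom
      (QuotientGroup.quotientBot (G := G)).injective
  suffices key : ∀ xb : G ⧸ N, (orderOf xb).Prime → Group.IsNilpotent (centralizer ({xb} : Set (G ⧸ N))) by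
    intro xb hxb
    obtain ⟨q, hq, hqd⟩ := Nat.exists_prime_and_dvd (mt orderOf_eq_one_iff.mp hxb)
    refine isNilpotent_of_le ?_ (key (xb ^ (orderOf xb / q)) ?_)
    · intro c hc
      rw [mem_centralizer_singleton_iff] at hc ⊢
      exact (Commute.pow_right hc _).eq
    · rwa [orderOf_pow_orderOf_div (orderOf_pos xb).ne' hqd]
  intro xb hq
  set π := QuotientGroup.mk' N with hπ
  obtain ⟨x, rfl⟩ := QuotientGroup.mk'_surjective N xb
  set q := orderOf (π x) with hqdef
  have := Fact.mk hq
  by_cases hqp : q = p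
  · -- the image of `x` is a `p`-element
    set C := (centralizer ({π x} : Set (G ⧸ N))).comap π with hC
    have hxC : x ∈ C := mem_centralizer_singleton_iff.mpr rfl
    have hNC : N ≤ C := fun a ha => by
      rw [Subgroup.mem_comap, show π a = 1 from (QuotientGroup.eq_one_iff a).mpr ha]
      exact one_mem _
    set X := (zpowers (π x)).comap π with hX
    have hXp : IsPGroup p X := by
      refine (IsPGroup.of_card (n := 1) ?_).comap_of_ker_isPGroup π (by rwa [QuotientGroup.ker_mk'])
      rw [Nat.card_zpowers, pow_one, ← hqdef, hqp]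
    have hNX : N ≤ X := fun a ha => by
      rw [Subgroup.mem_comap, show π a = 1 from (QuotientGroup.eq_one_iff a).mpr ha]
      exact one_mem _
    have hXC : X ≤ C := by
      intro a ha
      obtain ⟨i, hi⟩ := ha
      rw [Subgroup.mem_comap, ← hi, mem_centralizer_singleton_iff]
      exact ((Commute.refl (π x)).zpow_left i).eq
    obtain ⟨P, hP⟩ := (hXp.comap_subtype (K := C)).exists_le_sylow
    set Pg := (P : Subgroup C).map C.subtype with hPg
    have hPgp : IsPGroup p Pg := P.2.map _
    have hXP : X ≤ Pg := fun a ha => ⟨⟨a, hXC ha⟩, hP ha, rfl⟩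
    haveI : Group.IsNilpotent Pg := hPgp.isNilpotent
    obtain ⟨⟨z, hzP⟩, ⟨hzN, hzc⟩, hz1⟩ := (bot_or_exists_ne_one _).resolve_left
      (inf_center_ne_bot_of_nilpotent (G := Pg) (N := N.subgroupOf Pg) (by
        rw [Ne, Subgroup.subgroupOf_eq_bot, disjoint_iff, inf_eq_left.mpr (hNX.trans hXP)]
        exact hN1))
    replace hzN : z ∈ N := hzN
    have hz : z ≠ 1 := fun e => hz1 (Subtype.ext e)
    have hzcomm : ∀ u ∈ Pg, u * z = z * u := fun u hu =>
      congrArg Subtype.val (Subgroup.mem_center_iff.mp hzc ⟨u, hu⟩)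
    have hCz : C ≤ centralizer ({z} : Set G) := by
      have h1 : (P : Subgroup C) ≤ (centralizer ({z} : Set G)).subgroupOf C := fun u hu =>
        mem_centralizer_singleton_iff.mpr (hzcomm u ⟨u, hu, rfl⟩)
      have h2 : pResidual p C ≤ (centralizer ({z} : Set G)).subgroupOf C := by
        refine pResidual_le fun y hy => ?_
        rw [← Subgroup.orderOf_coe] at hy
        rw [Subgroup.mem_subgroupOf, mem_centralizer_singleton_iff]
        have hyC : π (y : G) * π x = π x * π (y : G) := mem_centralizer_singleton_iff.mp y.2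
        have hcop : (Nat.card (zpowers (y : G))).Coprime (Nat.card X) := by
          obtain ⟨k, hk⟩ := hXp.exists_card_eq
          rw [Nat.card_zpowers, hk]
          exact hy.pow_right k
        have hAX : zpowers (y : G) ≤ normalizer (X : Set G) := by
          rw [zpowers_le, mem_normalizer_iff]
          intro h
          have e : π ((y : G) * h * (y : G)⁻¹) = π (y : G) * π h * (π (y : G))⁻¹ := by simp
          constructor
          · rintro ⟨i, hi⟩
            refine ⟨i, ?_⟩
            show (π x) ^ i = π _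
            rw [e, ← show (π x) ^ i = π h from hi, ((show Commute (π (y : G)) (π x) from hyC).zpow_right i).eq,
              mul_inv_cancel_right]
          · rintro ⟨i, hi⟩
            refine ⟨i, ?_⟩
            replace hi : (π x) ^ i = π ((y : G) * h * (y : G)⁻¹) := hi
            rw [e] at hi
            show (π x) ^ i = π h
            calc (π x) ^ i = (π (y : G))⁻¹ * (π x) ^ i * π (y : G) := by
                  rw [mul_assoc, ← ((show Commute (π (y : G)) (π x) from hyC).zpow_right i).eq,
                    inv_mul_cancel_left]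
              _ = π h := by rw [hi]; group
        obtain ⟨c, ⟨hcX, hcy⟩, hcN⟩ := coprime_fixed_quotient hAX hcop (Or.inr (haveI := hXp.isNilpotent; inferInstance))
          hNX (fun a _ => by rw [normalizer_eq_top]; trivial) (fun a _ => by rw [normalizer_eq_top]; trivial)
          (show x ∈ X from ⟨1, zpow_one _⟩) (fun a ha => by
            obtain ⟨i, rfl⟩ := ha
            rw [← QuotientGroup.eq_one_iff]
            show π ((y : G) ^ i * x * ((y : G) ^ i)⁻¹ * x⁻¹) = 1
            simp only [map_mul, map_inv, map_zpow]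
            rw [((show Commute (π (y : G)) (π x) from hyC).zpow_left i).eq]
            group)
        have hc1 : c ≠ 1 := by
          rintro rfl
          refine hq.ne_one ?_
          rw [hqdef, orderOf_eq_one_iff]
          have := N.inv_mem hcN
          exact (QuotientGroup.eq_one_iff x).mpr (by simpa using this)
        have hyc : (y : G) * c = c * y := hcy y (mem_zpowers _)
        exact commute_of_mem_centralizer hG hc1 hyc (hzcomm c (hXP hcX)).symm
          (coprime_orderOf_of_pGroup hN hy hzN)
      have h3 := sylow_sup_eq_top_of_pResidual_le P (le_refl (pResidual p C))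
      intro u hu
      have h4 : (⟨u, hu⟩ : C) ∈ (centralizer ({z} : Set G)).subgroupOf C :=
        (h3 ▸ sup_le h2 h1 : (⊤ : Subgroup C) ≤ _) (mem_top _)
      exact h4
    have hnil : Group.IsNilpotent C := isNilpotent_of_le hCz (hG z hz)
    have : (centralizer ({π x} : Set (G ⧸ N))) = C.map π := by
      rw [hC, Subgroup.map_comap_eq_self_of_surjective (QuotientGroup.mk'_surjective N)]
    rw [this]
    exact Group.nilpotent_of_surjective (π.subgroupMap C) (π.subgroupMap_surjective C)
  · -- choose a preimage of order `q`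
    have hcq : q.Coprime p := (Nat.coprime_primes hq Fact.out).mpr hqp
    obtain ⟨y, hyx, hyq⟩ : ∃ y, (∃ j : ℕ, π y = π x ^ p ^ j) ∧ orderOf y = q := by
      obtain ⟨k, hk⟩ := hN ⟨x ^ q, (QuotientGroup.eq_one_iff _).mp (by
        show π (x ^ q) = 1
        rw [map_pow, pow_orderOf_eq_one])⟩
      refine ⟨x ^ p ^ k, ⟨k, map_pow π _ _⟩, orderOf_eq_prime ?_ ?_⟩
      · rw [← pow_mul, mul_comm, pow_mul]
        simpa using congrArg Subtype.val hk
      · intro e
        have h1 : π x ^ p ^ k = 1 := by rw [← map_pow, e, map_one]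
        exact hq.ne_one ((hcq.pow_right k).eq_one_of_dvd (orderOf_dvd_of_pow_eq_one h1))
    obtain ⟨j, hj⟩ := hyx
    have hy1 : y ≠ 1 := fun e => hq.ne_one (by rw [← hyq, e, orderOf_one])
    have hoy : orderOf (π y) = q := by
      rw [hj, orderOf_pow, ← hqdef, (hcq.pow_right j : Nat.gcd q (p ^ j) = 1), Nat.div_one]
    haveI := hG y hy1
    refine isNilpotent_of_le (K := (centralizer ({y} : Set G)).map π) ?_
      (Group.nilpotent_of_surjective (π.subgroupMap _) (π.subgroupMap_surjective _))
    intro cb hcb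
    obtain ⟨c, rfl⟩ := QuotientGroup.mk'_surjective N cb
    rw [mem_centralizer_singleton_iff] at hcb
    have hcy : π c * π y = π y * π c := by rw [hj]; exact (Commute.pow_right hcb _).eq
    have hA : zpowers y ≤ normalizer (N : Set G) := by rw [normalizer_eq_top]; exact le_top
    have hcop : (Nat.card (zpowers y)).Coprime (Nat.card N) := by
      obtain ⟨k, hk⟩ := hN.exists_card_eq
      rw [Nat.card_zpowers, hyq, hk]
      exact hcq.pow_right k
    obtain ⟨g, hg, hgB⟩ := exists_conj_complement (B := zpowers (c * y * c⁻¹)) hA hcop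
      (Or.inr (haveI := hN.isNilpotent; inferInstance)) (by
        rw [zpowers_le]
        have h1 : c * y * c⁻¹ * y⁻¹ ∈ N := (QuotientGroup.eq_one_iff _).mp (by
          show π (c * y * c⁻¹ * y⁻¹) = 1
          simp only [map_mul, map_inv, hcy]
          group)
        have := Subgroup.mul_mem_sup h1 (mem_zpowers y)
        rwa [inv_mul_cancel_right] at this)
      (by rw [Nat.card_zpowers, Nat.card_zpowers]; exact (MulAut.conj c).orderOf_eq y)
    have hm : g * y * g⁻¹ ∈ zpowers (c * y * c⁻¹) := by
      rw [← hgB, mem_conj_smul_iff]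
      simp [mul_assoc]
    obtain ⟨i, hi⟩ := hm
    replace hi : (c * y * c⁻¹) ^ i = g * y * g⁻¹ := hi
    have hgπ : π g = 1 := (QuotientGroup.eq_one_iff g).mpr hg
    have h2 : π y ^ i = π y := by
      have := congrArg π hi
      simp only [map_zpow, map_mul, map_inv, hgπ, hcy, mul_inv_cancel_right] at this
      simpa using this
    have h3 : c * y * c⁻¹ = g * y * g⁻¹ := by
      rw [← hi]
      refine (zpow_one _).symm.trans (zpow_eq_zpow_iff_modEq.mpr ?_)
      rw [show orderOf (c * y * c⁻¹) = orderOf (π y) by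
        rw [hoy, ← hyq]; exact (MulAut.conj c).orderOf_eq y]
      refine zpow_eq_zpow_iff_modEq.mp ?_
      rw [zpow_one, h2]
    refine ⟨g⁻¹ * c, mem_centralizer_singleton_iff.mpr ?_, by rw [map_mul, map_inv, hgπ, inv_one, one_mul]⟩
    calc g⁻¹ * c * y = g⁻¹ * (c * y * c⁻¹) * c := by group
      _ = y * (g⁻¹ * c) := by rw [h3]; group

theorem isCN_quotient : ∀ (n : ℕ) {G : Type u} [Group G] [Finite G], IsCNGroup G → ∀ (H : Subgroup G)
    [H.Normal], Group.IsSolvable H → Nat.card H = n → IsCNGroup (G ⧸ H) := by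
  intro n
  induction n using Nat.strong_induction_on with
  | h n ih =>
    intro G _ _ hG H _ hH hn
    by_cases h1 : H = ⊥
    · subst h1
      exact isCN_of_injective hG (QuotientGroup.quotientBot (G := G)).toMonoidHom
        (QuotientGroup.quotientBot (G := G)).injective
    obtain ⟨N, hNn, hNH, hN1, hmin⟩ := exists_minimal_normal h1
    have hNs : Group.IsSolvable N :=
      Group.isSolvable_of_isSolvable_injective (f := Subgroup.inclusion hNH) (Subgroup.inclusion_injective _)
    obtain ⟨-, p, hp, hexp⟩ := minimal_normal_elementary hN1 hNs hmin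
    have := Fact.mk hp
    have hNp : IsPGroup p N := fun a => ⟨1, Subtype.ext (by simpa using hexp a a.2)⟩
    have hq := isCN_quotient_pgroup hG N hNp
    haveI : (H.map (QuotientGroup.mk' N)).Normal :=
      Subgroup.Normal.map inferInstance _ (QuotientGroup.mk'_surjective N)
    have hlt : Nat.card (H.map (QuotientGroup.mk' N)) < n := by
      rw [← hn]
      have h2 : Nat.card H = Nat.card (H.map (QuotientGroup.mk' N)) * Nat.card N := by
        rw [mul_comm, ← CfsgLib.card_comap_mk N, Subgroup.comap_map_eq, QuotientGroup.ker_mk', sup_eq_left.mpr hNH]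
      rw [h2]
      exact lt_mul_of_one_lt_right Nat.card_pos
        (Finite.one_lt_card_iff_nontrivial.mpr ((Subgroup.nontrivial_iff_ne_bot N).mpr hN1))
    have h3 := ih _ hlt hq (H.map (QuotientGroup.mk' N))
      (Group.isSolvable_of_surjective ((QuotientGroup.mk' N).subgroupMap_surjective H)) rfl
    exact isCN_of_injective h3 (QuotientGroup.quotientQuotientEquivQuotient N H hNH).symm.toMonoidHom
      (QuotientGroup.quotientQuotientEquivQuotient N H hNH).symm.injective

/-- An abelian Hall `p'`-subgroup is normal when `O_p = 1`. -/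
theorem normal_of_abelian_hall [Finite G] [Group.IsSolvable G] {p : ℕ} [Fact p.Prime]
    (hO : pCore p G = ⊥) (A : Subgroup G) (hAc : ∀ a ∈ A, ∀ b ∈ A, a * b = b * a)
    (hAp : (Nat.card A).Coprime p) {k : ℕ} (hk : A.index ∣ p ^ k) : A.Normal := by
  have hp : p.Prime := Fact.out
  set F := fittingSubgroup G with hF
  have hFn : F.Normal := inferInstance
  have hFnil : Group.IsNilpotent F := isNilpotent_fittingSubgroup
  have hFc : (Nat.card F).Coprime p := by
    refine (hp.coprime_iff_not_dvd.mpr fun hd => ?_).symm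
    obtain ⟨T⟩ : Nonempty (Sylow p F) := inferInstance
    have hTn : (T : Subgroup F).Normal :=
      (Group.isNilpotent_of_finite_tfae (G := F)).out 0 3 rfl rfl |>.mp hFnil p inferInstance _
    haveI := Sylow.characteristic_of_normal T hTn
    haveI : ((T : Subgroup F).map F.subtype).Normal := inferInstance
    have h1 := le_pCore (N := (T : Subgroup F).map F.subtype) (T.2.map _)
    rw [hO, le_bot_iff, Subgroup.map_eq_bot_iff_of_injective _ F.subtype_injective] at h1
    exact T.ne_bot_of_dvd_card hd h1
  have h1 : Nat.card (F ⊔ A : Subgroup G) ≤ Nat.card A := by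
    have hc : (Nat.card (F ⊔ A : Subgroup G)).Coprime p := by
      refine (hAp.mul_left hFc).coprime_dvd_left ?_
      rw [sup_comm]
      exact card_sup_dvd_mul A F
    have h2 := Subgroup.card_subgroup_dvd_card (F ⊔ A : Subgroup G)
    rw [← A.card_mul_index] at h2
    exact Nat.le_of_dvd Nat.card_pos (((hc.pow_right k).coprime_dvd_right hk).dvd_of_dvd_mul_right h2)
  have hFA : F ≤ A := le_sup_left.trans (Subgroup.eq_of_le_of_card_ge le_sup_right h1).ge
  have hAF : A ≤ F := fun a ha => centralizer_fitting_le (fun f hf => hAc f (hFA hf) a ha)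
  rw [le_antisymm hAF hFA]
  exact hFn

/-- A solvable group of odd order with nilpotent centralisers and `O_p ≠ 1`, whose Sylow `p`-subgroup
is not normal: `ZJ` is normal and the Sylow subgroup is not inside the commutator subgroup. -/
theorem nonnormal_sylow_facts [Finite G] [Group.IsSolvable G] (hG : IsCNGroup G)
    (hodd : Odd (Nat.card G)) {p : ℕ} [Fact p.Prime] (S : Sylow p G) (hO : pCore p G ≠ ⊥)
    (hS : ¬ (S : Subgroup G).Normal) :
    (ZJ.zj 0 (S : Subgroup G)).Normal ∧ ¬ (S : Subgroup G) ≤ _root_.commutator G := by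
  have hp : p.Prime := Fact.out
  set O := pCore p G with hOdef
  have hOp : IsPGroup p O := isPGroup_pCore p
  have hOS : O ≤ (S : Subgroup G) := pCore_le_sylow S
  have hp2 : p ≠ 2 := by
    rintro rfl
    obtain ⟨k, hk⟩ := hOp.exists_card_eq
    have : Nontrivial O := (Subgroup.nontrivial_iff_ne_bot O).mpr hO
    have hk0 : k ≠ 0 := fun e => (Finite.one_lt_card (α := O)).ne' (by rw [hk, e, pow_zero])
    exact hodd.not_two_dvd_nat ((hk ▸ dvd_pow_self 2 hk0).trans (Subgroup.card_subgroup_dvd_card O))
  haveI : Group.IsNilpotent (S : Subgroup G) := S.2.isNilpotent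
  obtain ⟨⟨z, hzS⟩, ⟨hzO, hzc⟩, hz1⟩ := (bot_or_exists_ne_one _).resolve_left
    (inf_center_ne_bot_of_nilpotent (G := (S : Subgroup G)) (N := O.subgroupOf (S : Subgroup G)) (by
      rw [Ne, Subgroup.subgroupOf_eq_bot, disjoint_iff, inf_eq_left.mpr hOS]
      exact hO))
  replace hzO : z ∈ O := hzO
  have hz : z ≠ 1 := fun e => hz1 (Subtype.ext e)
  have hzcomm : ∀ u ∈ (S : Subgroup G), u * z = z * u := fun u hu =>
    congrArg Subtype.val (Subgroup.mem_center_iff.mp hzc ⟨u, hu⟩)
  -- `O_{p'}(G) = 1`
  have hQ : pPrimeCore p G = ⊥ := by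
    by_contra hQ1
    set Q := pPrimeCore p G with hQdef
    haveI : Q.Normal := Subgroup.sSup_normal _ (fun _ h => h.1)
    have hQp : ∀ a ∈ Q, (orderOf a).Coprime p := fun a ha =>
      (card_pPrimeCore_coprime p).coprime_dvd_left (Q.orderOf_dvd_natCard ha)
    have hSQ : (S : Subgroup G) ≤ centralizer (Q : Set G) := by
      intro u hu a ha
      have hdis : Disjoint Q O := by
        obtain ⟨k, hk⟩ := hOp.exists_card_eq
        exact Subgroup.disjoint_of_coprime_natCard (by rw [hk]; exact (card_pPrimeCore_coprime p).pow_right k)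
      have haz : a * z = z * a := (Subgroup.commute_of_normal_of_disjoint Q O inferInstance inferInstance hdis a z ha hzO).eq
      exact commute_of_mem_centralizer hG hz haz (hzcomm u hu) (coprime_orderOf_of_pGroup S.2 (hQp a ha) hu)
    obtain ⟨w, hw, hw1⟩ := (bot_or_exists_ne_one Q).resolve_left hQ1
    set K := centralizer (Q : Set G) with hK
    haveI : K.Normal := Subgroup.normal_centralizer
    haveI : Group.IsNilpotent K := isNilpotent_of_le
      (fun u hu => mem_centralizer_singleton_iff.mpr (hu w hw).symm) (hG w hw1)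
    have hn : ((S.subtype hSQ : Sylow p K) : Subgroup K).Normal :=
      (Group.isNilpotent_of_finite_tfae (G := K)).out 0 3 rfl rfl |>.mp inferInstance p inferInstance _
    have hch := Sylow.characteristic_of_normal _ hn
    apply hS
    have e : ((S.subtype hSQ : Sylow p K) : Subgroup K).map K.subtype = (S : Subgroup G) := by
      show ((S : Subgroup G).subgroupOf K).map K.subtype = _
      rw [Subgroup.map_subgroupOf_eq_of_le hSQ]
    rw [← e]
    haveI := hch
    infer_instance
  have hCO : centralizer (O : Set G) ≤ O := centralizer_pCore_le hp hQ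
  -- `p'`-elements act fixed point freely
  set V := (center O).map O.subtype with hV
  haveI : Nontrivial O := (Subgroup.nontrivial_iff_ne_bot O).mpr hO
  have hV1 : V ≠ ⊥ := by
    rw [hV, Ne, Subgroup.map_eq_bot_iff_of_injective _ O.subtype_injective]
    exact (Subgroup.nontrivial_iff_ne_bot _).mp hOp.center_nontrivial
  haveI : IsMulCommutative V := inferInstance
  haveI : V.Normal := inferInstance
  have hfix : ∀ a : G, (orderOf a).Coprime p → a ≠ 1 → V ⊓ centralizer {a} = ⊥ := by
    intro a hap ha1
    rw [eq_bot_iff]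
    rintro v ⟨⟨v', hv', rfl⟩, hva⟩
    by_contra hv1
    rw [Subgroup.mem_bot] at hv1
    have haO : a ∈ centralizer (O : Set G) := by
      intro o ho
      exact (commute_of_mem_centralizer hG hv1
        (mem_centralizer_singleton_iff.mp hva).symm
        (congrArg Subtype.val (Subgroup.mem_center_iff.mp hv' ⟨o, ho⟩))
        (coprime_orderOf_of_pGroup hOp hap ho)).symm
    obtain ⟨k, hk⟩ := hOp ⟨a, hCO haO⟩
    exact ha1 (orderOf_eq_one_iff.mp ((hap.pow_right k).eq_one_of_dvd
      (orderOf_dvd_of_pow_eq_one (by simpa using congrArg Subtype.val hk))))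
  -- a Hall `p'`-subgroup is abelian
  obtain ⟨A, hA⟩ := exists_isPiHallOf {q : ℕ | q ≠ p} (M := (⊤ : Subgroup G)) inferInstance
  have hpA : ¬ p ∣ Nat.card A := fun h => hA.2.1 p hp h rfl
  have hAp : ∀ a ∈ A, (orderOf a).Coprime p := fun a ha =>
    (hp.coprime_iff_not_dvd.mpr fun h => hpA (h.trans (A.orderOf_dvd_natCard ha))).symm
  have hidx : ∃ k, A.index = p ^ k := by
    refine ⟨A.index.primeFactorsList.length, Nat.eq_prime_pow_of_unique_prime_dvd Subgroup.index_ne_zero_of_finite fun {q} hq hqd => ?_⟩
    by_contra hne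
    exact hA.2.2 q hq hne (by rwa [Subgroup.relIndex_top_right])
  have hAne : A ≠ ⊥ := by
    intro e
    obtain ⟨k, hk⟩ := hidx
    have hpG : IsPGroup p G := IsPGroup.of_card (n := k) (by rw [← hk, e, Subgroup.index_bot])
    apply hS
    rw [show (S : Subgroup G) = ⊤ from (S.3 (hpG.to_subgroup ⊤) le_top).symm]
    infer_instance
  have hAcomm : IsMulCommutative A := by
    have hoddA : Odd (Nat.card A) := hodd.of_dvd_nat (Subgroup.card_subgroup_dvd_card A)
    have hAV : A ≤ normalizer (V : Set G) := by rw [normalizer_eq_top]; exact le_top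
    have hfpf : ∀ a ∈ A, a ≠ 1 → V ⊓ centralizer {a} = ⊥ := fun a ha => hfix a (hAp a ha)
    obtain ⟨⟨a, ha⟩, hac, ha1⟩ := (bot_or_exists_ne_one _).resolve_left
      (Frob.center_ne_bot_of_odd hV1 hAV hfpf hoddA hAne)
    haveI : Group.IsNilpotent A := isNilpotent_of_le
      (fun b hb => mem_centralizer_singleton_iff.mpr
        (congrArg Subtype.val (Subgroup.mem_center_iff.mp hac ⟨b, hb⟩)))
      (hG a fun e => ha1 (Subtype.ext e))
    haveI : IsZGroup A := ⟨fun q hq P => by
      have := Fact.mk hq
      rcases Frob.sylow_cyclic_or_quaternion hV1 hAV hfpf P with h | ⟨n, ⟨e⟩⟩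
      · exact h
      · exfalso
        have h1 : Nat.card (P : Subgroup A) = 4 * 2 ^ n := by
          rw [Nat.card_congr e.toEquiv, Nat.card_eq_fintype_card, QuaternionGroup.card]
        exact hoddA.not_two_dvd_nat ((Dvd.intro (2 * 2 ^ n) (by ring)).trans
          (h1 ▸ Subgroup.card_subgroup_dvd_card _))⟩
    exact IsCyclic.isMulCommutative
  -- `O A` is normal
  set π := QuotientGroup.mk' O with hπ
  have hπs : Function.Surjective π := QuotientGroup.mk'_surjective O
  set Ab := A.map π with hAb
  have hAbc : ∀ a ∈ Ab, ∀ b ∈ Ab, a * b = b * a := by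
    rintro _ ⟨a, ha, rfl⟩ _ ⟨b, hb, rfl⟩
    rw [← map_mul, ← map_mul, show a * b = b * a from
      congrArg Subtype.val (hAcomm.is_comm.comm ⟨a, ha⟩ ⟨b, hb⟩)]
  have hAbp : ∀ y ∈ Ab, (orderOf y).Coprime p := by
    rintro _ ⟨a, ha, rfl⟩
    exact (hAp a ha).coprime_dvd_left (orderOf_map_dvd π a)
  haveI hAbn : Ab.Normal := by
    obtain ⟨k, hk⟩ := hidx
    exact normal_of_abelian_hall ZJ.pCore_quotient_pCore_eq_bot Ab hAbc
      ((hp.coprime_iff_not_dvd.mpr fun h => hpA (h.trans (A.card_map_dvd π))).symm)
      (hk ▸ A.index_map_dvd hπs)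
  set M₁ := Ab.comap π with hM₁
  haveI : M₁.Normal := Subgroup.normal_comap _
  have hAM : A ≤ M₁ := fun a ha => Subgroup.mem_map_of_mem π ha
  have hcop : ∀ m ∈ M₁, m ^ p ∈ O → m ∈ O := by
    intro m hm hmp
    refine (QuotientGroup.eq_one_iff m).mp (orderOf_eq_one_iff.mp ((hAbp _ hm).eq_one_of_dvd ?_))
    refine orderOf_dvd_of_pow_eq_one ?_
    rw [← map_pow]
    exact (QuotientGroup.eq_one_iff _).mpr hmp
  have hq : IsPGroup p (G ⧸ M₁) := by
    obtain ⟨k, hk⟩ := hidx
    obtain ⟨j, -, hj⟩ := (Nat.dvd_prime_pow hp).mp (hk ▸ Subgroup.index_dvd_of_le hAM)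
    exact IsPGroup.of_card (n := j) (by rw [← Subgroup.index_eq_card, hj])
  have hab : ∀ m ∈ M₁, ∀ n ∈ M₁, ⁅m, n⁆ ∈ O := by
    intro m hm n hn
    rw [← QuotientGroup.eq_one_iff]
    show π ⁅m, n⁆ = 1
    rw [map_commutatorElement, commutatorElement_eq_one_iff_mul_comm]
    exact hAbc _ hm _ hn
  refine ⟨ZJ.zj_normal hp2 (Or.inl rfl) hCO (ZJ.quadStable_of_abelian hp2 M₁ hab hcop hq) S, fun hle => hS ?_⟩
  haveI : Group.IsNilpotent (G ⧸ M₁) := hq.isNilpotent
  by_cases htop : M₁ = ⊤
  · have hSO : (S : Subgroup G) = O := by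
      refine le_antisymm (fun u hu => ?_) hOS
      obtain ⟨k, hk⟩ := S.2 ⟨u, hu⟩
      refine (QuotientGroup.eq_one_iff u).mp (orderOf_eq_one_iff.mp
        (((hAbp _ (show u ∈ M₁ from htop ▸ mem_top u)).pow_right k).eq_one_of_dvd ?_))
      refine orderOf_dvd_of_pow_eq_one ?_
      rw [← map_pow, show u ^ p ^ k = 1 by simpa using congrArg Subtype.val hk, map_one]
    rw [hSO]; infer_instance
  exfalso
  have hs : M₁ ⊔ (S : Subgroup G) = ⊤ :=
    sylow_sup_eq_top_of_pResidual_le S (pResidual_le_of_isPGroup_quotient hq)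
  have hne : Nontrivial (G ⧸ M₁) := QuotientGroup.nontrivial_iff.mpr htop
  refine (Group.IsSolvable.commutator_lt_top_of_nontrivial (G ⧸ M₁)).ne (eq_top_iff.mpr ?_)
  rw [← Subgroup.map_top_of_surjective _ (QuotientGroup.mk'_surjective M₁), ← hs, Subgroup.map_sup,
    QuotientGroup.map_mk'_self, bot_sup_eq]
  refine (Subgroup.map_mono hle).trans ?_
  rw [_root_.commutator_def, _root_.commutator_def, Subgroup.map_commutator]
  exact Subgroup.commutator_mono le_top le_top

end CfsgLib.CN
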