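/-
The Feit–Hall–Thompson theorem: groups of odd order with nilpotent centralisers are solvable.
-/
import Cfsg.Agent.Lib.Solvable.CN
import Cfsg.Agent.Lib.CharTheory.PartitionMain
import Cfsg.Agent.S0588
import Cfsg.Agent.Lib.TransferApps
import Cfsg.Agent.Lib.Fusion.Saturation
import Mathlib.GroupTheory.Focal

set_option autoImplicit false

namespace CfsgLib.CN

open Subgroup Cfsg
open scoped Pointwise commutatorElement

universe u
variable {G : Type u} [Group G]

section Minimal

variable [Finite G] {p : ℕ} [Fact p.Prime]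

/-- A proper normalizer. -/
theorem normalizer_ne_top (hs : IsSimpleGroup G) {D : Subgroup G} (h0 : D ≠ ⊥) (h1 : D ≠ ⊤) :
    normalizer (D : Set G) ≠ ⊤ := fun h => by
  rcases hs.eq_bot_or_eq_top_of_normal D (Subgroup.normalizer_eq_top_iff.mp h) with e | e
  exacts [h0 e, h1 e]

theorem pgroup_ne_top (hs : IsSimpleGroup G) (hperf : _root_.commutator G = ⊤) {D : Subgroup G}
    (hD : IsPGroup p D) : D ≠ ⊤ := by
  rintro rfl
  haveI : Group.IsNilpotent G := (hD.of_equiv Subgroup.topEquiv).isNilpotent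
  exact (Group.IsSolvable.commutator_lt_top_of_nontrivial G).ne hperf

/-- A non-normal Sylow subgroup of a `p`-local subgroup: the normalizer is inside that of `ZJ`. -/
theorem local_facts (hCN : IsCNGroup G) (hodd : Odd (Nat.card G)) (hs : IsSimpleGroup G)
    (hperf : _root_.commutator G = ⊤) (hsol : ∀ H : Subgroup G, H ≠ ⊤ → Group.IsSolvable H)
    {D : Subgroup G} (hD : IsPGroup p D) (hD1 : D ≠ ⊥) {H : Subgroup G} (hH : H = normalizer (D : Set G))
    (S : Sylow p H) (hS : ¬ (S : Subgroup H).Normal) :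
    H ≤ normalizer (ZJ.zj 0 ((S : Subgroup H).map H.subtype) : Set G) ∧
      ¬ (S : Subgroup H).map H.subtype ≤ ⁅H, H⁆ := by
  haveI := hsol H (hH ▸ normalizer_ne_top hs hD1 (pgroup_ne_top hs hperf hD))
  have hO : pCore p H ≠ ⊥ := by
    haveI : (D.subgroupOf H).Normal := by subst hH; exact Subgroup.normal_in_normalizer
    intro e
    have h1 := le_pCore (N := D.subgroupOf H) hD.comap_subtype
    rw [e, le_bot_iff, Subgroup.subgroupOf_eq_bot, disjoint_iff, inf_eq_left.mpr (hH ▸ Subgroup.le_normalizer)] at h1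
    exact hD1 h1
  obtain ⟨h1, h2⟩ := nonnormal_sylow_facts (isCN_subgroup hCN H)
    (hodd.of_dvd_nat (Subgroup.card_subgroup_dvd_card H)) S hO hS
  refine ⟨fun n hn => ?_, fun hle => h2 fun s hs => ?_⟩
  · have h3 : (⟨n, hn⟩ : H) ∈ normalizer (ZJ.zj 0 (S : Subgroup H) : Set H) := by
      rw [Subgroup.normalizer_eq_top_iff.mpr h1]; trivial
    have h4 := Subgroup.le_normalizer_map H.subtype ⟨_, h3, rfl⟩
    rwa [← ZJ.zj_map 0 H.subtype_injective] at h4
  · have h3 : (s : G) ∈ (_root_.commutator H).map H.subtype := by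
      rw [Subgroup.map_subtype_commutator]
      exact hle ⟨s, hs, rfl⟩
    obtain ⟨t, ht, hts⟩ := h3
    rwa [H.subtype_injective hts] at ht

/-- A Sylow subgroup is normal in the normalizer of its `ZJ`-subgroup. -/
theorem sylow_normal_zj (hCN : IsCNGroup G) (hodd : Odd (Nat.card G)) (hs : IsSimpleGroup G)
    (hperf : _root_.commutator G = ⊤) (hsol : ∀ H : Subgroup G, H ≠ ⊤ → Group.IsSolvable H)
    (P : Sylow p G) (hP1 : (P : Subgroup G) ≠ ⊥) :
    normalizer (ZJ.zj 0 (P : Subgroup G) : Set G) ≤ normalizer ((P : Subgroup G) : Set G) := by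
  set Z₀ := ZJ.zj 0 (P : Subgroup G) with hZ₀
  set M := normalizer (Z₀ : Set G) with hM
  have hPM : (P : Subgroup G) ≤ M := Subgroup.le_normalizer.trans (ZJ.normalizer_le_normalizer_zj 0 _)
  have hZP : Z₀ ≤ P := ZJ.zj_le 0 _
  have hZ1 : Z₀ ≠ ⊥ := ZJ.zj_ne_bot (p := p) (Or.inl rfl) P.2 hP1
  by_contra hnot
  have hn : ¬ ((P.subtype hPM : Sylow p M) : Subgroup M).Normal := fun h =>
    hnot ((Subgroup.normal_subgroupOf_iff_le_normalizer hPM).mp h)
  obtain ⟨-, hnle⟩ := local_facts hCN hodd hs hperf hsol (P.2.to_le hZP) hZ1 hM (P.subtype hPM) hn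
  rw [show ((P.subtype hPM : Sylow p M) : Subgroup M).map M.subtype = (P : Subgroup G) from
    Subgroup.map_subgroupOf_eq_of_le hPM] at hnle
  apply hnle
  -- the commutator subgroup of `M` contains the focal subgroup
  set K := ⁅M, M⁆ with hK
  let r : G → G → Prop := fun x y => x⁻¹ * y ∈ K
  have rtrans : ∀ {x y z : G}, r x y → r y z → r x z := fun {x y z} h1 h2 => by
    have := K.mul_mem h1 h2
    simpa [r, mul_assoc] using this
  have rsymm : ∀ {x y : G}, r x y → r y x := fun {x y} h => by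
    have := K.inv_mem h
    simpa [r] using this
  have hin : ∀ g ∈ M, ∀ x ∈ (P : Subgroup G), r x (g * x * g⁻¹) := fun g hg x hx => by
    have h1 : ⁅x⁻¹, g⁆ ∈ K := Subgroup.commutator_mem_commutator (inv_mem (hPM hx)) hg
    rw [commutatorElement_def, inv_inv] at h1
    show x⁻¹ * (g * x * g⁻¹) ∈ K
    simpa [mul_assoc] using h1
  set c := Nat.card (P : Subgroup G) with hc
  have key : ∀ k n : ℕ, n + k = c + 1 →
      (∀ D : Subgroup G, D ≤ P → D ≠ ⊥ → n ≤ Nat.card D → ∀ g : G,
        (∀ x ∈ D, g * x * g⁻¹ ∈ (P : Subgroup G)) → ∀ x ∈ D, r x (g * x * g⁻¹)) ∧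
      (∀ Z : Subgroup G, Z ≤ P → Z ≠ ⊥ → n ≤ Nat.card ((P : Subgroup G) ⊓ normalizer (Z : Set G) : Subgroup G) →
        ∀ g ∈ normalizer (Z : Set G), ∀ x ∈ (P : Subgroup G) ⊓ normalizer (Z : Set G),
          g * x * g⁻¹ ∈ (P : Subgroup G) → r x (g * x * g⁻¹)) := by
    intro k
    induction k with
    | zero =>
      intro n hn
      refine ⟨fun D hDP _ hle => ?_, fun Z _ _ hle => ?_⟩
      · have := Subgroup.card_le_of_le hDP; omega
      · have := Subgroup.card_le_of_le (inf_le_left : (P : Subgroup G) ⊓ normalizer (Z : Set G) ≤ P); omega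
    | succ k ih =>
      intro n hn
      obtain ⟨hΦ', hΨ'⟩ := ih (n + 1) (by omega)
      have hΦ : ∀ D : Subgroup G, D ≤ P → D ≠ ⊥ → n ≤ Nat.card D → ∀ g : G,
          (∀ x ∈ D, g * x * g⁻¹ ∈ (P : Subgroup G)) → ∀ x ∈ D, r x (g * x * g⁻¹) := by
        intro D hDP hD1 hle g hg x hx
        by_cases hDeq : D = (P : Subgroup G)
        · subst hDeq
          have hgN : g ∈ normalizer ((P : Subgroup G) : Set G) :=
            Subgroup.mem_normalizer_iff'' |>.mpr (fun y => by
              have he : MulAut.conj g • (P : Subgroup G) = P := Subgroup.eq_of_le_of_card_ge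
                (fun z hz => by
                  rw [CfsgLib.mem_conj_smul_iff] at hz
                  have := hg _ hz
                  simpa [mul_assoc] using this) (by rw [CfsgLib.card_conj_smul])
              have h1 := SetLike.ext_iff.mp he y
              rw [CfsgLib.mem_conj_smul_iff] at h1
              exact h1.symm)
          exact hin g (ZJ.normalizer_le_normalizer_zj 0 _ hgN) x hx
        set E := MulAut.conj g • D with hE
        have hEP : E ≤ P := fun z hz => by
          rw [hE, CfsgLib.mem_conj_smul_iff] at hz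
          have := hg _ hz
          simpa [mul_assoc] using this
        have hEeq : E ≠ (P : Subgroup G) := fun e => hDeq
          (Subgroup.eq_of_le_of_card_ge hDP (by rw [← e, hE, CfsgLib.card_conj_smul]))
        have hltD := inf_normalizer_lt P hDP hDeq
        have hltE := inf_normalizer_lt P hEP hEeq
        have hRD : n + 1 ≤ Nat.card ((P : Subgroup G) ⊓ normalizer (D : Set G) : Subgroup G) :=
          hle.trans_lt (Set.Finite.card_lt_card (Set.toFinite _) hltD)
        have hRE : n + 1 ≤ Nat.card ((P : Subgroup G) ⊓ normalizer (E : Set G) : Subgroup G) := by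
          refine hle.trans_lt ?_
          rw [← CfsgLib.card_conj_smul g D, ← hE]
          exact Set.Finite.card_lt_card (Set.toFinite _) hltE
        -- move `N_P(D)` into a Sylow subgroup of `N(D*)`
        obtain ⟨T, hT⟩ := ((P.2.to_le (inf_le_left : (P : Subgroup G) ⊓ normalizer (D : Set G) ≤ P)).comap_subtype
          (K := normalizer (D : Set G))).exists_le_sylow
        obtain ⟨h, hh⟩ := Cfsg.exists_conj_mem_sylow P (T.2.map (normalizer (D : Set G)).subtype)
        have hh' : ∀ y ∈ (P : Subgroup G) ⊓ normalizer (D : Set G), h * y * h⁻¹ ∈ (P : Subgroup G) :=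
          fun y hy => hh y ⟨⟨y, hy.2⟩, hT hy, rfl⟩
        set D' := MulAut.conj h • D with hD'
        have hD'P : D' ≤ P := fun z hz => by
          rw [hD', CfsgLib.mem_conj_smul_iff] at hz
          have := hh' _ ⟨hDP hz, Subgroup.le_normalizer hz⟩
          simpa [mul_assoc] using this
        have hD'1 : D' ≠ ⊥ := fun e => hD1 (Subgroup.card_eq_one.mp (by
          rw [← CfsgLib.card_conj_smul h D, ← hD', e, Subgroup.card_bot]))
        have hE1 : E ≠ ⊥ := fun e => hD1 (Subgroup.card_eq_one.mp (by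
          rw [← CfsgLib.card_conj_smul g D, ← hE, e, Subgroup.card_bot]))
        -- the same for `E`
        set m := h * g⁻¹ with hm
        have hND : ∀ y ∈ normalizer (E : Set G), g⁻¹ * y * g ∈ normalizer (D : Set G) := fun y hy => by
          rw [hE, ZJ.normalizer_conj_smul, CfsgLib.mem_conj_smul_iff] at hy
          exact hy
        let RE : Subgroup (normalizer (D : Set G)) :=
          ((P : Subgroup G) ⊓ normalizer (E : Set G)).map (MulAut.conj g⁻¹).toMonoidHom |>.subgroupOf _
        have hREp : IsPGroup p RE :=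
          ((P.2.to_le (inf_le_left : (P : Subgroup G) ⊓ normalizer (E : Set G) ≤ P)).map _).comap_subtype
        obtain ⟨a, ha⟩ := Cfsg.exists_conj_mem_sylow T hREp
        set k' := h * (a : G) * g⁻¹ with hk'
        have hk : ∀ y ∈ (P : Subgroup G) ⊓ normalizer (E : Set G), k' * y * k'⁻¹ ∈ (P : Subgroup G) := by
          intro y hy
          have h1 := ha ⟨g⁻¹ * y * g, hND y hy.2⟩ ⟨y, hy, by simp⟩
          have h2 := hh _ ⟨_, h1, rfl⟩
          simpa [hk', mul_assoc] using h2
        have hxE : g * x * g⁻¹ ∈ E := by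
          rw [hE, CfsgLib.mem_conj_smul_iff]; simpa [mul_assoc] using hx
        have s1 : r x (h * x * h⁻¹) :=
          hΦ' _ inf_le_left (ne_bot_of_le_ne_bot hD1 (le_inf hDP Subgroup.le_normalizer)) hRD h hh' x
            ⟨hDP hx, Subgroup.le_normalizer hx⟩
        have s2 : r (g * x * g⁻¹) (k' * (g * x * g⁻¹) * k'⁻¹) :=
          hΦ' _ inf_le_left (ne_bot_of_le_ne_bot hE1 (le_inf hEP Subgroup.le_normalizer)) hRE k' hk _
            ⟨hEP hxE, Subgroup.le_normalizer hxE⟩
        have hgN : h * (a : G) * h⁻¹ ∈ normalizer (D' : Set G) := by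
          rw [hD', ZJ.normalizer_conj_smul, CfsgLib.mem_conj_smul_iff]
          simp [mul_assoc]
        have s3 : r (h * x * h⁻¹) (k' * (g * x * g⁻¹) * k'⁻¹) := by
          have hxP : h * x * h⁻¹ ∈ D' := by
            rw [hD', CfsgLib.mem_conj_smul_iff]; simpa [mul_assoc] using hx
          have e : k' * (g * x * g⁻¹) * k'⁻¹ = h * (a : G) * h⁻¹ * (h * x * h⁻¹) * (h * (a : G) * h⁻¹)⁻¹ := by
            rw [hk']; group
          rw [e]
          refine hΨ' D' hD'P hD'1 ?_ _ hgN _ ⟨hD'P hxP, Subgroup.le_normalizer hxP⟩ ?_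
          · refine hRD.trans ?_
            rw [← CfsgLib.card_conj_smul h]
            refine Subgroup.card_le_of_le fun z hz => ?_
            rw [CfsgLib.mem_conj_smul_iff] at hz
            refine ⟨?_, ?_⟩
            · show z ∈ (P : Subgroup G)
              simpa [mul_assoc] using hh' _ hz
            · show z ∈ normalizer (D' : Set G)
              rw [hD', ZJ.normalizer_conj_smul, CfsgLib.mem_conj_smul_iff]
              exact hz.2
          · rw [← e]; exact hk _ ⟨hEP hxE, Subgroup.le_normalizer hxE⟩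
        exact rtrans (rtrans s1 s3) (rsymm s2)
      refine ⟨hΦ, fun Z hZP' hZ1' hle g hg x hx hgx => ?_⟩
      set R := (P : Subgroup G) ⊓ normalizer (Z : Set G) with hR
      by_cases hbig : n + 1 ≤ Nat.card R
      · exact hΨ' Z hZP' hZ1' hbig g hg x hx hgx
      have hR1 : R ≠ ⊥ := ne_bot_of_le_ne_bot hZ1' (le_inf hZP' Subgroup.le_normalizer)
      have hgxR : g * x * g⁻¹ ∈ R := ⟨hgx, (normalizer (Z : Set G)).mul_mem ((normalizer (Z : Set G)).mul_mem hg hx.2) ((normalizer (Z : Set G)).inv_mem hg)⟩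
      obtain ⟨T, hT⟩ := ((P.2.to_le (inf_le_left : R ≤ P)).comap_subtype
        (K := normalizer (Z : Set G))).exists_le_sylow
      set Tg := (T : Subgroup (normalizer (Z : Set G))).map (normalizer (Z : Set G)).subtype with hTg
      have hTp : IsPGroup p Tg := T.2.map _
      have hRT : R ≤ Tg := fun y hy => ⟨⟨y, hy.2⟩, hT hy, rfl⟩
      by_cases hTR : Tg = R
      · -- `N_P(Z)` is a Sylow subgroup of `N(Z)`
        obtain ⟨Z', hZ'P, hZ'1, hNZ, hNR⟩ : ∃ Z' : Subgroup G, Z' ≤ P ∧ Z' ≠ ⊥ ∧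
            normalizer (Z : Set G) ≤ normalizer (Z' : Set G) ∧
            normalizer (R : Set G) ≤ normalizer (Z' : Set G) ∧ (R = (P : Subgroup G) → normalizer (Z' : Set G) ≤ M) := by
          by_cases hTn : (T : Subgroup (normalizer (Z : Set G))).Normal
          · refine ⟨R, inf_le_left, hR1, fun y hy => ?_, le_rfl, fun e => by
              rw [e]; exact ZJ.normalizer_le_normalizer_zj 0 _⟩
            have h3 := Subgroup.le_normalizer_map (normalizer (Z : Set G)).subtype
              ⟨⟨y, hy⟩, (show (⟨y, hy⟩ : normalizer (Z : Set G)) ∈ normalizer ((T : Subgroup (normalizer (Z : Set G))) : Set _) by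
                rw [Subgroup.normalizer_eq_top_iff.mpr hTn]; trivial), rfl⟩
            rwa [← hTg, hTR] at h3
          · refine ⟨ZJ.zj 0 R, (ZJ.zj_le 0 R).trans inf_le_left,
              ZJ.zj_ne_bot (p := p) (Or.inl rfl) (P.2.to_le inf_le_left) hR1, ?_,
              ZJ.normalizer_le_normalizer_zj 0 R, fun e => by rw [e]⟩
            have h3 := (local_facts hCN hodd hs hperf hsol (P.2.to_le hZP') hZ1' rfl T hTn).1
            rwa [← hTg, hTR] at h3
        obtain ⟨hNR, hNM⟩ := hNR
        by_cases hRP : R = (P : Subgroup G)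
        · exact hin g (hNM hRP (hNZ hg)) x hx.1
        · have hlt := inf_normalizer_lt P (inf_le_left : R ≤ P) hRP
          refine hΨ' Z' hZ'P hZ'1 ?_ g (hNZ hg) x ⟨hx.1, hNR (Subgroup.le_normalizer hx)⟩ hgx
          have h4 : Nat.card R < Nat.card ((P : Subgroup G) ⊓ normalizer (R : Set G) : Subgroup G) :=
            Set.Finite.card_lt_card (Set.toFinite _) hlt
          exact le_trans (Nat.succ_le_of_lt (lt_of_le_of_lt hle h4)) (Subgroup.card_le_of_le (inf_le_inf_left _ hNR))
      · -- otherwise move to a conjugate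
        obtain ⟨h, hh⟩ := Cfsg.exists_conj_mem_sylow P hTp
        set Z' := MulAut.conj h • Z with hZ'
        have hZ'P : Z' ≤ P := fun z hz => by
          rw [hZ', CfsgLib.mem_conj_smul_iff] at hz
          have := hh _ (hRT ⟨hZP' hz, Subgroup.le_normalizer hz⟩)
          simpa [mul_assoc] using this
        have hZ'1 : Z' ≠ ⊥ := fun e => hZ1' (Subgroup.card_eq_one.mp (by
          rw [← CfsgLib.card_conj_smul h Z, ← hZ', e, Subgroup.card_bot]))
        have hmem : ∀ y ∈ normalizer (Z : Set G), h * y * h⁻¹ ∈ normalizer (Z' : Set G) := fun y hy => by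
          rw [hZ', ZJ.normalizer_conj_smul, CfsgLib.mem_conj_smul_iff]
          simpa [mul_assoc] using hy
        have hbig' : n + 1 ≤ Nat.card ((P : Subgroup G) ⊓ normalizer (Z' : Set G) : Subgroup G) := by
          have h4 : Nat.card R < Nat.card Tg :=
            lt_of_le_of_ne (Subgroup.card_le_of_le hRT) fun e => hTR (Subgroup.eq_of_le_of_card_ge hRT e.ge).symm
          refine le_trans (Nat.succ_le_of_lt (lt_of_le_of_lt hle h4)) ?_
          rw [← CfsgLib.card_conj_smul h Tg]
          refine Subgroup.card_le_of_le fun z hz => ?_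
          rw [CfsgLib.mem_conj_smul_iff] at hz
          have h1 := hh _ hz
          have h2 := hmem _ (Subgroup.map_subtype_le _ hz)
          refine ⟨?_, ?_⟩
          · show z ∈ (P : Subgroup G)
            simpa [mul_assoc] using h1
          · show z ∈ normalizer (Z' : Set G)
            simpa [mul_assoc] using h2
        have s1 : r x (h * x * h⁻¹) := hΦ R inf_le_left hR1 hle h (fun y hy => hh y (hRT hy)) x hx
        have s2 : r (g * x * g⁻¹) (h * (g * x * g⁻¹) * h⁻¹) :=
          hΦ R inf_le_left hR1 hle h (fun y hy => hh y (hRT hy)) _ hgxR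
        have e : h * (g * x * g⁻¹) * h⁻¹ = h * g * h⁻¹ * (h * x * h⁻¹) * (h * g * h⁻¹)⁻¹ := by group
        have s3 : r (h * x * h⁻¹) (h * (g * x * g⁻¹) * h⁻¹) := by
          rw [e]
          refine hΨ' Z' hZ'P hZ'1 hbig' _ (hmem g hg) _ ⟨hh x (hRT hx), hmem x hx.2⟩ ?_
          rw [← e]; exact hh _ (hRT hgxR)
        exact rtrans (rtrans s1 s3) (rsymm s2)
  intro a ha
  have haf : a ∈ (P : Subgroup G).focalSubgroup := by
    rw [← Subgroup.commutator_inf_eq_focalSubgroup P, hperf]
    exact ⟨trivial, ha⟩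
  refine (?_ : (P : Subgroup G).focalSubgroup ≤ K) haf
  rw [Subgroup.focalSubgroup_def, Subgroup.closure_le]
  rintro _ ⟨hgP, x, hx, u, rfl⟩
  by_cases hx1 : x = 1
  · rw [hx1, commutatorElement_one_left]; exact one_mem K
  have hux : u * x⁻¹ * u⁻¹ ∈ (P : Subgroup G) := TransferApps.conj_inv_mem hx hgP
  have h1 := (key (c + 1) 0 (by omega)).1 (zpowers x⁻¹) (zpowers_le.mpr (inv_mem hx))
    (by rwa [Ne, Subgroup.zpowers_eq_bot, inv_eq_one]) (Nat.zero_le _) u (by
      rintro y ⟨i, rfl⟩
      show u * x⁻¹ ^ i * u⁻¹ ∈ _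
      rw [← conj_zpow]
      exact zpow_mem hux i) x⁻¹ (mem_zpowers _)
  show ⁅x, u⁆ ∈ K
  have h2 : x⁻¹⁻¹ * (u * x⁻¹ * u⁻¹) ∈ K := h1
  rw [commutatorElement_def]
  simpa [mul_assoc] using h2

/-- All `p`-local subgroups have normal Sylow `p`-subgroups. -/
theorem local_sylow_normal (hCN : IsCNGroup G) (hodd : Odd (Nat.card G)) (hs : IsSimpleGroup G)
    (hperf : _root_.commutator G = ⊤) (hsol : ∀ H : Subgroup G, H ≠ ⊤ → Group.IsSolvable H) :
    ∀ (D : Subgroup G), IsPGroup p D → D ≠ ⊥ → ∀ S : Sylow p (normalizer (D : Set G)),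
      (S : Subgroup (normalizer (D : Set G))).Normal := by
  suffices key : ∀ k (D : Subgroup G), IsPGroup p D → D ≠ ⊥ → ∀ S : Sylow p (normalizer (D : Set G)),
      Nat.card G - Nat.card S = k → (S : Subgroup (normalizer (D : Set G))).Normal by
    exact fun D h1 h2 S => key _ D h1 h2 S rfl
  intro k
  induction k using Nat.strong_induction_on with
  | h k ih =>
    intro D hD hD1
    generalize hH : normalizer (D : Set G) = H
    intro S hk
    by_contra hn
    obtain ⟨hle, -⟩ := local_facts hCN hodd hs hperf hsol hD hD1 hH.symm S hn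
    set R := (S : Subgroup H).map H.subtype with hR
    have hRp : IsPGroup p R := S.2.map _
    have hRH : R ≤ H := Subgroup.map_subtype_le _
    obtain ⟨P, hRP⟩ := hRp.exists_le_sylow
    have hR1 : R ≠ ⊥ := fun e => by
      rw [hR, Subgroup.map_eq_bot_iff_of_injective _ H.subtype_injective] at e
      exact hn (by rw [e]; infer_instance)
    have hsub : R.subgroupOf H = (S : Subgroup H) :=
      Subgroup.comap_map_eq_self_of_injective H.subtype_injective _
    -- it suffices that a normal subgroup of a group containing `H` cuts `R` out of `H`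
    have hfin : ∀ W : Subgroup G, IsPGroup p W → R ≤ W → H ≤ normalizer (W : Set G) → False := by
      intro W hW hRW hHW
      apply hn
      haveI : (W.subgroupOf H).Normal :=
        ⟨fun w hw y => (Subgroup.mem_normalizer_iff.mp (hHW y.2) w).mp hw⟩
      rw [← S.3 (hW.comap_subtype (K := H)) (by rw [← hsub]; exact Subgroup.comap_mono hRW)]
      exact this
    by_cases hRPeq : R = (P : Subgroup G)
    · refine hfin P P.2 hRP (hle.trans ?_)
      rw [hRPeq]
      exact sylow_normal_zj hCN hodd hs hperf hsol P (hRPeq ▸ hR1)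
    have hlt := inf_normalizer_lt P hRP hRPeq
    set Z := ZJ.zj 0 R with hZ
    obtain ⟨T, hT⟩ := ((P.2.to_le (inf_le_left : (P : Subgroup G) ⊓ normalizer (Z : Set G) ≤ P)).comap_subtype
      (K := normalizer (Z : Set G))).exists_le_sylow
    set Tg := (T : Subgroup (normalizer (Z : Set G))).map (normalizer (Z : Set G)).subtype with hTg
    have hRT : (P : Subgroup G) ⊓ normalizer (R : Set G) ≤ Tg := fun y hy =>
      ⟨⟨y, ZJ.normalizer_le_normalizer_zj 0 R hy.2⟩, hT ⟨hy.1, ZJ.normalizer_le_normalizer_zj 0 R hy.2⟩, rfl⟩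
    have hcard : Nat.card S < Nat.card T := by
      rw [← Subgroup.card_map_of_injective H.subtype_injective (K := (S : Subgroup H)), ← hR,
        ← Subgroup.card_map_of_injective (normalizer (Z : Set G)).subtype_injective
          (K := (T : Subgroup (normalizer (Z : Set G)))), ← hTg]
      exact lt_of_lt_of_le (Set.Finite.card_lt_card (Set.toFinite _) hlt) (Subgroup.card_le_of_le hRT)
    have hTG : Nat.card T ≤ Nat.card G :=
      (Subgroup.card_le_card_group _).trans (Subgroup.card_le_card_group _)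
    have hTn := ih _ (by omega) Z (hRp.to_le (ZJ.zj_le 0 R)) (ZJ.zj_ne_bot (p := p) (Or.inl rfl) hRp hR1) T rfl
    refine hfin Tg (T.2.map _) (hlt.le.trans hRT) (hle.trans fun y hy => ?_)
    have h3 := Subgroup.le_normalizer_map (normalizer (Z : Set G)).subtype
      ⟨⟨y, hy⟩, (show (⟨y, hy⟩ : normalizer (Z : Set G)) ∈ normalizer ((T : Subgroup (normalizer (Z : Set G))) : Set _) by
        rw [Subgroup.normalizer_eq_top_iff.mpr hTn]; trivial), rfl⟩
    exact h3

/-- Distinct Sylow subgroups meet trivially. -/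
theorem sylow_ti (hCN : IsCNGroup G) (hodd : Odd (Nat.card G)) (hs : IsSimpleGroup G)
    (hperf : _root_.commutator G = ⊤) (hsol : ∀ H : Subgroup G, H ≠ ⊤ → Group.IsSolvable H)
    (P Q : Sylow p G) (h : (P : Subgroup G) ⊓ Q ≠ ⊥) : P = Q := by
  suffices key : ∀ D : Subgroup G, D ≠ ⊥ → ∀ P Q : Sylow p G, D = (P : Subgroup G) ⊓ Q → P = Q from
    key _ h P Q rfl
  intro D
  induction D using WellFoundedGT.induction with
  | ind D ih =>
    intro hD1 P Q hD
    have hDP : D ≤ P := hD ▸ inf_le_left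
    have hDQ : D ≤ Q := hD ▸ inf_le_right
    by_cases hP : D = (P : Subgroup G)
    · exact Sylow.ext (P.3 Q.2 (hP ▸ hDQ)).symm
    by_cases hQ : D = (Q : Subgroup G)
    · exact Sylow.ext (Q.3 P.2 (hQ ▸ hDP))
    set N := normalizer (D : Set G) with hN
    obtain ⟨T⟩ : Nonempty (Sylow p N) := inferInstance
    haveI := local_sylow_normal hCN hodd hs hperf hsol D (P.2.to_le hDP) hD1 T
    haveI := Sylow.unique_of_normal T this
    have hin : ∀ W : Subgroup G, IsPGroup p W → W.subgroupOf N ≤ (T : Subgroup N) := by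
      intro W hW
      obtain ⟨T', hT'⟩ := (hW.comap_subtype (K := N)).exists_le_sylow
      rwa [Subsingleton.elim T' T] at hT'
    obtain ⟨U, hU⟩ := (T.2.map N.subtype).exists_le_sylow
    have h1 : D < (P : Subgroup G) ⊓ U :=
      lt_of_lt_of_le (inf_normalizer_lt P hDP hP)
        (le_inf inf_le_left fun y hy => hU ⟨⟨y, hy.2⟩, hin P P.2 hy.1, rfl⟩)
    have h2 : D < (U : Subgroup G) ⊓ Q :=
      lt_of_lt_of_le (inf_normalizer_lt Q hDQ hQ)
        (le_inf (fun y hy => hU ⟨⟨y, hy.2⟩, hin Q Q.2 hy.1, rfl⟩) inf_le_left)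
    rw [ih _ h1 (ne_bot_of_le_ne_bot hD1 h1.le) P U rfl, ih _ h2 (ne_bot_of_le_ne_bot hD1 h2.le) U Q rfl]

/-- The nilpotent centraliser-closed subgroup attached to a Sylow subgroup. -/
theorem exists_kernel_subgroup (hCN : IsCNGroup G) (hodd : Odd (Nat.card G)) (hs : IsSimpleGroup G)
    (hperf : _root_.commutator G = ⊤) (hsol : ∀ H : Subgroup G, H ≠ ⊤ → Group.IsSolvable H)
    (P : Sylow p G) (hP1 : (P : Subgroup G) ≠ ⊥) :
    ∃ H L : Subgroup G, (P : Subgroup G) ≤ H ∧ Group.IsNilpotent H ∧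
      (∀ x ∈ H, x ≠ 1 → centralizer ({x} : Set G) ≤ H) ∧ H < L ∧
      (∀ x ∈ L, ∀ h ∈ H, x * h * x⁻¹ ∈ H) ∧
      (∀ g : G, g ∉ L → ∀ h ∈ H, g * h * g⁻¹ ∈ H → h = 1) := by
  have hp : p.Prime := Fact.out
  have hti : ∀ g : G, ∀ y ∈ (P : Subgroup G), y ≠ 1 → g * y * g⁻¹ ∈ (P : Subgroup G) →
      g ∈ normalizer ((P : Subgroup G) : Set G) := by
    intro g y hy hy1 hgy
    have h1 : g • P = P := sylow_ti hCN hodd hs hperf hsol (g • P) P fun e => hy1 (by
      have : g * y * g⁻¹ ∈ ((g • P : Sylow p G) : Subgroup G) ⊓ P := by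
        refine ⟨?_, hgy⟩
        show g * y * g⁻¹ ∈ ((g • P : Sylow p G) : Subgroup G)
        rw [Sylow.coe_subgroup_smul, CfsgLib.mem_conj_smul_iff]
        simpa [mul_assoc] using hy
      rw [e, Subgroup.mem_bot] at this
      exact conj_eq_one_iff.mp this)
    exact Sylow.smul_eq_iff_mem_normalizer.mp h1
  haveI : Nontrivial (P : Subgroup G) := (Subgroup.nontrivial_iff_ne_bot _).mpr hP1
  haveI := P.2.center_nontrivial
  obtain ⟨⟨⟨z, hzP⟩, hzZ⟩, hz0⟩ := exists_ne (1 : Subgroup.center (P : Subgroup G))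
  have hz : z ≠ 1 := fun e => hz0 (Subtype.ext (Subtype.ext e))
  have hzc : ∀ u ∈ (P : Subgroup G), u * z = z * u := fun u hu =>
    congrArg Subtype.val (Subgroup.mem_center_iff.mp hzZ ⟨u, hu⟩)
  set H := centralizer ({z} : Set G) with hH
  have hPH : (P : Subgroup G) ≤ H := fun u hu => mem_centralizer_singleton_iff.mpr (hzc u hu)
  haveI hHnil : Group.IsNilpotent H := hCN z hz
  -- `p`-elements normalising `P` lie in `P`
  have hpN : ∀ u ∈ normalizer ((P : Subgroup G) : Set G), (∃ k : ℕ, u ^ p ^ k = 1) → u ∈ (P : Subgroup G) :=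
    fun u hu ⟨k, hk⟩ => TransferApps.mem_sylow_of_mem_normalizer P hu ⟨k, hk⟩
  -- decomposition into `p`- and `p'`-parts
  have hsplit : ∀ u : G, ∃ a b : G, u = a * b ∧ a ∈ zpowers u ∧ b ∈ zpowers u ∧
      (∃ k : ℕ, a ^ p ^ k = 1) ∧ (orderOf b).Coprime p := by
    intro u
    obtain ⟨k, m, hm, hk⟩ := Nat.exists_eq_pow_mul_and_not_dvd (orderOf_pos u).ne' p hp.ne_one
    obtain ⟨s, t, hst⟩ : ∃ s t : ℤ, (1 : ℤ) = m * s + (p ^ k : ℕ) * t := by
      refine ⟨Nat.gcdA m (p ^ k), Nat.gcdB m (p ^ k), ?_⟩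
      rw [← Nat.gcd_eq_gcd_ab, show Nat.gcd m (p ^ k) = 1 from
        ((hp.coprime_iff_not_dvd.mpr hm).pow_left k).symm]
      rfl
    refine ⟨u ^ ((m : ℤ) * s), u ^ (((p ^ k : ℕ) : ℤ) * t), ?_, ⟨_, rfl⟩, ⟨_, rfl⟩, ⟨k, ?_⟩, ?_⟩
    · rw [← zpow_add, ← hst, zpow_one]
    · rw [← zpow_natCast, ← zpow_mul, show (m : ℤ) * s * ((p ^ k : ℕ) : ℤ) = (orderOf u : ℤ) * s by
        rw [hk]; push_cast; ring, zpow_mul, zpow_natCast, pow_orderOf_eq_one, one_zpow]
    · refine (hp.coprime_iff_not_dvd.mpr fun hd => hm (hd.trans (orderOf_dvd_of_pow_eq_one ?_))).symm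
      rw [← zpow_natCast, ← zpow_mul, show ((p ^ k : ℕ) : ℤ) * t * (m : ℤ) = (orderOf u : ℤ) * t by
        rw [hk]; push_cast; ring, zpow_mul, zpow_natCast, pow_orderOf_eq_one, one_zpow]
  have hcentP : ∀ y ∈ (P : Subgroup G), y ≠ 1 → centralizer ({y} : Set G) ≤ H := by
    intro y hy hy1 u hu
    obtain ⟨a, b, hab, ⟨i, hi⟩, ⟨j, hj⟩, hak, hb⟩ := hsplit u
    rw [mem_centralizer_singleton_iff] at hu
    have hac : a * y = y * a := by rw [← hi]; exact ((show Commute u y from hu).zpow_left i).eq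
    have hbc : b * y = y * b := by rw [← hj]; exact ((show Commute u y from hu).zpow_left j).eq
    rw [hab]
    refine H.mul_mem (hPH (hpN a (hti a y hy hy1 ?_) hak)) ?_
    · rw [hac, mul_inv_cancel_right]; exact hy
    · exact mem_centralizer_singleton_iff.mpr (commute_of_mem_centralizer hCN hy1 hbc (hzc y hy).symm
        (coprime_orderOf_of_pGroup P.2 hb hzP))
  have hclosed : ∀ x ∈ H, x ≠ 1 → centralizer ({x} : Set G) ≤ H := by
    intro x hx hx1
    obtain ⟨a, b, hab, ⟨i, hi⟩, ⟨j, hj⟩, ⟨k, hak⟩, hb⟩ := hsplit x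
    have haH : a ∈ H := hi ▸ zpow_mem hx i
    have hbH : b ∈ H := hj ▸ zpow_mem hx j
    by_cases ha1 : a = 1
    · subst ha1
      rw [one_mul] at hab
      subst hab
      -- `x` is a `p'`-element centralising `P`
      have hxP : ∀ u ∈ (P : Subgroup G), u * x = x * u := fun u hu =>
        (commute_of_mem_centralizer hCN hz (mem_centralizer_singleton_iff.mp hbH) (hzc u hu)
          (coprime_orderOf_of_pGroup P.2 hb hu)).symm
      intro u hu
      obtain ⟨c, d, hcd, ⟨i', hi'⟩, ⟨j', hj'⟩, ⟨k', hck⟩, hd⟩ := hsplit u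
      rw [mem_centralizer_singleton_iff] at hu
      have hcx : c * x = x * c := by rw [← hi']; exact ((show Commute u x from hu).zpow_left i').eq
      have hdx : d * x = x * d := by rw [← hj']; exact ((show Commute u x from hu).zpow_left j').eq
      rw [hcd]
      refine H.mul_mem ?_ (mem_centralizer_singleton_iff.mpr
        (commute_of_mem_centralizer hCN hx1 hdx (hxP z hzP) (coprime_orderOf_of_pGroup P.2 hd hzP)))
      have hX : Group.IsNilpotent (centralizer ({x} : Set G)) := hCN x hx1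
      have hPX : (P : Subgroup G) ≤ centralizer ({x} : Set G) := fun u hu =>
        mem_centralizer_singleton_iff.mpr (hxP u hu)
      have hn : ((P.subtype hPX : Sylow p _) : Subgroup (centralizer ({x} : Set G))).Normal :=
        (Group.isNilpotent_of_finite_tfae (G := centralizer ({x} : Set G))).out 0 3 rfl rfl |>.mp hX p
          inferInstance _
      exact hPH (hpN c ((Subgroup.normal_subgroupOf_iff_le_normalizer hPX).mp hn
        (mem_centralizer_singleton_iff.mpr hcx)) ⟨k', hck⟩)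
    · have hPH' : ((P.subtype hPH : Sylow p H) : Subgroup H).Normal :=
        (Group.isNilpotent_of_finite_tfae (G := H)).out 0 3 rfl rfl |>.mp hHnil p inferInstance _
      have haP : a ∈ (P : Subgroup G) :=
        hpN a ((Subgroup.normal_subgroupOf_iff_le_normalizer hPH).mp hPH' haH) ⟨k, hak⟩
      intro u hu
      refine hcentP a haP ha1 (mem_centralizer_singleton_iff.mpr ?_)
      rw [← hi]
      exact ((show Commute u x from mem_centralizer_singleton_iff.mp hu).zpow_right i).eq
  have hPn : H ≤ normalizer ((P : Subgroup G) : Set G) :=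
    (Subgroup.normal_subgroupOf_iff_le_normalizer hPH).mp
      ((Group.isNilpotent_of_finite_tfae (G := H)).out 0 3 rfl rfl |>.mp hHnil p inferInstance
        (P.subtype hPH))
  -- conjugates of `z` under the normalizer
  have hNH : ∀ x ∈ normalizer ((P : Subgroup G) : Set G), ∀ h ∈ H, x * h * x⁻¹ ∈ H := by
    intro x hx h hh
    have hy : x * z * x⁻¹ ∈ (P : Subgroup G) := (Subgroup.mem_normalizer_iff.mp hx z).mp hzP
    have hy1 : x * z * x⁻¹ ≠ 1 := fun e => hz (conj_eq_one_iff.mp e)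
    refine hcentP _ hy hy1 (mem_centralizer_singleton_iff.mpr ?_)
    calc x * h * x⁻¹ * (x * z * x⁻¹) = x * (h * z) * x⁻¹ := by group
      _ = x * (z * h) * x⁻¹ := by rw [mem_centralizer_singleton_iff.mp hh]
      _ = x * z * x⁻¹ * (x * h * x⁻¹) := by group
  refine ⟨H, normalizer ((P : Subgroup G) : Set G), hPH, hHnil, hclosed, lt_of_le_of_ne hPn ?_, hNH, ?_⟩
  · intro e
    -- otherwise the focal subgroup is too small
    have hf : (P : Subgroup G).focalSubgroup ≤ ⁅(P : Subgroup G), (P : Subgroup G)⁆ := by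
      rw [Subgroup.focalSubgroup_def, Subgroup.closure_le]
      rintro _ ⟨hgP, x, hx, u, rfl⟩
      by_cases hx1 : x = 1
      · rw [hx1, commutatorElement_one_left]; exact one_mem _
      have hux := TransferApps.conj_inv_mem hx hgP
      have hu : u ∈ H := e ▸ hti u x⁻¹ (inv_mem hx) (inv_ne_one.mpr hx1) hux
      obtain ⟨a, b, hab, ⟨i, hi⟩, ⟨j, hj⟩, hak, hb⟩ := hsplit u
      have haP : a ∈ (P : Subgroup G) := hpN a (hPn (hi ▸ zpow_mem hu i)) hak
      have hbc : b * x = x * b := commute_of_mem_centralizer hCN hz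
        (mem_centralizer_singleton_iff.mp (hj ▸ zpow_mem hu j)) (hzc x hx)
        (coprime_orderOf_of_pGroup P.2 hb hx)
      have e2 : ⁅x, u⁆ = ⁅x, a⁆ := by
        rw [hab, commutatorElement_def, commutatorElement_def]
        calc x * (a * b) * x⁻¹ * (a * b)⁻¹ = x * a * (b * x⁻¹ * b⁻¹) * a⁻¹ := by group
          _ = x * a * x⁻¹ * a⁻¹ := by
              rw [show b * x⁻¹ * b⁻¹ = (b * x * b⁻¹)⁻¹ by group, hbc, mul_inv_cancel_right]
      rw [e2]
      exact Subgroup.commutator_mem_commutator hx haP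
    rw [← Subgroup.commutator_inf_eq_focalSubgroup P, hperf, top_inf_eq] at hf
    haveI := P.2.isNilpotent
    exact hP1 (Transfer.eq_bot_of_le_commutator le_rfl hf)
  · intro g hg h hh hgh
    by_contra h1
    apply hg
    have h2 : g * z * g⁻¹ ∈ H := by
      refine hclosed _ hgh (fun e => h1 (conj_eq_one_iff.mp e)) (mem_centralizer_singleton_iff.mpr ?_)
      calc g * z * g⁻¹ * (g * h * g⁻¹) = g * (z * h) * g⁻¹ := by group
        _ = g * (h * z) * g⁻¹ := by rw [mem_centralizer_singleton_iff.mp hh]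
        _ = g * h * g⁻¹ * (g * z * g⁻¹) := by group
    obtain ⟨k, hk⟩ := P.2 ⟨z, hzP⟩
    refine hti g z hzP hz (hpN _ (hPn h2) ⟨k, ?_⟩)
    rw [conj_pow, show z ^ p ^ k = 1 by simpa using congrArg Subtype.val hk, mul_one, mul_inv_cancel]

end Minimal

theorem false_of_minimal [Finite G] (hCN : IsCNGroup G) (hodd : Odd (Nat.card G)) (hs : IsSimpleGroup G)
    (hperf : _root_.commutator G = ⊤) (hsol : ∀ H : Subgroup G, H ≠ ⊤ → Group.IsSolvable H) : False := by
  classical
  have : Fintype G := Fintype.ofFinite G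
  have hex : ∀ q : {q : ℕ // q.Prime ∧ q ∣ Nat.card G}, ∃ H L : Subgroup G, (q : ℕ) ∣ Nat.card H ∧
      Group.IsNilpotent H ∧ (∀ x ∈ H, x ≠ 1 → centralizer ({x} : Set G) ≤ H) ∧ H < L ∧
      (∀ x ∈ L, ∀ h ∈ H, x * h * x⁻¹ ∈ H) ∧
      (∀ g : G, g ∉ L → ∀ h ∈ H, g * h * g⁻¹ ∈ H → h = 1) := by
    rintro ⟨q, hq, hqd⟩
    have := Fact.mk hq
    obtain ⟨P⟩ : Nonempty (Sylow q G) := inferInstance
    obtain ⟨H, L, hPH, h⟩ := exists_kernel_subgroup hCN hodd hs hperf hsol P (P.ne_bot_of_dvd_card hqd)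
    exact ⟨H, L, (P.dvd_card_of_dvd_card hqd).trans (Subgroup.card_dvd_of_le hPH), h⟩
  choose H L hqH hnil hclosed hlt hn hti using hex
  have hdvd : ∀ (q : {q : ℕ // q.Prime ∧ q ∣ Nat.card G}) (r : ℕ), r ∣ Nat.card (H q) → r ∣ Nat.card G :=
    fun q r h => h.trans (Subgroup.card_subgroup_dvd_card _)
  -- two of the subgroups with a common prime are conjugate
  have hconj : ∀ (i j : {q : ℕ // q.Prime ∧ q ∣ Nat.card G}) (r : ℕ), r.Prime → r ∣ Nat.card (H i) →
      r ∣ Nat.card (H j) → ∃ c : G, MulAut.conj c • H i = H j := by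
    intro i j r hr hi hj
    have := Fact.mk hr
    have hsyl : ∀ k, r ∣ Nat.card (H k) → ∃ R : Sylow r G, (R : Subgroup G) ≤ H k := fun k hk =>
      exists_sylow_le_of_not_dvd_index (H k) fun hd => hr.not_dvd_one
        (Cfsg.Agent.S0588.result (H k) (hclosed k) ▸ Nat.dvd_gcd hk hd)
    obtain ⟨Ri, hRi⟩ := hsyl i hi
    obtain ⟨Rj, hRj⟩ := hsyl j hj
    obtain ⟨c, hc⟩ := MulAction.exists_smul_eq G Ri Rj
    refine ⟨c, ?_⟩
    have hR1 : (Rj : Subgroup G) ≠ ⊥ := Rj.ne_bot_of_dvd_card (hdvd j r hj)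
    obtain ⟨y, hy, hy1⟩ := (bot_or_exists_ne_one _).resolve_left hR1
    -- both are centraliser-closed and contain the centre of `Rj`
    haveI : Nontrivial (Rj : Subgroup G) := (Subgroup.nontrivial_iff_ne_bot _).mpr hR1
    haveI := Rj.2.center_nontrivial
    obtain ⟨⟨⟨z, hzP⟩, hzZ⟩, hz0⟩ := exists_ne (1 : Subgroup.center (Rj : Subgroup G))
    have hz : z ≠ 1 := fun e => hz0 (Subtype.ext (Subtype.ext e))
    have heq : ∀ K : Subgroup G, Group.IsNilpotent K → (∀ x ∈ K, x ≠ 1 → centralizer ({x} : Set G) ≤ K) →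
        (Rj : Subgroup G) ≤ K → K = centralizer ({z} : Set G) := by
      intro K hK hKc hRK
      refine le_antisymm (fun u hu => ?_) (hKc z (hRK hzP) hz)
      have hn' : ((Rj.subtype hRK : Sylow r K) : Subgroup K).Normal :=
        (Group.isNilpotent_of_finite_tfae (G := K)).out 0 3 rfl rfl |>.mp hK r inferInstance _
      obtain ⟨k, m, hm, hk⟩ := Nat.exists_eq_pow_mul_and_not_dvd (orderOf_pos u).ne' r hr.ne_one
      rw [mem_centralizer_singleton_iff]
      -- `u` = (element of `Rj`) * (element of order prime to `r`)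
      obtain ⟨s, t, hst⟩ : ∃ s t : ℤ, (1 : ℤ) = m * s + (r ^ k : ℕ) * t := by
        refine ⟨Nat.gcdA m (r ^ k), Nat.gcdB m (r ^ k), ?_⟩
        rw [← Nat.gcd_eq_gcd_ab, show Nat.gcd m (r ^ k) = 1 from
          ((hr.coprime_iff_not_dvd.mpr hm).pow_left k).symm]
        rfl
      have ha : u ^ ((m : ℤ) * s) ∈ (Rj : Subgroup G) := by
        refine CfsgLib.TransferApps.mem_sylow_of_mem_normalizer Rj
          ((Subgroup.normal_subgroupOf_iff_le_normalizer hRK).mp hn' (zpow_mem hu _)) ⟨k, ?_⟩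
        rw [← zpow_natCast, ← zpow_mul, show (m : ℤ) * s * ((r ^ k : ℕ) : ℤ) = (orderOf u : ℤ) * s by
          rw [hk]; push_cast; ring, zpow_mul, zpow_natCast, pow_orderOf_eq_one, one_zpow]
      have hb : Commute (u ^ (((r ^ k : ℕ) : ℤ) * t)) z := by
        haveI := hK
        have hcop : (orderOf (u ^ (((r ^ k : ℕ) : ℤ) * t))).Coprime r := by
          refine (hr.coprime_iff_not_dvd.mpr fun hd => hm (hd.trans (orderOf_dvd_of_pow_eq_one ?_))).symm
          rw [← zpow_natCast, ← zpow_mul, show ((r ^ k : ℕ) : ℤ) * t * (m : ℤ) = (orderOf u : ℤ) * t by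
            rw [hk]; push_cast; ring, zpow_mul, zpow_natCast, pow_orderOf_eq_one, one_zpow]
        have h := Frob.commute_of_nilpotent_coprime (G := K) (a := ⟨_, zpow_mem hu _⟩) (b := ⟨z, hRK hzP⟩)
          (by rw [Subgroup.orderOf_mk, Subgroup.orderOf_mk]; exact coprime_orderOf_of_pGroup Rj.2 hcop hzP)
        exact congrArg Subtype.val h.eq
      have ha' : Commute (u ^ ((m : ℤ) * s)) z :=
        congrArg Subtype.val (Subgroup.mem_center_iff.mp hzZ ⟨_, ha⟩)
      have := ha'.mul_left hb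
      rwa [← zpow_add, ← hst, zpow_one] at this
    rw [heq (H j) (hnil j) (hclosed j) hRj]
    refine heq _ ?_ ?_ ?_
    · haveI := hnil i
      rw [Subgroup.pointwise_smul_def]
      exact Group.nilpotent_of_mulEquiv ((H i).equivMapOfInjective _ (MulEquiv.injective _))
    · intro x hx hx1 u hu
      rw [CfsgLib.mem_conj_smul_iff] at hx ⊢
      rw [mem_centralizer_singleton_iff] at hu
      refine hclosed i _ hx (fun e => hx1 ?_) (mem_centralizer_singleton_iff.mpr ?_)
      · calc x = c * (c⁻¹ * x * c) * c⁻¹ := by group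
          _ = 1 := by rw [e]; group
      · calc c⁻¹ * u * c * (c⁻¹ * x * c) = c⁻¹ * (u * x) * c := by group
          _ = c⁻¹ * (x * u) * c := by rw [hu]
          _ = c⁻¹ * x * c * (c⁻¹ * u * c) := by group
    · rw [← hc, Sylow.coe_subgroup_smul]
      exact Subgroup.pointwise_smul_le_pointwise_smul_iff.mpr hRi
  let ι := {q : {q : ℕ // q.Prime ∧ q ∣ Nat.card G} // (q : ℕ) = (Nat.card (H q)).minFac}
  haveI : Finite {q : ℕ // q.Prime ∧ q ∣ Nat.card G} :=
    ((Set.finite_le_nat (Nat.card G)).subset (fun q hq => Nat.le_of_dvd Nat.card_pos hq.2)).to_subtype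
  haveI : Fintype ι := Fintype.ofFinite ι
  -- every prime leads to an index
  have hmin : ∀ q, ∃ i : ι, ∃ r, r.Prime ∧ r ∣ Nat.card (H q) ∧ r ∣ Nat.card (H i.1) ∧
      ∃ c : G, MulAut.conj c • H q = H i.1 := by
    intro q
    set r := (Nat.card (H q)).minFac with hr
    have hrp : r.Prime := Nat.minFac_prime fun e => q.2.1.not_dvd_one (e ▸ hqH q)
    have hrd : r ∣ Nat.card (H q) := Nat.minFac_dvd _
    let i : {q : ℕ // q.Prime ∧ q ∣ Nat.card G} := ⟨r, hrp, hdvd q r hrd⟩
    obtain ⟨c, hc⟩ := hconj q i r hrp hrd (hqH i)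
    refine ⟨⟨i, ?_⟩, r, hrp, hrd, hqH i, c, hc⟩
    show r = _
    rw [← hc, CfsgLib.card_conj_smul]
  haveI : Nonempty ι := by
    have : Nontrivial G := hs.toNontrivial
    obtain ⟨q, hq, hqd⟩ := Nat.exists_prime_and_dvd (n := Nat.card G)
      (by have := Finite.one_lt_card (α := G); omega)
    obtain ⟨i, -⟩ := hmin ⟨q, hq, hqd⟩
    exact ⟨i⟩
  refine CharTheory.Partition.no_partition hodd (fun i : ι => L i.1) (fun i : ι => H i.1)
    (fun i => hlt i.1) (fun i e => i.1.2.1.not_dvd_one (by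
      have := hqH i.1; rwa [show H i.1 = ⊥ from e, Subgroup.card_bot] at this))
    (fun i => hn i.1) (fun i h hh h1 => inf_le_right.trans (hclosed i.1 h hh h1)) (fun i => hti i.1) ?_ ?_
  · intro i j hij
    by_contra hno
    obtain ⟨r, hr, hri, hrj⟩ := Nat.Prime.not_coprime_iff_dvd.mp hno
    obtain ⟨c, hc⟩ := hconj i.1 j.1 r hr hri hrj
    apply hij
    apply Subtype.ext
    apply Subtype.ext
    rw [i.2, j.2, ← hc, CfsgLib.card_conj_smul]
  · intro g hg
    obtain ⟨q, hq, hqd⟩ := Nat.exists_prime_and_dvd (mt orderOf_eq_one_iff.mp hg)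
    let q' : {q : ℕ // q.Prime ∧ q ∣ Nat.card G} := ⟨q, hq, hqd.trans (orderOf_dvd_natCard g)⟩
    obtain ⟨i, r, -, -, -, c, hc⟩ := hmin q'
    have := Fact.mk hq
    set y := g ^ (orderOf g / q) with hy
    have hyo : orderOf y = q := orderOf_pow_orderOf_div (orderOf_pos g).ne' hqd
    obtain ⟨R, hR⟩ : ∃ R : Sylow q G, (R : Subgroup G) ≤ H q' :=
      exists_sylow_le_of_not_dvd_index _ fun hd => hq.not_dvd_one
        (Cfsg.Agent.S0588.result (H q') (hclosed q') ▸ Nat.dvd_gcd (hqH q') hd)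
    obtain ⟨a, ha⟩ := Cfsg.exists_conj_mem_sylow R
      (IsPGroup.of_card (p := q) (n := 1) (G := zpowers y) (by rw [Nat.card_zpowers, hyo, pow_one]))
    have hgH : a * g * a⁻¹ ∈ H q' := by
      refine hclosed q' _ (hR (ha y (mem_zpowers y))) (fun e => hq.ne_one ?_) (mem_centralizer_singleton_iff.mpr ?_)
      · rw [← hyo, conj_eq_one_iff.mp e, orderOf_one]
      · calc a * g * a⁻¹ * (a * y * a⁻¹) = a * (g * y) * a⁻¹ := by group
          _ = a * (y * g) * a⁻¹ := by rw [hy, (Commute.pow_right (Commute.refl g) _).eq]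
          _ = a * y * a⁻¹ * (a * g * a⁻¹) := by group
    refine ⟨i, c * a, ?_⟩
    show _ ∈ H i.1
    rw [← hc, CfsgLib.mem_conj_smul_iff]
    simpa [mul_assoc] using hgH

theorem isSolvable_of_odd_cn : ∀ (n : ℕ) {G : Type u} [Group G] [Finite G], Odd (Nat.card G) →
    IsCNGroup G → Nat.card G = n → Group.IsSolvable G := by
  intro n
  induction n using Nat.strong_induction_on with
  | h n ih =>
    intro G _ _ hodd hCN hn
    by_cases hsub : Subsingleton G
    · infer_instance
    rw [not_subsingleton_iff_nontrivial] at hsub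
    have hsol : ∀ H : Subgroup G, H ≠ ⊤ → Group.IsSolvable H := fun H hH =>
      ih _ (hn ▸ card_lt_of_ne_top hH) (hodd.of_dvd_nat (Subgroup.card_subgroup_dvd_card H))
        (isCN_subgroup hCN H) rfl
    by_cases hcomm : _root_.commutator G = ⊤
    swap
    · haveI := hsol _ hcomm
      refine Group.isSolvable_of_ker_le_range (_root_.commutator G).subtype (QuotientGroup.mk' (_root_.commutator G)) ?_
        (hG' := inferInstance) (hG'' := ?_)
      · rw [QuotientGroup.ker_mk', Subgroup.range_subtype]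
      · exact Group.isSolvable_of_comm fun a b => (inferInstance : Std.Commutative (α := Abelianization G) (· * ·)).comm a b
    by_cases hs : IsSimpleGroup G
    · exact (false_of_minimal hCN hodd hs hcomm hsol).elim
    obtain ⟨N, hNn, hN0, hN1⟩ : ∃ N : Subgroup G, N.Normal ∧ N ≠ ⊥ ∧ N ≠ ⊤ := by
      by_contra hno
      push Not at hno
      exact hs ⟨fun N hN => or_iff_not_imp_left.mpr (hno N hN)⟩
    haveI := hsol N hN1
    have hq := ih (Nat.card (G ⧸ N)) (hn ▸ card_quotient_lt_of_ne_bot hN0)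
      (hodd.of_dvd_nat (Subgroup.card_quotient_dvd_card N)) (isCN_quotient _ hCN N inferInstance rfl) rfl
    refine Group.isSolvable_of_ker_le_range N.subtype (QuotientGroup.mk' N) ?_
      (hG' := inferInstance) (hG'' := hq)
    rw [QuotientGroup.ker_mk', Subgroup.range_subtype]

end CfsgLib.CN
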