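/-
Groups with a core-free maximal subgroup and an abelian minimal normal subgroup.
-/
import Mathlib
import Cfsg.Agent.S0549
import Cfsg.Agent.Lib.Elementary

set_option autoImplicit false

namespace CfsgLib.CoreFree

universe u

variable {G : Type u} [Group G] [Finite G] {U A : Subgroup G}

theorem sup_eq_top (hU : IsCoatom U) (hcore : U.normalCore = ⊥) [A.Normal] (hA : A ≠ ⊥) : U ⊔ A = ⊤ :=
  hU.2 _ (lt_of_le_of_ne le_sup_left fun e => hA (le_bot_iff.mp
    (hcore ▸ Subgroup.normal_le_normalCore.mpr (e ▸ le_sup_right))))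

theorem complement_of_centralized (hU : IsCoatom U) (hcore : U.normalCore = ⊥) [A.Normal] (hA : A ≠ ⊥)
    (hinf : A ⊓ U = ⊥) : Subgroup.IsComplement' A U :=
  Subgroup.isComplement'_of_disjoint_and_mul_eq_univ (disjoint_iff.mpr hinf) (by
    rw [← Subgroup.normal_mul, sup_comm, sup_eq_top hU hcore hA]; rfl)

theorem abelian_minimal (hU : IsCoatom U) (hcore : U.normalCore = ⊥) [A.Normal] (hA : A ≠ ⊥)
    (hab : IsMulCommutative A) :
    Subgroup.centralizer (A : Set G) = A ∧ Subgroup.IsComplement' A U ∧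
      (∀ K : Subgroup G, K.Normal → K ≤ A → K = ⊥ ∨ K = A) ∧ U ⊓ Subgroup.centralizer (A : Set G) = ⊥ := by
  obtain ⟨hinf, hmin⟩ := Cfsg.Agent.S0549.result U hU hcore A hA
  have hle : A ≤ Subgroup.centralizer (A : Set G) := fun a ha => Subgroup.mem_centralizer_iff.mpr fun b hb =>
    congrArg Subtype.val (hab.is_comm.comm (⟨b, hb⟩ : A) ⟨a, ha⟩)
  rcases hmin with h0 | ⟨-, hmin⟩
  · exact absurd (le_bot_iff.mp (h0 ▸ hle)) hA
  have heq : A = Subgroup.centralizer (A : Set G) := (hmin A inferInstance hle).resolve_left hA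
  refine ⟨heq.symm, complement_of_centralized hU hcore hA ?_, fun K hK hKA => ?_, by rwa [inf_comm]⟩
  · rwa [← heq] at hinf
  · rw [heq] at hKA ⊢; exact hmin K hK hKA

theorem exists_abelian_minimal [Group.IsSolvable G] {N : Subgroup G} [N.Normal] (hN : N ≠ ⊥) :
    ∃ A : Subgroup G, A.Normal ∧ A ≤ N ∧ A ≠ ⊥ ∧ IsMulCommutative A ∧ (∀ K : Subgroup G, K.Normal → K ≤ A → K = ⊥ ∨ K = A) ∧
      ∃ p : ℕ, p.Prime ∧ IsPGroup p A := by
  obtain ⟨A, hAn, hAN, hA0, hmin⟩ := CfsgLib.exists_minimal_normal hN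
  obtain ⟨hab, p, hp, hpow⟩ := CfsgLib.minimal_normal_elementary hA0 inferInstance hmin
  exact ⟨A, hAn, hAN, hA0, hab, hmin, p, hp, fun x => ⟨1, by rw [pow_one]; exact Subtype.ext (hpow x x.2)⟩⟩

theorem unique_minimal (hU : IsCoatom U) (hcore : U.normalCore = ⊥) [A.Normal] (hA : A ≠ ⊥)
    (hab : IsMulCommutative A) {B : Subgroup G} [B.Normal] (hB : B ≠ ⊥) : A ≤ B := by
  obtain ⟨hc, -, hmin, -⟩ := abelian_minimal hU hcore hA hab
  rcases hmin (A ⊓ B) inferInstance inf_le_left with h | h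
  · exfalso
    have hBA : B ≤ A := fun b hb => hc ▸ Subgroup.mem_centralizer_iff.mpr fun a ha =>
      Subgroup.commute_of_normal_of_disjoint A B inferInstance inferInstance (disjoint_iff.mpr h) a b ha hb
    exact hB (le_bot_iff.mp (h ▸ le_inf hBA le_rfl))
  · exact inf_eq_left.mp h

end CfsgLib.CoreFree
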