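/-
Products of two nilpotent subgroups of coprime orders are solvable (Wielandt).

In a minimal counterexample `G = AB`, a proper subgroup cannot contain non-trivial normal
subgroups of `A` and of `B`; hence central elements of `A` have centraliser `A`, the centralisers
of subgroups of `A` lie in `N(A)` (Frobenius' theorem), so `A` and `B` are both trivial
intersection subgroups, which is impossible as their orders differ.
-/
import Mathlib
import Cfsg.Agent.Lib.Basic
import Cfsg.Agent.Lib.Elementary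
import Cfsg.Agent.Lib.PSolvable
import Cfsg.Agent.Lib.NilpotentCommute
import Cfsg.Agent.Lib.HallSolvable
import Cfsg.Agent.Lib.Frobenius.Kernel
import Cfsg.Agent.Lib.CharTheory.Burnside

set_option autoImplicit false

namespace CfsgLib.ProductNilpotent

open Cfsg
open scoped Pointwise

universe u

/-- A normal subgroup of order prime to the index of `H` lies in `H`. -/
theorem normal_le_hall {L : Type*} [Group L] [Finite L] (H N : Subgroup L) [N.Normal]
    (hc : (Nat.card N).Coprime H.index) : N ≤ H := by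
  have h1 := card_sup_dvd_mul H N
  have h2 : Nat.card H * (H.subgroupOf (H ⊔ N)).index = Nat.card (H ⊔ N : Subgroup L) := by
    rw [← Nat.card_congr (Subgroup.subgroupOfEquivOfLe (le_sup_left : H ≤ H ⊔ N)).toEquiv,
      Subgroup.card_mul_index]
  have h3 : (H.subgroupOf (H ⊔ N)).index ∣ Nat.card N :=
    Nat.dvd_of_mul_dvd_mul_left Nat.card_pos (h2 ▸ h1)
  have h4 : (H.subgroupOf (H ⊔ N)).index ∣ H.index := Subgroup.relIndex_dvd_index_of_le le_sup_left
  have h5 := Nat.eq_one_of_dvd_coprimes hc h3 h4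
  rw [Subgroup.index_eq_one, Subgroup.subgroupOf_eq_top] at h5
  exact le_sup_right.trans h5

variable {G : Type u} [Group G] [Finite G]

/-- A minimal counterexample. -/
structure MinCex (A B : Subgroup G) : Prop where
  simple : IsSimpleGroup G
  not_solvable : ¬ Group.IsSolvable G
  nilA : Group.IsNilpotent A
  nilB : Group.IsNilpotent B
  cop : (Nat.card A).Coprime (Nat.card B)
  prod : ∀ g : G, ∃ a ∈ A, ∃ b ∈ B, g = a * b
  proper_solvable : ∀ H : Subgroup G, H ≠ ⊤ →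
    (∀ h ∈ H, ∃ a ∈ A ⊓ H, ∃ b ∈ B ⊓ H, h = a * b) → Group.IsSolvable H
  otherA : ∀ r : ℕ, ∃ p : ℕ, p.Prime ∧ p ∣ Nat.card A ∧ p ≠ r
  otherB : ∀ r : ℕ, ∃ p : ℕ, p.Prime ∧ p ∣ Nat.card B ∧ p ≠ r

variable {A B : Subgroup G}

theorem conj_mem_inv {H : Subgroup G} {a : G} (h : ∀ x ∈ H, a * x * a⁻¹ ∈ H) : ∀ x ∈ H, a⁻¹ * x * a ∈ H := by
  intro x hx
  have hk : ∀ k : ℕ, a ^ k * x * (a ^ k)⁻¹ ∈ H := by
    intro k
    induction k with
    | zero => simpa using hx
    | succ k ih =>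
      have := h _ ih
      rw [pow_succ', mul_inv_rev]
      simpa [mul_assoc] using this
  have e : a⁻¹ = a ^ (orderOf a - 1) := by
    refine inv_eq_of_mul_eq_one_right ?_
    rw [← pow_succ', Nat.sub_add_cancel (orderOf_pos a), pow_orderOf_eq_one]
  have := hk (orderOf a - 1)
  rwa [← e, inv_inv] at this

/-- In a nilpotent subgroup elements of coprime order commute. -/
theorem commute_of_coprime {C : Subgroup G} (hC : Group.IsNilpotent C) {x y : G} (hx : x ∈ C) (hy : y ∈ C)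
    (h : (orderOf x).Coprime (orderOf y)) : x * y = y * x := by
  haveI := hC
  have hc := (CfsgLib.commute_of_nilpotent (H := C) ⟨x, hx⟩ ⟨y, hy⟩
    (by rwa [Subgroup.orderOf_mk, Subgroup.orderOf_mk])).eq
  exact congrArg Subtype.val hc

/-- A central element of prime order in a nilpotent subgroup. -/
theorem exists_central {C : Subgroup G} (hC : Group.IsNilpotent C) {p : ℕ} (hp : p.Prime) (hd : p ∣ Nat.card C) :
    ∃ z ∈ C, (∀ a ∈ C, a * z = z * a) ∧ orderOf z = p := by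
  haveI := hC
  haveI := Fact.mk hp
  obtain ⟨P⟩ : Nonempty (Sylow p C) := inferInstance
  haveI : (P : Subgroup C).Normal := inferInstance
  have hP : (P : Subgroup C) ≠ ⊥ := P.ne_bot_of_dvd_card hd
  have hne := inf_center_ne_bot_of_nilpotent (G := C) (N := (P : Subgroup C)) hP
  obtain ⟨⟨x, hx⟩, hx1'⟩ := Subgroup.ne_bot_iff_exists_ne_one.1 hne
  have hx1 : x ≠ 1 := fun e => hx1' (Subtype.ext e)
  obtain ⟨k, hk⟩ := P.2 ⟨x, (Subgroup.mem_inf.1 hx).1⟩
  have hord : orderOf x ∣ p ^ k := orderOf_dvd_of_pow_eq_one (congrArg Subtype.val hk)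
  obtain ⟨i, -, hi⟩ := (Nat.dvd_prime_pow hp).1 hord
  have hpd : p ∣ orderOf x := by
    rw [hi]
    refine dvd_pow_self p fun h0 => hx1 (orderOf_eq_one_iff.1 (by rw [hi, h0, pow_zero]))
  refine ⟨((x ^ (orderOf x / p) : C) : G), SetLike.coe_mem _, fun a ha => ?_, ?_⟩
  · exact congrArg Subtype.val (Subgroup.mem_center_iff.1 (pow_mem (Subgroup.mem_inf.1 hx).2 _) ⟨a, ha⟩)
  · rw [Subgroup.orderOf_coe, orderOf_pow_orderOf_div (orderOf_pos x).ne' hpd]

/-- Elements of a finite group are products of an `r`-element and an `r'`-element in its cyclic group. -/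
theorem split_element {r : ℕ} (hr : r.Prime) (a : G) :
    ∃ x y : G, a = x * y ∧ (∃ k, orderOf x ∣ r ^ k) ∧ ¬ r ∣ orderOf y ∧ x ∈ Subgroup.zpowers a ∧
      y ∈ Subgroup.zpowers a := by
  obtain ⟨k, m, hm, hn⟩ := Nat.exists_eq_pow_mul_and_not_dvd (orderOf_pos a).ne' r hr.ne_one
  have hcop : (r ^ k).Coprime m := Nat.Coprime.pow_left k ((Nat.Prime.coprime_iff_not_dvd hr).2 hm)
  have hb := Nat.gcd_eq_gcd_ab (r ^ k) m
  rw [hcop.gcd_eq_one] at hb
  refine ⟨a ^ ((m : ℤ) * Nat.gcdB (r ^ k) m), a ^ (((r ^ k : ℕ) : ℤ) * Nat.gcdA (r ^ k) m), ?_, ⟨k, ?_⟩, ?_,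
    Subgroup.zpow_mem _ (Subgroup.mem_zpowers a) _, Subgroup.zpow_mem _ (Subgroup.mem_zpowers a) _⟩
  · rw [← zpow_add, add_comm, ← hb, Nat.cast_one, zpow_one]
  · refine orderOf_dvd_of_pow_eq_one ?_
    rw [← zpow_natCast, ← zpow_mul]
    refine orderOf_dvd_iff_zpow_eq_one.1 ⟨Nat.gcdB (r ^ k) m, ?_⟩
    rw [hn]; push_cast; ring
  · intro hd
    refine hm (hd.trans (orderOf_dvd_of_pow_eq_one ?_))
    rw [← zpow_natCast, ← zpow_mul]
    refine orderOf_dvd_iff_zpow_eq_one.1 ⟨Nat.gcdA (r ^ k) m, ?_⟩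
    rw [hn]; push_cast; ring

namespace MinCex

variable (C : MinCex A B)
include C

theorem symm : MinCex B A where
  simple := C.simple
  not_solvable := C.not_solvable
  nilA := C.nilB
  nilB := C.nilA
  cop := C.cop.symm
  prod g := by
    obtain ⟨a, ha, b, hb, e⟩ := C.prod g⁻¹
    exact ⟨b⁻¹, inv_mem hb, a⁻¹, inv_mem ha, by rw [← mul_inv_rev, ← e, inv_inv]⟩
  proper_solvable H hH hf := C.proper_solvable H hH fun h hh => by
    obtain ⟨b, hb, a, ha, e⟩ := hf h⁻¹ (inv_mem hh)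
    exact ⟨a⁻¹, inv_mem ha, b⁻¹, inv_mem hb, by rw [← mul_inv_rev, ← e, inv_inv]⟩
  otherA := C.otherB
  otherB := C.otherA

theorem inf_eq_bot : A ⊓ B = ⊥ := Subgroup.inf_eq_bot_of_coprime C.cop

theorem eq_one {x : G} (ha : x ∈ A) (hb : x ∈ B) : x = 1 :=
  Subgroup.mem_bot.1 (C.inf_eq_bot ▸ Subgroup.mem_inf.2 ⟨ha, hb⟩)

theorem uniq {a a' b b' : G} (ha : a ∈ A) (ha' : a' ∈ A) (hb : b ∈ B) (hb' : b' ∈ B) (h : a * b = a' * b') :
    a = a' ∧ b = b' := by
  have h1 : a'⁻¹ * a = b' * b⁻¹ := by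
    rw [eq_mul_inv_iff_mul_eq, mul_assoc, h, inv_mul_cancel_left]
  have h2 := C.eq_one (mul_mem (inv_mem ha') ha) (h1 ▸ mul_mem hb' (inv_mem hb))
  have h3 : a = a' := (inv_mul_eq_one.1 h2).symm
  exact ⟨h3, mul_left_cancel (h3 ▸ h)⟩

theorem card_G : Nat.card G = Nat.card A * Nat.card B := by
  rw [← Nat.card_prod]
  symm
  refine Nat.card_eq_of_bijective (fun x : A × B => (x.1 : G) * x.2) ⟨fun x y h => ?_, fun g => ?_⟩
  · obtain ⟨h1, h2⟩ := C.uniq x.1.2 y.1.2 x.2.2 y.2.2 h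
    exact Prod.ext (Subtype.ext h1) (Subtype.ext h2)
  · obtain ⟨a, ha, b, hb, e⟩ := C.prod g
    exact ⟨(⟨a, ha⟩, ⟨b, hb⟩), e.symm⟩

theorem normal_triv {N : Subgroup G} (hN : N.Normal) : N = ⊥ ∨ N = ⊤ :=
  haveI := C.simple
  hN.eq_bot_or_eq_top

theorem center_triv {x : G} (hx : ∀ g, g * x = x * g) : x = 1 := by
  rcases C.normal_triv (N := Subgroup.center G) inferInstance with h | h
  · exact Subgroup.mem_bot.1 (h ▸ Subgroup.mem_center_iff.2 hx)
  · exfalso
    refine C.not_solvable (isSolvable_of_comm fun a b => ?_)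
    exact (Subgroup.mem_center_iff.1 (h.ge (Subgroup.mem_top a)) b).symm

theorem A_ne_bot : ∃ z ∈ A, z ≠ 1 ∧ ∀ a ∈ A, a * z = z * a := by
  obtain ⟨p, hp, hd, -⟩ := C.otherA 0
  obtain ⟨z, hz, hzc, hzo⟩ := exists_central C.nilA hp hd
  exact ⟨z, hz, fun e => hp.ne_one (by rw [← hzo, e, orderOf_one]), hzc⟩

/-- A subgroup containing `A` meets `B` in no non-trivial normal subgroup of `B`. -/
theorem eq_top_of_A_le {H : Subgroup G} (hA : A ≤ H) {B0 : Subgroup G} (hB0 : B0 ≤ H) (hne : B0 ≠ ⊥)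
    (hn : ∀ b ∈ B, ∀ x ∈ B0, b * x * b⁻¹ ∈ B0) : H = ⊤ := by
  rcases C.normal_triv (N := Subgroup.normalClosure (B0 : Set G)) inferInstance with h | h
  · exact absurd (le_bot_iff.1 (h ▸ Subgroup.le_normalClosure)) hne
  · rw [eq_top_iff, ← h]
    refine Subgroup.closure_le _ |>.2 fun y hy => ?_
    obtain ⟨x, hx, g, rfl⟩ := Group.mem_conjugatesOfSet_iff.1 hy |> fun ⟨x, hx, hc⟩ =>
      (⟨x, hx, isConj_iff.1 hc⟩ : ∃ x ∈ (B0 : Set G), ∃ g : G, g * x * g⁻¹ = y)
    obtain ⟨a, ha, b, hb, rfl⟩ := C.prod g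
    have := mul_mem (mul_mem (hA ha) (hB0 (hn b hb x hx))) (inv_mem (hA ha))
    simpa [mul_assoc] using this

theorem normalizer_ne_top {X : Subgroup G} (h0 : X ≠ ⊥) (h1 : X ≠ ⊤) :
    Subgroup.normalizer (X : Set G) ≠ ⊤ := fun h => by
  rcases C.normal_triv (Subgroup.normalizer_eq_top_iff.1 h) with e | e
  exacts [h0 e, h1 e]

theorem pgroup_ne_top {p : ℕ} [Fact p.Prime] {X : Subgroup G} (h : IsPGroup p X) : X ≠ ⊤ := fun e => by
  subst e
  haveI : Group.IsNilpotent G := (h.of_equiv Subgroup.topEquiv).isNilpotent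
  exact C.not_solvable inferInstance

/-- The product of `A ⊓ L` and `B ⊓ L` in a factorised subgroup. -/
theorem card_factorised {L : Subgroup G} (hf : ∀ h ∈ L, ∃ a ∈ A ⊓ L, ∃ b ∈ B ⊓ L, h = a * b) :
    Nat.card L = Nat.card (A ⊓ L : Subgroup G) * Nat.card (B ⊓ L : Subgroup G) := by
  rw [← Nat.card_prod]
  symm
  refine Nat.card_eq_of_bijective (fun x : (A ⊓ L : Subgroup G) × (B ⊓ L : Subgroup G) =>
    (⟨(x.1 : G) * x.2, mul_mem (Subgroup.mem_inf.1 x.1.2).2 (Subgroup.mem_inf.1 x.2.2).2⟩ : L)) ⟨fun x y h => ?_, fun g => ?_⟩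
  · obtain ⟨h1, h2⟩ := C.uniq (Subgroup.mem_inf.1 x.1.2).1 (Subgroup.mem_inf.1 y.1.2).1
      (Subgroup.mem_inf.1 x.2.2).1 (Subgroup.mem_inf.1 y.2.2).1 (congrArg Subtype.val h)
    exact Prod.ext (Subtype.ext h1) (Subtype.ext h2)
  · obtain ⟨a, ha, b, hb, e⟩ := hf g g.2
    exact ⟨(⟨a, ha⟩, ⟨b, hb⟩), Subtype.ext e.symm⟩

/-- The normal `r`-subgroups of a factorised subgroup lie in the factor of order divisible by `r`. -/
theorem pCore_le {L : Subgroup G} (hf : ∀ h ∈ L, ∃ a ∈ A ⊓ L, ∃ b ∈ B ⊓ L, h = a * b) {r : ℕ} (hr : r.Prime)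
    (hB : ¬ r ∣ Nat.card B) (x : L) (hx : x ∈ pCore r L) : (x : G) ∈ A := by
  haveI := Fact.mk hr
  have hidx : (A.subgroupOf L).index = Nat.card (B ⊓ L : Subgroup G) := by
    have h1 := (A.subgroupOf L).card_mul_index
    have h2 : Nat.card (A.subgroupOf L) = Nat.card (A ⊓ L : Subgroup G) := by
      rw [← Subgroup.inf_subgroupOf_right]
      exact Nat.card_congr (Subgroup.subgroupOfEquivOfLe inf_le_right).toEquiv
    rw [C.card_factorised hf, h2] at h1
    exact Nat.eq_of_mul_eq_mul_left Nat.card_pos h1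
  refine normal_le_hall (A.subgroupOf L) (pCore r L) ?_ hx
  obtain ⟨k, hk⟩ := (isPGroup_pCore (G := L) r).exists_card_eq
  rw [hk, hidx]
  exact Nat.Coprime.pow_left k ((Nat.Prime.coprime_iff_not_dvd hr).2 fun h =>
    hB (h.trans (Subgroup.card_dvd_of_le inf_le_left)))

/-- An element commuting with all `r`-cores lies in the Fitting subgroup. -/
theorem mem_fitting {L : Subgroup G} (hs : Group.IsSolvable L) {x : L}
    (h : ∀ r : ℕ, r.Prime → ∀ y ∈ pCore r L, y * x = x * y) : x ∈ fittingSubgroup L := by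
  haveI := hs
  refine centralizer_fitting_le ?_
  rw [fittingSubgroup_eq_iSup_pCore]
  have hle : (⨆ p : Nat.Primes, pCore (p : ℕ) L) ≤ Subgroup.centralizer ({x} : Set L) :=
    iSup_le fun p y hy => Subgroup.mem_centralizer_singleton_iff.2 (h p p.2 y hy)
  exact Subgroup.mem_centralizer_iff.2 fun y hy => Subgroup.mem_centralizer_singleton_iff.1 (hle hy)

set_option maxHeartbeats 4000000 in
/-- No proper subgroup contains non-trivial normal subgroups of `A` and of `B`. -/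
theorem sup_eq_top {A0 B0 : Subgroup G} (hA : A0 ≤ A) (hB : B0 ≤ B) (hA0 : A0 ≠ ⊥) (hB0 : B0 ≠ ⊥)
    (hAn : ∀ a ∈ A, ∀ x ∈ A0, a * x * a⁻¹ ∈ A0) (hBn : ∀ b ∈ B, ∀ x ∈ B0, b * x * b⁻¹ ∈ B0) :
    A0 ⊔ B0 = ⊤ := by
  classical
  by_contra hcon
  let S : Set (Subgroup G × Subgroup G) := {T | T.1 ≤ A ∧ T.2 ≤ B ∧ T.1 ≠ ⊥ ∧ T.2 ≠ ⊥ ∧
    (∀ a ∈ A, ∀ x ∈ T.1, a * x * a⁻¹ ∈ T.1) ∧ (∀ b ∈ B, ∀ x ∈ T.2, b * x * b⁻¹ ∈ T.2) ∧ T.1 ⊔ T.2 ≠ ⊤}
  obtain ⟨⟨A1, B1⟩, ⟨hA1, hB1, hA10, hB10, hA1n, hB1n, hX⟩, hmax⟩ :=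
    Set.Finite.exists_maximalFor (fun T : Subgroup G × Subgroup G => Nat.card T.1 * Nat.card T.2) S
      (Set.toFinite S) ⟨(A0, B0), hA, hB, hA0, hB0, hAn, hBn, hcon⟩
  dsimp only at hA1 hB1 hA10 hB10 hA1n hB1n hX
  set X := A1 ⊔ B1 with hXdef
  have hX0 : X ≠ ⊥ := fun e => hA10 (le_bot_iff.1 (e ▸ (le_sup_left : A1 ≤ X)))
  set L := Subgroup.normalizer (X : Set G) with hLdef
  have hL : L ≠ ⊤ := C.normalizer_ne_top hX0 hX
  have hA1L : A1 ≤ L := le_sup_left.trans Subgroup.le_normalizer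
  have hB1L : B1 ≤ L := le_sup_right.trans Subgroup.le_normalizer
  have hf : ∀ h ∈ L, ∃ a ∈ A ⊓ L, ∃ b ∈ B ⊓ L, h = a * b := by
    intro g hg
    obtain ⟨a, ha, b, hb, rfl⟩ := C.prod g
    have hg' : ∀ x, x ∈ X ↔ a * b * x * (a * b)⁻¹ ∈ X := Subgroup.mem_normalizer_iff.1 hg
    let Y := X.map (MulAut.conj b).toMonoidHom
    have hmem : ∀ x, x ∈ Y ↔ b⁻¹ * x * b ∈ X := fun x => by
      constructor
      · rintro ⟨y, hy, rfl⟩; simpa [mul_assoc] using hy
      · intro h; exact ⟨_, h, by simp [mul_assoc]⟩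
    have hA1Y : A1 ≤ Y := fun x hx => by
      rw [hmem, hg']
      have : a * x * a⁻¹ ∈ X := (le_sup_left : A1 ≤ X) (hA1n a ha x hx)
      simpa [mul_assoc] using this
    have hB1Y : B1 ≤ Y := fun x hx => by
      rw [hmem]
      have := hB1n b⁻¹ (inv_mem hb) x hx
      exact (le_sup_right : B1 ≤ X) (by simpa using this)
    have hXY : X = Y := Subgroup.eq_of_le_of_card_ge (sup_le hA1Y hB1Y)
      (le_of_eq (Nat.card_congr (X.equivMapOfInjective _ (MulAut.conj b).injective).toEquiv.symm))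
    have hbL : b ∈ L := by
      rw [hLdef, Subgroup.mem_normalizer_iff]
      intro x
      conv_rhs => rw [hXY, hmem]
      simp [mul_assoc]
    have haL : a ∈ L := by simpa using mul_mem hg (inv_mem hbL)
    exact ⟨a, Subgroup.mem_inf.2 ⟨ha, haL⟩, b, Subgroup.mem_inf.2 ⟨hb, hbL⟩, rfl⟩
  have hs := C.proper_solvable L hL hf
  -- the cores
  have hcoreA : ∀ r : ℕ, r.Prime → r ∣ Nat.card A → ∀ x ∈ pCore r L, (x : G) ∈ A := fun r hr hd =>
    C.pCore_le hf hr fun h => hr.not_dvd_one (C.cop ▸ Nat.dvd_gcd hd h)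
  have hcoreB : ∀ r : ℕ, r.Prime → r ∣ Nat.card B → ∀ x ∈ pCore r L, (x : G) ∈ B := fun r hr hd =>
    C.symm.pCore_le (fun h hh => by
      obtain ⟨a, ha, b, hb, e⟩ := hf h⁻¹ (inv_mem hh)
      exact ⟨b⁻¹, inv_mem hb, a⁻¹, inv_mem ha, by rw [← mul_inv_rev, ← e, inv_inv]⟩) hr
      fun h => hr.not_dvd_one (C.cop ▸ Nat.dvd_gcd h hd)
  have hdvd : ∀ r : ℕ, r.Prime → pCore r L ≠ ⊥ → r ∣ Nat.card A ∨ r ∣ Nat.card B := by
    intro r hr hne
    haveI := Fact.mk hr
    obtain ⟨k, hk⟩ := (isPGroup_pCore (G := L) r).exists_card_eq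
    have hk0 : k ≠ 0 := fun e => hne (Subgroup.eq_bot_of_card_eq _ (by rw [hk, e, pow_zero]))
    refine (Nat.Prime.dvd_mul hr).1 ?_
    rw [← C.card_G]
    exact ((dvd_pow_self r hk0).trans (hk ▸ Subgroup.card_subgroup_dvd_card _)).trans (Subgroup.card_subgroup_dvd_card L)
  -- enlarging
  have grow : ∀ r : ℕ, r.Prime → r ∣ Nat.card A → pCore r L ≠ ⊥ → ∀ a ∈ A, ¬ r ∣ orderOf a → a ∈ A1 := by
    intro r hr hd hne a ha hra
    haveI := Fact.mk hr
    set T := Subgroup.closure {x | x ∈ A ∧ ¬ r ∣ orderOf x} with hT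
    set U := (pCore r L).map L.subtype with hU
    have hU0 : U ≠ ⊥ := fun e => hne ((Subgroup.map_eq_bot_iff_of_injective _ L.subtype_injective).1 e)
    have hUp : IsPGroup r U := (isPGroup_pCore (G := L) r).map _
    have hN : Subgroup.normalizer (U : Set G) ≠ ⊤ := C.normalizer_ne_top hU0 (C.pgroup_ne_top hUp)
    have hLU : L ≤ Subgroup.normalizer (U : Set G) := by
      intro g hg
      rw [Subgroup.mem_normalizer_iff]
      intro x
      constructor
      · rintro ⟨y, hy, rfl⟩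
        exact ⟨⟨g, hg⟩ * y * ⟨g, hg⟩⁻¹, Subgroup.Normal.conj_mem inferInstance y hy _, rfl⟩
      · rintro ⟨y, hy, e⟩
        refine ⟨⟨g, hg⟩⁻¹ * y * ⟨g, hg⟩, by simpa using Subgroup.Normal.conj_mem inferInstance y hy (⟨g, hg⟩⁻¹ : L), ?_⟩
        simp only [map_mul, map_inv]
        rw [e]
        show g⁻¹ * (g * x * g⁻¹) * g = x
        group
    have hTU : T ≤ Subgroup.normalizer (U : Set G) := by
      refine (Subgroup.closure_le _).2 fun x ⟨hx, hrx⟩ => ?_
      have hc : ∀ y ∈ U, x * y = y * x := by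
        rintro _ ⟨y, hy, rfl⟩
        obtain ⟨k, hk⟩ := isPGroup_pCore (G := L) r ⟨y, hy⟩
        refine commute_of_coprime C.nilA hx (hcoreA r hr hd y hy) ?_
        have h1 : orderOf ((y : L) : G) ∣ r ^ k := by
          rw [Subgroup.orderOf_coe]
          exact orderOf_dvd_of_pow_eq_one (congrArg Subtype.val hk)
        exact Nat.Coprime.of_dvd_right h1 (Nat.Coprime.pow_right k ((Nat.Prime.coprime_iff_not_dvd hr).2 hrx).symm)
      rw [SetLike.mem_coe, Subgroup.mem_normalizer_iff]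
      intro y
      constructor
      · intro hy; rw [hc y hy, mul_inv_cancel_right]; exact hy
      · intro hy
        have := hc _ hy
        have e : x * y * x⁻¹ = y := by
          have e2 : x * (x * y * x⁻¹) = x * y := by rw [this, inv_mul_cancel_right]
          exact mul_left_cancel e2
        rwa [e] at hy
    have hTn : ∀ b ∈ A, ∀ x ∈ T, b * x * b⁻¹ ∈ T := by
      intro b hb x hx
      have : T ≤ T.comap (MulAut.conj b).toMonoidHom := (Subgroup.closure_le _).2 fun y ⟨hy, hry⟩ => by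
        refine Subgroup.subset_closure ⟨mul_mem (mul_mem hb hy) (inv_mem hb), ?_⟩
        show ¬ r ∣ orderOf (MulAut.conj b y)
        rwa [MulEquiv.orderOf_eq]
      exact this hx
    have hle : (A1 ⊔ T) ⊔ B1 ≤ Subgroup.normalizer (U : Set G) :=
      sup_le (sup_le (hA1L.trans hLU) hTU) (hB1L.trans hLU)
    have hTA : T ≤ A := (Subgroup.closure_le _).2 fun x hx => hx.1
    have hn2 : ∀ b ∈ A, ∀ x ∈ A1 ⊔ T, b * x * b⁻¹ ∈ A1 ⊔ T := by
      intro b hb x hx
      have : A1 ⊔ T ≤ (A1 ⊔ T).comap (MulAut.conj b).toMonoidHom := sup_le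
        (fun y hy => (le_sup_left : A1 ≤ A1 ⊔ T) (hA1n b hb y hy))
        (fun y hy => (le_sup_right : T ≤ A1 ⊔ T) (hTn b hb y hy))
      exact this hx
    have hne2 : A1 ⊔ T ≠ ⊥ := fun e => hA10 (le_bot_iff.1 (e ▸ (le_sup_left : A1 ≤ A1 ⊔ T)))
    have htop : (A1 ⊔ T) ⊔ B1 ≠ ⊤ := fun e => hN (top_le_iff.1 (e ▸ hle))
    have hmem : ((A1 ⊔ T, B1) : Subgroup G × Subgroup G) ∈ S := ⟨sup_le hA1 hTA, hB1, hne2, hB10, hn2, hB1n, htop⟩
    have hcard : Nat.card (A1 ⊔ T : Subgroup G) * Nat.card B1 ≤ Nat.card A1 * Nat.card B1 :=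
      hmax hmem (Nat.mul_le_mul_right _ (Subgroup.card_le_of_le le_sup_left))
    have heq : A1 = A1 ⊔ T := Subgroup.eq_of_le_of_card_ge le_sup_left (Nat.le_of_mul_le_mul_right hcard Nat.card_pos)
    rw [heq]
    exact (le_sup_right : T ≤ A1 ⊔ T) (Subgroup.subset_closure ⟨ha, hra⟩)
  have growB : ∀ r : ℕ, r.Prime → r ∣ Nat.card B → pCore r L ≠ ⊥ → ∀ a ∈ B, ¬ r ∣ orderOf a → a ∈ B1 := by
    intro r hr hd hne a ha hra
    haveI := Fact.mk hr
    set T := Subgroup.closure {x | x ∈ B ∧ ¬ r ∣ orderOf x} with hT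
    set U := (pCore r L).map L.subtype with hU
    have hU0 : U ≠ ⊥ := fun e => hne ((Subgroup.map_eq_bot_iff_of_injective _ L.subtype_injective).1 e)
    have hUp : IsPGroup r U := (isPGroup_pCore (G := L) r).map _
    have hN : Subgroup.normalizer (U : Set G) ≠ ⊤ := C.normalizer_ne_top hU0 (C.pgroup_ne_top hUp)
    have hLU : L ≤ Subgroup.normalizer (U : Set G) := by
      intro g hg
      rw [Subgroup.mem_normalizer_iff]
      intro x
      constructor
      · rintro ⟨y, hy, rfl⟩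
        exact ⟨⟨g, hg⟩ * y * ⟨g, hg⟩⁻¹, Subgroup.Normal.conj_mem inferInstance y hy _, rfl⟩
      · rintro ⟨y, hy, e⟩
        refine ⟨⟨g, hg⟩⁻¹ * y * ⟨g, hg⟩, by simpa using Subgroup.Normal.conj_mem inferInstance y hy (⟨g, hg⟩⁻¹ : L), ?_⟩
        simp only [map_mul, map_inv]
        rw [e]
        show g⁻¹ * (g * x * g⁻¹) * g = x
        group
    have hTU : T ≤ Subgroup.normalizer (U : Set G) := by
      refine (Subgroup.closure_le _).2 fun x ⟨hx, hrx⟩ => ?_
      have hc : ∀ y ∈ U, x * y = y * x := by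
        rintro _ ⟨y, hy, rfl⟩
        obtain ⟨k, hk⟩ := isPGroup_pCore (G := L) r ⟨y, hy⟩
        refine commute_of_coprime C.nilB hx (hcoreB r hr hd y hy) ?_
        have h1 : orderOf ((y : L) : G) ∣ r ^ k := by
          rw [Subgroup.orderOf_coe]
          exact orderOf_dvd_of_pow_eq_one (congrArg Subtype.val hk)
        exact Nat.Coprime.of_dvd_right h1 (Nat.Coprime.pow_right k ((Nat.Prime.coprime_iff_not_dvd hr).2 hrx).symm)
      rw [SetLike.mem_coe, Subgroup.mem_normalizer_iff]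
      intro y
      constructor
      · intro hy; rw [hc y hy, mul_inv_cancel_right]; exact hy
      · intro hy
        have := hc _ hy
        have e : x * y * x⁻¹ = y := by
          have e2 : x * (x * y * x⁻¹) = x * y := by rw [this, inv_mul_cancel_right]
          exact mul_left_cancel e2
        rwa [e] at hy
    have hTn : ∀ b ∈ B, ∀ x ∈ T, b * x * b⁻¹ ∈ T := by
      intro b hb x hx
      have : T ≤ T.comap (MulAut.conj b).toMonoidHom := (Subgroup.closure_le _).2 fun y ⟨hy, hry⟩ => by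
        refine Subgroup.subset_closure ⟨mul_mem (mul_mem hb hy) (inv_mem hb), ?_⟩
        show ¬ r ∣ orderOf (MulAut.conj b y)
        rwa [MulEquiv.orderOf_eq]
      exact this hx
    have hle : A1 ⊔ (B1 ⊔ T) ≤ Subgroup.normalizer (U : Set G) :=
      sup_le (hA1L.trans hLU) (sup_le (hB1L.trans hLU) hTU)
    have hTB : T ≤ B := (Subgroup.closure_le _).2 fun x hx => hx.1
    have hn2 : ∀ b ∈ B, ∀ x ∈ B1 ⊔ T, b * x * b⁻¹ ∈ B1 ⊔ T := by
      intro b hb x hx
      have : B1 ⊔ T ≤ (B1 ⊔ T).comap (MulAut.conj b).toMonoidHom := sup_le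
        (fun y hy => (le_sup_left : B1 ≤ B1 ⊔ T) (hB1n b hb y hy))
        (fun y hy => (le_sup_right : T ≤ B1 ⊔ T) (hTn b hb y hy))
      exact this hx
    have hne2 : B1 ⊔ T ≠ ⊥ := fun e => hB10 (le_bot_iff.1 (e ▸ (le_sup_left : B1 ≤ B1 ⊔ T)))
    have htop : A1 ⊔ (B1 ⊔ T) ≠ ⊤ := fun e => hN (top_le_iff.1 (e ▸ hle))
    have hmem : ((A1, B1 ⊔ T) : Subgroup G × Subgroup G) ∈ S := ⟨hA1, sup_le hB1 hTB, hA10, hne2, hA1n, hn2, htop⟩
    have hcard : Nat.card A1 * Nat.card (B1 ⊔ T : Subgroup G) ≤ Nat.card A1 * Nat.card B1 :=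
      hmax hmem (Nat.mul_le_mul_left _ (Subgroup.card_le_of_le le_sup_left))
    have heq : B1 = B1 ⊔ T := Subgroup.eq_of_le_of_card_ge le_sup_left (Nat.le_of_mul_le_mul_left hcard Nat.card_pos)
    rw [heq]
    exact (le_sup_right : T ≤ B1 ⊔ T) (Subgroup.subset_closure ⟨ha, hra⟩)
  -- at most one core in each factor
  have oneA : ∀ r r' : ℕ, r.Prime → r'.Prime → r ∣ Nat.card A → r' ∣ Nat.card A → pCore r L ≠ ⊥ →
      pCore r' L ≠ ⊥ → r = r' := by
    intro r r' hr hr' hd hd' hne hne'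
    by_contra hrr
    refine hX (C.eq_top_of_A_le (H := X) (B0 := B1) ?_ le_sup_right hB10 hB1n)
    intro a ha
    refine (le_sup_left : A1 ≤ X) ?_
    obtain ⟨x, y, rfl, ⟨k, hk⟩, hy, hxa, hya⟩ := split_element hr a
    have hxA : x ∈ A := (Subgroup.zpowers_le.2 ha) hxa
    have hyA : y ∈ A := (Subgroup.zpowers_le.2 ha) hya
    refine mul_mem (grow r' hr' hd' hne' x hxA fun h => hrr ?_) (grow r hr hd hne y hyA hy)
    exact ((Nat.prime_dvd_prime_iff_eq hr' hr).1 (hr'.dvd_of_dvd_pow (h.trans hk))).symm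
  have oneB : ∀ r r' : ℕ, r.Prime → r'.Prime → r ∣ Nat.card B → r' ∣ Nat.card B → pCore r L ≠ ⊥ →
      pCore r' L ≠ ⊥ → r = r' := by
    intro r r' hr hr' hd hd' hne hne'
    by_contra hrr
    refine hX (C.symm.eq_top_of_A_le (H := X) (B0 := A1) ?_ le_sup_left hA10 hA1n)
    intro a ha
    refine (le_sup_right : B1 ≤ X) ?_
    obtain ⟨x, y, rfl, ⟨k, hk⟩, hy, hxa, hya⟩ := split_element hr a
    have hxA : x ∈ B := (Subgroup.zpowers_le.2 ha) hxa
    have hyA : y ∈ B := (Subgroup.zpowers_le.2 ha) hya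
    refine mul_mem (growB r' hr' hd' hne' x hxA fun h => hrr ?_) (growB r hr hd hne y hyA hy)
    exact ((Nat.prime_dvd_prime_iff_eq hr' hr).1 (hr'.dvd_of_dvd_pow (h.trans hk))).symm
  -- the central elements of the other primes
  have getA : ∀ r : ℕ, r.Prime → r ∣ Nat.card A → pCore r L ≠ ⊥ → ∃ z ∈ A ⊓ L, (∀ a ∈ A, a * z = z * a) ∧
      ∃ p : ℕ, p.Prime ∧ p ≠ r ∧ p ∣ Nat.card A ∧ orderOf z = p := by
    intro r hr hd hne
    obtain ⟨p, hp, hpd, hpr⟩ := C.otherA r
    obtain ⟨z, hz, hzc, hzo⟩ := exists_central C.nilA hp hpd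
    refine ⟨z, Subgroup.mem_inf.2 ⟨hz, hA1L (grow r hr hd hne z hz ?_)⟩, hzc, p, hp, hpr, hpd, hzo⟩
    rw [hzo]; exact fun h => hpr ((Nat.prime_dvd_prime_iff_eq hr hp).1 h).symm
  have getB : ∀ r : ℕ, r.Prime → r ∣ Nat.card B → pCore r L ≠ ⊥ → ∃ z ∈ B ⊓ L, (∀ a ∈ B, a * z = z * a) ∧
      ∃ p : ℕ, p.Prime ∧ p ≠ r ∧ p ∣ Nat.card B ∧ orderOf z = p := by
    intro r hr hd hne
    obtain ⟨p, hp, hpd, hpr⟩ := C.otherB r
    obtain ⟨z, hz, hzc, hzo⟩ := exists_central C.nilB hp hpd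
    refine ⟨z, Subgroup.mem_inf.2 ⟨hz, hB1L (growB r hr hd hne z hz ?_)⟩, hzc, p, hp, hpr, hpd, hzo⟩
    rw [hzo]; exact fun h => hpr ((Nat.prime_dvd_prime_iff_eq hr hp).1 h).symm
  -- a non-trivial core
  obtain ⟨r, hr, hne⟩ : ∃ r : ℕ, r.Prime ∧ pCore r L ≠ ⊥ := by
    by_contra hno
    push Not at hno
    obtain ⟨x, hx, hx1⟩ : ∃ x ∈ L, x ≠ 1 := by
      obtain ⟨⟨x, hx⟩, hx1⟩ := Subgroup.ne_bot_iff_exists_ne_one.1 hA10
      exact ⟨x, hA1L hx, fun e => hx1 (Subtype.ext e)⟩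
    have h1 : (⟨x, hx⟩ : L) ∈ fittingSubgroup L := C.mem_fitting hs fun p hp y hy => by
      rw [hno p hp, Subgroup.mem_bot] at hy
      simp [hy]
    rw [fittingSubgroup_eq_iSup_pCore,
      show (⨆ p : Nat.Primes, pCore (p : ℕ) L) = ⊥ from iSup_eq_bot.2 fun p => hno p p.2, Subgroup.mem_bot] at h1
    exact hx1 (congrArg Subtype.val h1)
  have hfit : ∀ r r' : ℕ, (∀ p : ℕ, p.Prime → pCore p L ≠ ⊥ → p = r ∨ p = r') → ∀ x : L, x ∈ fittingSubgroup L →
      ∃ u ∈ pCore r L, ∃ v ∈ pCore r' L, x = u * v := by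
    intro r r' hall x hx
    rw [fittingSubgroup_eq_iSup_pCore] at hx
    have : (⨆ p : Nat.Primes, pCore (p : ℕ) L) ≤ pCore r L ⊔ pCore r' L := iSup_le fun p => by
      by_cases h0 : pCore (p : ℕ) L = ⊥
      · rw [h0]; exact bot_le
      · rcases hall p p.2 h0 with h | h <;> rw [h]
        exacts [le_sup_left, le_sup_right]
    have hxs : x ∈ (↑(pCore r L ⊔ pCore r' L) : Set L) := this hx
    rw [Subgroup.mul_normal (pCore r L) (pCore r' L)] at hxs
    obtain ⟨u, hu, v, hv, e⟩ := Set.mem_mul.1 hxs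
    exact ⟨u, hu, v, hv, e.symm⟩
  -- one side only is impossible
  have only : ∀ r : ℕ, r.Prime → pCore r L ≠ ⊥ → ∃ r' : ℕ, r'.Prime ∧ pCore r' L ≠ ⊥ ∧
      ((r ∣ Nat.card A ∧ r' ∣ Nat.card B) ∨ (r ∣ Nat.card B ∧ r' ∣ Nat.card A)) := by
    intro r hr hne
    by_contra hno
    push Not at hno
    rcases hdvd r hr hne with hd | hd
    · have hall : ∀ p : ℕ, p.Prime → pCore p L ≠ ⊥ → p = r ∨ p = r := fun p hp h0 => by
        rcases hdvd p hp h0 with h | h
        · exact Or.inl (oneA p r hp hr h hd h0 hne)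
        · exact absurd h ((hno p hp h0).1 hd)
      obtain ⟨z, hzm, hzc, p, hp, hpr, -, hzo⟩ := getA r hr hd hne
      have hzF := C.mem_fitting hs (x := ⟨z, (Subgroup.mem_inf.1 hzm).2⟩) fun q hq y hy => by
        by_cases h0 : pCore q L = ⊥
        · rw [h0, Subgroup.mem_bot] at hy; simp [hy]
        · obtain rfl : q = r := (hall q hq h0).elim id id
          exact Subtype.ext (hzc _ (hcoreA q hq hd y hy))
      obtain ⟨u, hu, v, hv, e⟩ := hfit r r hall _ hzF
      obtain ⟨k, hk⟩ := isPGroup_pCore (G := L) r ⟨u * v, mul_mem hu hv⟩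
      have h1 : orderOf z ∣ r ^ k := by
        refine orderOf_dvd_of_pow_eq_one ?_
        have := congrArg (fun t : pCore r L => ((t : L) : G)) hk
        rw [show z = ((u * v : L) : G) from congrArg Subtype.val e]
        simpa using this
      rw [hzo] at h1
      exact hpr ((Nat.prime_dvd_prime_iff_eq hp hr).1 (hp.dvd_of_dvd_pow h1))
    · have hall : ∀ p : ℕ, p.Prime → pCore p L ≠ ⊥ → p = r ∨ p = r := fun p hp h0 => by
        rcases hdvd p hp h0 with h | h
        · exact absurd h ((hno p hp h0).2 hd)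
        · exact Or.inl (oneB p r hp hr h hd h0 hne)
      obtain ⟨z, hzm, hzc, p, hp, hpr, -, hzo⟩ := getB r hr hd hne
      have hzF := C.mem_fitting hs (x := ⟨z, (Subgroup.mem_inf.1 hzm).2⟩) fun q hq y hy => by
        by_cases h0 : pCore q L = ⊥
        · rw [h0, Subgroup.mem_bot] at hy; simp [hy]
        · obtain rfl : q = r := (hall q hq h0).elim id id
          exact Subtype.ext (hzc _ (hcoreB q hq hd y hy))
      obtain ⟨u, hu, v, hv, e⟩ := hfit r r hall _ hzF
      obtain ⟨k, hk⟩ := isPGroup_pCore (G := L) r ⟨u * v, mul_mem hu hv⟩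
      have h1 : orderOf z ∣ r ^ k := by
        refine orderOf_dvd_of_pow_eq_one ?_
        have := congrArg (fun t : pCore r L => ((t : L) : G)) hk
        rw [show z = ((u * v : L) : G) from congrArg Subtype.val e]
        simpa using this
      rw [hzo] at h1
      exact hpr ((Nat.prime_dvd_prime_iff_eq hp hr).1 (hp.dvd_of_dvd_pow h1))
  obtain ⟨rA, rB, hrA, hrB, hdA, hdB, hneA, hneB⟩ : ∃ rA rB : ℕ, rA.Prime ∧ rB.Prime ∧ rA ∣ Nat.card A ∧
      rB ∣ Nat.card B ∧ pCore rA L ≠ ⊥ ∧ pCore rB L ≠ ⊥ := by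
    obtain ⟨r', hr', hne', ⟨h1, h2⟩ | ⟨h1, h2⟩⟩ := only r hr hne
    · exact ⟨r, r', hr, hr', h1, h2, hne, hne'⟩
    · exact ⟨r', r, hr', hr, h2, h1, hne', hne⟩
  have hall : ∀ p : ℕ, p.Prime → pCore p L ≠ ⊥ → p = rA ∨ p = rB := fun p hp h0 => by
    rcases hdvd p hp h0 with h | h
    · exact Or.inl (oneA p rA hp hrA h hdA h0 hneA)
    · exact Or.inr (oneB p rB hp hrB h hdB h0 hneB)
  obtain ⟨z, hzm, hzc, p, hp, hpr, hpA, hzo⟩ := getA rA hrA hdA hneA
  obtain ⟨y, hym, hyc, s, hs', hsr, hsB, hyo⟩ := getB rB hrB hdB hneB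
  obtain ⟨hzA, hzL⟩ := Subgroup.mem_inf.1 hzm
  obtain ⟨hyB, hyL⟩ := Subgroup.mem_inf.1 hym
  let zl : L := ⟨z, hzL⟩
  let yl : L := ⟨y, hyL⟩
  have hzU : ∀ u ∈ pCore rA L, u * zl = zl * u := fun u hu => Subtype.ext (hzc _ (hcoreA rA hrA hdA u hu))
  have hyV : ∀ v ∈ pCore rB L, v * yl = yl * v := fun v hv => Subtype.ext (hyc _ (hcoreB rB hrB hdB v hv))
  haveI := Fact.mk hrA
  haveI := Fact.mk hrB
  have hne' : rA ≠ rB := fun e => hrA.not_dvd_one (C.cop ▸ Nat.dvd_gcd hdA (e ▸ hdB))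
  have hUV : ∀ u ∈ pCore rA L, ∀ v ∈ pCore rB L, u * v = v * u := by
    intro u hu v hv
    refine Subgroup.commute_of_normal_of_disjoint _ _ inferInstance inferInstance ?_ u v hu hv
    exact IsPGroup.disjoint_of_ne rA rB hne' _ _ (isPGroup_pCore rA) (isPGroup_pCore rB)
  have hczy : yl * zl * yl⁻¹ * zl⁻¹ ∈ fittingSubgroup L := C.mem_fitting hs fun q hq w hw => by
    by_cases h0 : pCore q L = ⊥
    · rw [h0, Subgroup.mem_bot] at hw; simp [hw]
    · rcases hall q hq h0 with rfl | rfl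
      · have hconj : yl⁻¹ * w * yl ∈ pCore q L := by
          simpa using Subgroup.Normal.conj_mem inferInstance w hw yl⁻¹
        calc w * (yl * zl * yl⁻¹ * zl⁻¹) = yl * ((yl⁻¹ * w * yl) * zl) * yl⁻¹ * zl⁻¹ := by group
          _ = yl * (zl * (yl⁻¹ * w * yl)) * yl⁻¹ * zl⁻¹ := by rw [hzU _ hconj]
          _ = yl * zl * yl⁻¹ * (w * zl⁻¹) := by group
          _ = yl * zl * yl⁻¹ * (zl⁻¹ * w) := by
            rw [show w * zl⁻¹ = zl⁻¹ * w from (Commute.inv_right (hzU w hw)).eq]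
          _ = yl * zl * yl⁻¹ * zl⁻¹ * w := by group
      · have hconj : zl⁻¹ * w * zl ∈ pCore q L := by
          simpa using Subgroup.Normal.conj_mem inferInstance w hw zl⁻¹
        calc w * (yl * zl * yl⁻¹ * zl⁻¹) = (w * yl) * zl * yl⁻¹ * zl⁻¹ := by group
          _ = yl * w * zl * yl⁻¹ * zl⁻¹ := by rw [hyV w hw]
          _ = yl * zl * ((zl⁻¹ * w * zl) * yl⁻¹) * zl⁻¹ := by group
          _ = yl * zl * (yl⁻¹ * (zl⁻¹ * w * zl)) * zl⁻¹ := by
            rw [show (zl⁻¹ * w * zl) * yl⁻¹ = yl⁻¹ * (zl⁻¹ * w * zl) from (Commute.inv_right (hyV _ hconj)).eq]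
          _ = yl * zl * yl⁻¹ * zl⁻¹ * w := by group
  obtain ⟨u, hu, v, hv, e⟩ := hfit rA rB hall _ hczy
  have ey : yl * zl * yl⁻¹ = u * (v * zl) := by rw [← mul_assoc, ← e, inv_mul_cancel_right]
  -- the first component vanishes
  have hu1 : u = 1 := by
    have hzp : zl ^ p = 1 := Subtype.ext (by simp [zl, ← hzo, pow_orderOf_eq_one])
    have hc : Commute u (v * zl) := (Commute.mul_right (hUV u hu v hv) (hzU u hu))
    have h1 : u ^ p * (v * zl) ^ p = 1 := by
      rw [← hc.mul_pow, ← ey, conj_pow, hzp, mul_one, mul_inv_cancel]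
    have h2 : (v * zl) ^ p ∈ pCore rB L := by
      rw [← QuotientGroup.eq_one_iff (N := pCore rB L), QuotientGroup.mk_pow, QuotientGroup.mk_mul,
        (QuotientGroup.eq_one_iff v).2 hv, one_mul, ← QuotientGroup.mk_pow, hzp, QuotientGroup.mk_one]
    have h3 : u ^ p = 1 := by
      have hdis := IsPGroup.disjoint_of_ne rA rB hne' _ _ (isPGroup_pCore (G := L) rA) (isPGroup_pCore (G := L) rB)
      exact Subgroup.disjoint_def.1 hdis (pow_mem hu p) (by rw [eq_inv_of_mul_eq_one_left h1]; exact inv_mem h2)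
    obtain ⟨k, hk⟩ := isPGroup_pCore (G := L) rA ⟨u, hu⟩
    have hd1 : orderOf u ∣ rA ^ k := orderOf_dvd_of_pow_eq_one (congrArg Subtype.val hk)
    have hd2 : orderOf u ∣ p := orderOf_dvd_of_pow_eq_one h3
    exact orderOf_eq_one_iff.1 (Nat.eq_one_of_dvd_coprimes
      (Nat.Coprime.pow_left k ((Nat.coprime_primes hrA hp).2 (Ne.symm hpr))) hd1 hd2)
  rw [hu1, one_mul] at ey
  have hv1 : v = 1 := by
    have hk' : ∀ k : ℕ, yl ^ k * zl * (yl ^ k)⁻¹ = v ^ k * zl := by
      intro k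
      induction k with
      | zero => simp
      | succ k ih =>
        have hvy : yl * v ^ k * yl⁻¹ = v ^ k := by rw [← hyV _ (pow_mem hv k), mul_inv_cancel_right]
        calc yl ^ (k + 1) * zl * (yl ^ (k + 1))⁻¹ = yl * (yl ^ k * zl * (yl ^ k)⁻¹) * yl⁻¹ := by
              rw [pow_succ']; group
          _ = (yl * v ^ k * yl⁻¹) * (yl * zl * yl⁻¹) := by rw [ih]; group
          _ = v ^ (k + 1) * zl := by rw [hvy, ey, pow_succ, mul_assoc]
    have h1 := hk' s
    have hys : yl ^ s = 1 := Subtype.ext (by simp [yl, ← hyo, pow_orderOf_eq_one])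
    rw [hys, one_mul, inv_one, mul_one, eq_comm, mul_eq_right] at h1
    obtain ⟨k, hk⟩ := isPGroup_pCore (G := L) rB ⟨v, hv⟩
    have hd1 : orderOf v ∣ rB ^ k := orderOf_dvd_of_pow_eq_one (congrArg Subtype.val hk)
    exact orderOf_eq_one_iff.1 (Nat.eq_one_of_dvd_coprimes
      (Nat.Coprime.pow_left k ((Nat.coprime_primes hrB hs').2 (Ne.symm hsr))) hd1 (orderOf_dvd_of_pow_eq_one h1))
  rw [hv1, one_mul] at ey
  have hcomm : y * z = z * y := by
    have := congrArg Subtype.val (mul_inv_eq_iff_eq_mul.1 ey)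
    simpa [yl, zl] using this
  have hy1 : y ≠ 1 := fun e' => hs'.ne_one (by rw [← hyo, e', orderOf_one])
  have hctop : Subgroup.centralizer ({z} : Set G) = ⊤ := C.eq_top_of_A_le
    (B0 := Subgroup.zpowers y) (fun a ha => Subgroup.mem_centralizer_singleton_iff.2 (hzc a ha))
    (Subgroup.zpowers_le.2 (Subgroup.mem_centralizer_singleton_iff.2 hcomm))
    (by simpa using hy1)
    (fun b hb x hx => by
      obtain ⟨i, rfl⟩ := Subgroup.mem_zpowers_iff.1 hx
      have : Commute b (y ^ i) := Commute.zpow_right (hyc b hb) i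
      rw [this.eq, mul_inv_cancel_right]
      exact Subgroup.zpow_mem _ (Subgroup.mem_zpowers y) i)
  have := C.center_triv fun g => Subgroup.mem_centralizer_singleton_iff.1 (hctop.ge (Subgroup.mem_top g))
  rw [this, orderOf_one] at hzo
  exact hp.ne_one hzo.symm

/-- A subgroup containing a central element of `A` and a conjugate of a central element of `B` is the group. -/
theorem eq_top_of_mem {H : Subgroup G} {z y : G} (hz : z ∈ A) (hzc : ∀ a ∈ A, a * z = z * a) (hz1 : z ≠ 1)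
    (hy : y ∈ B) (hyc : ∀ b ∈ B, b * y = y * b) (hy1 : y ≠ 1) (hzH : z ∈ H) {g : G} (hyH : g * y * g⁻¹ ∈ H) :
    H = ⊤ := by
  obtain ⟨a, ha, b, hb, rfl⟩ := C.prod g
  have e : a * b * y * (a * b)⁻¹ = a * y * a⁻¹ := by
    rw [mul_assoc a b y, hyc b hb]; group
  rw [e] at hyH
  have hn : ∀ (D : Subgroup G) (x : G), (∀ d ∈ D, d * x = x * d) → ∀ d ∈ D, ∀ w ∈ Subgroup.zpowers x,
      d * w * d⁻¹ ∈ Subgroup.zpowers x := fun D x hc d hd w hw => by
    obtain ⟨i, rfl⟩ := Subgroup.mem_zpowers_iff.1 hw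
    rw [(Commute.zpow_right (hc d hd) i).eq, mul_inv_cancel_right]
    exact Subgroup.zpow_mem _ (Subgroup.mem_zpowers x) i
  have htop := C.sup_eq_top (A0 := Subgroup.zpowers z) (B0 := Subgroup.zpowers y) (Subgroup.zpowers_le.2 hz)
    (Subgroup.zpowers_le.2 hy) (by simpa using hz1) (by simpa using hy1) (hn A z hzc) (hn B y hyc)
  have hle : Subgroup.zpowers z ⊔ Subgroup.zpowers y ≤ H.comap (MulAut.conj a).toMonoidHom :=
    sup_le (Subgroup.zpowers_le.2 (by
        show a * z * a⁻¹ ∈ H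
        rw [hzc a ha, mul_inv_cancel_right]; exact hzH))
      (Subgroup.zpowers_le.2 hyH)
  rw [htop, top_le_iff] at hle
  rw [eq_top_iff]
  intro x _
  have hx : a⁻¹ * x * a ∈ H.comap (MulAut.conj a).toMonoidHom := hle.ge (Subgroup.mem_top _)
  simpa [mul_assoc] using hx

/-- The centraliser of a central element of `A` is `A`. -/
theorem centralizer_central {z g : G} (hz : z ∈ A) (hzc : ∀ a ∈ A, a * z = z * a) (hz1 : z ≠ 1)
    (hg : g * z = z * g) : g ∈ A := by
  obtain ⟨a, ha, b, hb, rfl⟩ := C.prod g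
  have hb' : b * z = z * b := by
    have h1 : a * (b * z) = a * (z * b) := by rw [← mul_assoc, hg, ← mul_assoc, ← mul_assoc, hzc a ha]
    exact mul_left_cancel h1
  obtain ⟨y, hy, hy1, hyc⟩ := C.symm.A_ne_bot
  have htop := C.eq_top_of_mem (H := Subgroup.centralizer ({b} : Set G)) hz hzc hz1 hy hyc hy1
    (Subgroup.mem_centralizer_singleton_iff.2 hb'.symm) (g := 1)
    (by simpa using Subgroup.mem_centralizer_singleton_iff.2 (hyc b hb).symm)
  have h1 := C.center_triv fun g => Subgroup.mem_centralizer_singleton_iff.1 (htop.ge (Subgroup.mem_top g))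
  rw [h1, mul_one]; exact ha

/-- A central element of `A` normalises no non-trivial subgroup of prime power order dividing `|B|`. -/
theorem no_norm {z : G} (hz : z ∈ A) (hzc : ∀ a ∈ A, a * z = z * a) (hz1 : z ≠ 1) {q : ℕ} [hq : Fact q.Prime]
    (hqB : q ∣ Nat.card B) {V : Subgroup G} (hV : IsPGroup q V) (hzV : z ∈ Subgroup.normalizer (V : Set G)) :
    V = ⊥ := by
  by_contra hne
  obtain ⟨y, hy, hy1, hyc⟩ := C.symm.A_ne_bot
  obtain ⟨P, hP⟩ := hV.exists_le_sylow
  obtain ⟨Q⟩ : Nonempty (Sylow q B) := inferInstance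
  have hcardQ : Nat.card ((Q : Subgroup B).map B.subtype) = q ^ (Nat.card G).factorization q := by
    rw [← Nat.card_congr ((Q : Subgroup B).equivMapOfInjective B.subtype B.subtype_injective).toEquiv,
      Q.card_eq_multiplicity, C.card_G, Nat.factorization_mul Nat.card_pos.ne' Nat.card_pos.ne',
      Finsupp.add_apply, Nat.factorization_eq_zero_of_not_dvd
        (fun h => hq.out.not_dvd_one (C.cop ▸ Nat.dvd_gcd h hqB)), zero_add]
  let Q' : Sylow q G := Sylow.ofCard ((Q : Subgroup B).map B.subtype) hcardQ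
  obtain ⟨g, hg⟩ := MulAction.exists_smul_eq G Q' P
  have hN : g * y * g⁻¹ ∈ Subgroup.normalizer (V : Set G) := by
    refine Subgroup.centralizer_le_normalizer _ ?_
    rw [Subgroup.mem_centralizer_iff]
    intro v hv
    have hv' : v ∈ ((g • Q' : Sylow q G) : Subgroup G) := by rw [hg]; exact hP hv
    rw [Sylow.coe_subgroup_smul] at hv'
    obtain ⟨w, hw, rfl⟩ := Subgroup.mem_smul_pointwise_iff_exists _ _ _ |>.1 hv'
    have hwB : w ∈ B := Subgroup.map_subtype_le _ hw
    rw [MulAut.smul_def, MulAut.conj_apply]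
    calc g * w * g⁻¹ * (g * y * g⁻¹) = g * (w * y) * g⁻¹ := by group
      _ = g * (y * w) * g⁻¹ := by rw [hyc w hwB]
      _ = g * y * g⁻¹ * (g * w * g⁻¹) := by group
  exact C.normalizer_ne_top hne (C.pgroup_ne_top hV) (C.eq_top_of_mem hz hzc hz1 hy hyc hy1 hzV hN)

/-- An element moving all central elements of `A` into `A` normalises `A`. -/
theorem mem_normalizer_of_conj {g : G}
    (h : ∀ z ∈ A, (∀ a ∈ A, a * z = z * a) → g * z * g⁻¹ ∈ A) : g ∈ Subgroup.normalizer (A : Set G) := by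
  have key : ∀ a ∈ A, g⁻¹ * a * g ∈ A := by
    intro a ha
    obtain ⟨p, hp, hpd, -⟩ := C.otherA 0
    have main : ∀ (p : ℕ), p.Prime → p ∣ Nat.card A → ∀ x ∈ A, ¬ p ∣ orderOf x → g⁻¹ * x * g ∈ A := by
      intro p hp hpd x hx hpx
      obtain ⟨z, hz, hzc, hzo⟩ := exists_central C.nilA hp hpd
      have hz1 : z ≠ 1 := fun e => hp.ne_one (by rw [← hzo, e, orderOf_one])
      refine C.centralizer_central hz hzc hz1 ?_
      have hc := commute_of_coprime C.nilA hx (h z hz hzc) (by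
        rw [show g * z * g⁻¹ = MulAut.conj g z from rfl, MulEquiv.orderOf_eq, hzo]
        exact ((Nat.Prime.coprime_iff_not_dvd hp).2 hpx).symm)
      calc g⁻¹ * x * g * z = g⁻¹ * (x * (g * z * g⁻¹)) * g := by group
        _ = g⁻¹ * ((g * z * g⁻¹) * x) * g := by rw [hc]
        _ = z * (g⁻¹ * x * g) := by group
    obtain ⟨x, y, rfl, ⟨k, hk⟩, hy, hxa, hya⟩ := split_element hp a
    obtain ⟨p', hp', hpd', hne⟩ := C.otherA p
    have h1 := main p' hp' hpd' x ((Subgroup.zpowers_le.2 ha) hxa)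
      fun hd => hne ((Nat.prime_dvd_prime_iff_eq hp' hp).1 (hp'.dvd_of_dvd_pow (hd.trans hk)))
    have h2 := main p hp hpd y ((Subgroup.zpowers_le.2 ha) hya) hy
    simpa [mul_assoc] using mul_mem h1 h2
  have key2 : ∀ a ∈ A, g * a * g⁻¹ ∈ A := by
    have := conj_mem_inv (H := A) (a := g⁻¹) (by simpa using key)
    simpa using this
  rw [Subgroup.mem_normalizer_iff]
  exact fun x => ⟨key2 x, fun hx => by simpa [mul_assoc] using key _ hx⟩

/-- A proper solvable factorised subgroup containing the centre of `A` normalises `A`. -/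
theorem le_normalizer {L : Subgroup G} (hL : L ≠ ⊤) (hf : ∀ h ∈ L, ∃ a ∈ A ⊓ L, ∃ b ∈ B ⊓ L, h = a * b)
    (hz : ∀ z ∈ A, (∀ a ∈ A, a * z = z * a) → z ∈ L) : L ≤ Subgroup.normalizer (A : Set G) := by
  have hs := C.proper_solvable L hL hf
  obtain ⟨z0, hz0, hz01, hz0c⟩ := C.A_ne_bot
  have hcore : ∀ r : ℕ, r.Prime → pCore r L = ⊥ ∨ ∀ x ∈ pCore r L, (x : G) ∈ A := by
    intro r hr
    haveI := Fact.mk hr
    by_cases hB : r ∣ Nat.card B
    · left
      refine (Subgroup.map_eq_bot_iff_of_injective _ L.subtype_injective).1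
        (C.no_norm hz0 hz0c hz01 hB ((isPGroup_pCore (G := L) r).map L.subtype) ?_)
      rw [Subgroup.mem_normalizer_iff]
      intro x
      constructor
      · rintro ⟨y, hy, rfl⟩
        exact ⟨⟨z0, hz z0 hz0 hz0c⟩ * y * ⟨z0, hz z0 hz0 hz0c⟩⁻¹, Subgroup.Normal.conj_mem inferInstance y hy _, rfl⟩
      · rintro ⟨y, hy, e⟩
        refine ⟨⟨z0, hz z0 hz0 hz0c⟩⁻¹ * y * ⟨z0, hz z0 hz0 hz0c⟩,
          by simpa using Subgroup.Normal.conj_mem inferInstance y hy (⟨z0, hz z0 hz0 hz0c⟩⁻¹ : L), ?_⟩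
        simp only [map_mul, map_inv]
        rw [e]
        show z0⁻¹ * (z0 * x * z0⁻¹) * z0 = x
        group
    · exact Or.inr fun x hx => C.pCore_le hf hr hB x hx
  have hFA : fittingSubgroup L ≤ A.subgroupOf L := by
    rw [fittingSubgroup_eq_iSup_pCore]
    refine iSup_le fun p => ?_
    rcases hcore p p.2 with h | h
    · rw [h]; exact bot_le
    · exact fun x hx => Subgroup.mem_subgroupOf.2 (h x hx)
  intro m hm
  refine C.mem_normalizer_of_conj fun z hzA hzc => ?_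
  have hzF : (⟨z, hz z hzA hzc⟩ : L) ∈ fittingSubgroup L := C.mem_fitting hs fun r hr y hy =>
    Subtype.ext (hzc _ (Subgroup.mem_subgroupOf.1 (hFA (pCore_le_fittingSubgroup hr hy))))
  have := hFA (Subgroup.Normal.conj_mem inferInstance _ hzF ⟨m, hm⟩)
  simpa [Subgroup.mem_subgroupOf] using this

/-- The centraliser of an element of one factor normalising the other. -/
theorem centralizer_le {w : G} (hw : w ∈ B) (hwA : w ∈ Subgroup.normalizer (A : Set G)) (hw1 : w ≠ 1) :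
    Subgroup.centralizer ({w} : Set G) ≤ Subgroup.normalizer (B : Set G) := by
  have hne : Subgroup.centralizer ({w} : Set G) ≠ ⊤ := fun h =>
    hw1 (C.center_triv fun g => Subgroup.mem_centralizer_singleton_iff.1 (h.ge (Subgroup.mem_top g)))
  refine C.symm.le_normalizer hne ?_ fun y _ hyc =>
    Subgroup.mem_centralizer_singleton_iff.2 (hyc w hw).symm
  intro g hg
  obtain ⟨b, hb, a, ha, rfl⟩ := C.symm.prod g
  have h := Subgroup.mem_centralizer_singleton_iff.1 hg
  -- `b * a = w * (b * a) * w⁻¹`, and both factors are fixed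
  have h1 : (w * b * w⁻¹) * (w * a * w⁻¹) = b * a := by
    calc (w * b * w⁻¹) * (w * a * w⁻¹) = w * (b * a) * w⁻¹ := by group
      _ = b * a := by rw [← h, mul_inv_cancel_right]
  obtain ⟨h2, h3⟩ := C.symm.uniq (mul_mem (mul_mem hw hb) (inv_mem hw)) hb
    ((Subgroup.mem_normalizer_iff.1 hwA a).1 ha) ha h1
  exact ⟨b, Subgroup.mem_inf.2 ⟨hb, Subgroup.mem_centralizer_singleton_iff.2 (mul_inv_eq_iff_eq_mul.1 h2).symm⟩,
    a, Subgroup.mem_inf.2 ⟨ha, Subgroup.mem_centralizer_singleton_iff.2 (mul_inv_eq_iff_eq_mul.1 h3).symm⟩, rfl⟩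

theorem A_normalizer_mem {g : G} (hg : g ∈ Subgroup.normalizer (A : Set G)) :
    ∃ a ∈ A, ∃ b ∈ B, b ∈ Subgroup.normalizer (A : Set G) ∧ g = a * b := by
  obtain ⟨a, ha, b, hb, rfl⟩ := C.prod g
  exact ⟨a, ha, b, hb, by simpa using mul_mem (inv_mem (Subgroup.le_normalizer ha)) hg, rfl⟩

/-- An element of `N(A)` of order prime to `|B|` lies in `A`. -/
theorem mem_A_of_normalizer {g : G} (hg : g ∈ Subgroup.normalizer (A : Set G)) {k : ℕ} (hk : g ^ k = 1)
    (hkB : k.Coprime (Nat.card B)) : g ∈ A := by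
  obtain ⟨a, ha, b, hb, hbN, rfl⟩ := C.A_normalizer_mem hg
  have hpow : ∀ n : ℕ, ∃ a' ∈ A, (a * b) ^ n = a' * b ^ n := by
    intro n
    induction n with
    | zero => exact ⟨1, one_mem A, by simp⟩
    | succ n ih =>
      obtain ⟨a', ha', e⟩ := ih
      refine ⟨a' * (b ^ n * a * (b ^ n)⁻¹), mul_mem ha' ((Subgroup.mem_normalizer_iff.1 (pow_mem hbN n) a).1 ha), ?_⟩
      rw [pow_succ, e, pow_succ]; group
  obtain ⟨a', ha', e⟩ := hpow k
  rw [hk] at e
  have hbk : b ^ k ∈ A := by rw [eq_inv_of_mul_eq_one_right e.symm]; exact inv_mem ha'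
  have h1 : b ^ k = 1 := C.eq_one hbk (pow_mem hb k)
  have h2 : orderOf b ∣ Nat.card B := Subgroup.orderOf_dvd_natCard B hb
  have hb1 : b = 1 := orderOf_eq_one_iff.1 (Nat.eq_one_of_dvd_coprimes hkB (orderOf_dvd_of_pow_eq_one h1) h2)
  rw [hb1, mul_one]; exact ha

/-- An element of `A` normalising `B` is centralised only inside `N(A)`, and conversely. -/
theorem centralizer_le' {u : G} (hu : u ∈ A) (huB : u ∈ Subgroup.normalizer (B : Set G)) (hu1 : u ≠ 1) :
    Subgroup.centralizer ({u} : Set G) ≤ Subgroup.normalizer (A : Set G) :=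
  C.symm.centralizer_le hu huB hu1

set_option maxHeartbeats 4000000 in
/-- The centraliser of every non-trivial subgroup of `A` normalises `A`. -/
theorem centralizer_sub_le {W : Subgroup G} (hW : W ≤ A) (hW1 : W ≠ ⊥) :
    Subgroup.centralizer (W : Set G) ≤ Subgroup.normalizer (A : Set G) := by
  classical
  by_contra hbad
  set M := Subgroup.normalizer (A : Set G) with hMdef
  let S : Set (Subgroup G) := {U | U ≤ A ∧ U ≠ ⊥ ∧ ¬ Subgroup.centralizer (U : Set G) ≤ M}
  obtain ⟨V, ⟨hVA, hV1, hVb⟩, hmax⟩ :=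
    Set.Finite.exists_maximalFor (fun U : Subgroup G => Nat.card U) S (Set.toFinite S) ⟨W, hW, hW1, hbad⟩
  have good : ∀ U : Subgroup G, U ≤ A → V < U → Subgroup.centralizer (U : Set G) ≤ M := fun U hUA hVU => by
    by_contra hU
    have hU0 : U ≠ ⊥ := fun e => not_lt_bot (e ▸ hVU)
    have := hmax (j := U) ⟨hUA, hU0, hU⟩ (Subgroup.card_le_of_le hVU.le)
    exact hVU.ne (Subgroup.eq_of_le_of_card_ge hVU.le this)
  set R := Subgroup.centralizer (V : Set G) with hR
  have hzR : ∀ z ∈ A, (∀ a ∈ A, a * z = z * a) → z ∈ R := fun z _ hzc =>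
    Subgroup.mem_centralizer_iff.2 fun v hv => hzc v (hVA hv)
  have hzV : ∀ z ∈ A, (∀ a ∈ A, a * z = z * a) → z ≠ 1 → z ∉ V := by
    intro z hz hzc hz1 hzV
    refine hVb fun g hg => Subgroup.le_normalizer (C.centralizer_central hz hzc hz1 ?_)
    exact (Subgroup.mem_centralizer_iff.1 hg z hzV).symm
  -- `R` meets `N(A)` in a subgroup of `A`
  have hRM : ∀ m ∈ R, m ∈ M → m ∈ A := by
    intro m hmR hmM
    by_contra hmA
    -- a non-trivial part of order dividing `|B|`
    set m' := m ^ Nat.card A with hm'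
    have hm'1 : m' ≠ 1 := fun e => hmA (C.mem_A_of_normalizer hmM e C.cop)
    have hm'B : m' ^ Nat.card B = 1 := by rw [hm', ← pow_mul, ← C.card_G, pow_card_eq_one']
    obtain ⟨a, ha, b, hb, hbN, hab⟩ := C.A_normalizer_mem (pow_mem hmM (Nat.card A) : m' ∈ M)
    -- conjugate into `B`
    obtain ⟨a0, ha0, hw⟩ : ∃ a0 ∈ A, a0⁻¹ * m' * a0 ∈ B := by
      have hcop' : (Nat.card A).Coprime (orderOf b) :=
        Nat.Coprime.of_dvd_right (Subgroup.orderOf_dvd_natCard B hb) C.cop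
      -- the elements `a * b` with fixed `b` of order dividing that of `b` are conjugate under `A`
      let K : Subgroup G := A ⊔ Subgroup.zpowers b
      have hbnorm : Subgroup.zpowers b ≤ Subgroup.normalizer (A : Set G) := Subgroup.zpowers_le.2 hbN
      have hKmem : ∀ x ∈ K, ∃ a ∈ A, ∃ c ∈ Subgroup.zpowers b, x = a * c := by
        intro x hx
        have hx' : x ∈ (↑(A ⊔ Subgroup.zpowers b) : Set G) := hx
        rw [Subgroup.coe_mul_of_right_le_normalizer_left A _ hbnorm] at hx'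
        obtain ⟨a, ha, c, hc, rfl⟩ := Set.mem_mul.1 hx'
        exact ⟨a, ha, c, hc, rfl⟩
      haveI hAn : (A.subgroupOf K).Normal :=
        ⟨fun n hn k => Subgroup.mem_subgroupOf.2 ((Subgroup.mem_normalizer_iff.1
          ((sup_le Subgroup.le_normalizer hbnorm : K ≤ M) k.2) n).1 (Subgroup.mem_subgroupOf.1 hn))⟩
      have hKcard : Nat.card K = Nat.card A * orderOf b := by
        rw [← Nat.card_zpowers b, ← Nat.card_prod]
        symm
        refine Nat.card_eq_of_bijective (fun x : A × Subgroup.zpowers b =>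
          (⟨(x.1 : G) * x.2, mul_mem ((le_sup_left : A ≤ K) x.1.2) ((le_sup_right : _ ≤ K) x.2.2)⟩ : K)) ⟨fun x y h => ?_, fun x => ?_⟩
        · obtain ⟨h1, h2⟩ := C.uniq x.1.2 y.1.2 (Subgroup.zpowers_le.2 hb x.2.2) (Subgroup.zpowers_le.2 hb y.2.2)
            (congrArg Subtype.val h)
          exact Prod.ext (Subtype.ext h1) (Subtype.ext h2)
        · obtain ⟨a, ha, c, hc, e⟩ := hKmem x x.2
          exact ⟨(⟨a, ha⟩, ⟨c, hc⟩), Subtype.ext e.symm⟩
      haveI : Group.IsSolvable K := by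
        refine C.proper_solvable K (fun e => ?_) fun x hx => ?_
        · have : A.Normal := Subgroup.normalizer_eq_top_iff.1 (top_le_iff.1 (e ▸ (sup_le Subgroup.le_normalizer hbnorm : K ≤ M)))
          rcases C.normal_triv this with h | h
          · obtain ⟨z, hz, hz1, -⟩ := C.A_ne_bot
            exact hz1 (Subgroup.mem_bot.1 (h ▸ hz))
          · haveI := C.nilA
            haveI : Group.IsNilpotent G := Group.nilpotent_of_mulEquiv ((MulEquiv.subgroupCongr h).trans Subgroup.topEquiv)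
            exact C.not_solvable inferInstance
        · obtain ⟨a, ha, c, hc, e⟩ := hKmem x hx
          exact ⟨a, Subgroup.mem_inf.2 ⟨ha, le_sup_left (a := A) ha⟩, c,
            Subgroup.mem_inf.2 ⟨Subgroup.zpowers_le.2 hb hc, le_sup_right (b := Subgroup.zpowers b) hc⟩, e⟩
      have hm'K : m' ∈ K := by
        rw [show m' = a * b from hab]; exact mul_mem (le_sup_left (a := A) ha) (le_sup_right (b := Subgroup.zpowers b) (Subgroup.mem_zpowers b))
      have hord : orderOf m' ∣ orderOf b := by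
        have h1 : orderOf m' ∣ Nat.card A * orderOf b := hKcard ▸ Subgroup.orderOf_dvd_natCard K hm'K
        have h2 : (orderOf m').Coprime (Nat.card A) :=
          Nat.Coprime.of_dvd_left (orderOf_dvd_of_pow_eq_one hm'B) C.cop.symm
        exact h2.dvd_of_dvd_mul_left h1
      obtain ⟨k, hk⟩ := (CfsgLib.hall_main (G := K) (m := orderOf b) (n := Nat.card A) (by rw [hKcard, mul_comm])
        hcop'.symm).2 ((Subgroup.zpowers b).subgroupOf K) (Subgroup.zpowers ⟨m', hm'K⟩)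
        (by rw [Nat.card_congr (Subgroup.subgroupOfEquivOfLe le_sup_right).toEquiv, Nat.card_zpowers])
        (by rw [Nat.card_zpowers, Subgroup.orderOf_mk]; exact hord)
      have hmem := hk (Subgroup.smul_mem_pointwise_smul _ _ _ (Subgroup.mem_zpowers (⟨m', hm'K⟩ : K)))
      rw [MulAut.smul_def, MulAut.conj_apply, Subgroup.mem_subgroupOf] at hmem
      push_cast at hmem
      obtain ⟨a', ha', c, hc, hkac⟩ := hKmem (k : G)⁻¹ (inv_mem k.2)
      have hk' : (k : G) = c⁻¹ * a'⁻¹ := by rw [← mul_inv_rev, ← hkac, inv_inv]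
      refine ⟨a', ha', ?_⟩
      have := mul_mem (mul_mem hc hmem) (inv_mem hc)
      rw [hk'] at this
      exact Subgroup.zpowers_le.2 hb (by simpa [mul_assoc] using this)
    set w := a0⁻¹ * m' * a0 with hwdef
    have hw1 : w ≠ 1 := fun e => hm'1 (by
      have : m' = a0 * w * a0⁻¹ := by rw [hwdef]; group
      rw [this, e]; group)
    have hwM : w ∈ M := mul_mem (mul_mem (inv_mem (Subgroup.le_normalizer ha0)) (pow_mem hmM _)) (Subgroup.le_normalizer ha0)
    obtain ⟨⟨v, hv⟩, hv1⟩ := Subgroup.ne_bot_iff_exists_ne_one.1 hV1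
    have hvne : v ≠ 1 := fun e => hv1 (Subtype.ext e)
    set v0 := a0⁻¹ * v * a0 with hv0
    have hv0A : v0 ∈ A := mul_mem (mul_mem (inv_mem ha0) (hVA hv)) ha0
    have hv01 : v0 ≠ 1 := fun e => hvne (by
      have : v = a0 * v0 * a0⁻¹ := by rw [hv0]; group
      rw [this, e]; group)
    have hcomm : v0 * w = w * v0 := by
      have hc : v * m' = m' * v := Subgroup.mem_centralizer_iff.1 (pow_mem hmR (Nat.card A)) v hv
      calc v0 * w = a0⁻¹ * (v * m') * a0 := by rw [hv0, hwdef]; group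
        _ = a0⁻¹ * (m' * v) * a0 := by rw [hc]
        _ = w * v0 := by rw [hv0, hwdef]; group
    have hv0B := C.centralizer_le hw hwM hw1 (Subgroup.mem_centralizer_singleton_iff.2 hcomm)
    refine hVb fun g hg => ?_
    have hgc : (a0⁻¹ * g * a0) ∈ M := C.centralizer_le' hv0A hv0B hv01 (Subgroup.mem_centralizer_singleton_iff.2 (by
      have hc : v * g = g * v := Subgroup.mem_centralizer_iff.1 hg v hv
      calc a0⁻¹ * g * a0 * v0 = a0⁻¹ * (g * v) * a0 := by rw [hv0]; group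
        _ = a0⁻¹ * (v * g) * a0 := by rw [hc]
        _ = v0 * (a0⁻¹ * g * a0) := by rw [hv0]; group))
    have hh := mul_mem (mul_mem (Subgroup.le_normalizer ha0) hgc) (inv_mem (Subgroup.le_normalizer ha0))
    have e : a0 * (a0⁻¹ * g * a0) * a0⁻¹ = g := by group
    rwa [e] at hh
  -- Frobenius' theorem in `R / (A ∩ V ∩ R)`
  set K := A.subgroupOf R with hK
  set Z := V.subgroupOf R with hZ
  have hZc : ∀ x ∈ Z, ∀ r : R, r * x = x * r := fun x hx r => Subtype.ext
    (Subgroup.mem_centralizer_iff.1 r.2 _ (Subgroup.mem_subgroupOf.1 hx)).symm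
  haveI hZn : Z.Normal := ⟨fun x hx g => by rw [hZc x hx g, mul_inv_cancel_right]; exact hx⟩
  have hZK : Z ≤ K := fun x hx => Subgroup.mem_subgroupOf.2 (hVA (Subgroup.mem_subgroupOf.1 hx))
  set f := QuotientGroup.mk' Z with hfdef
  have hpre : ∀ x : R, f x ∈ K.map f → x ∈ K := by
    rintro x ⟨k, hk, e⟩
    have : k⁻¹ * x ∈ Z := QuotientGroup.eq.1 e
    simpa using mul_mem hk (hZK this)
  have hfr : IsFrobeniusComplement (K.map f) := by
    refine ⟨fun e => ?_, fun e => ?_, fun g hg => ?_⟩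
    · obtain ⟨z, hz, hz1, hzc⟩ := C.A_ne_bot
      have hmem : f ⟨z, hzR z hz hzc⟩ ∈ K.map f := ⟨_, Subgroup.mem_subgroupOf.2 hz, rfl⟩
      rw [e, Subgroup.mem_bot] at hmem
      exact hzV z hz hzc hz1 (Subgroup.mem_subgroupOf.1 ((QuotientGroup.eq_one_iff _).1 hmem))
    · refine hVb fun g hg => ?_
      have hmem : f ⟨g, hg⟩ ∈ K.map f := e ▸ Subgroup.mem_top _
      exact Subgroup.le_normalizer (Subgroup.mem_subgroupOf.1 (hpre _ hmem))
    · obtain ⟨x, rfl⟩ := QuotientGroup.mk'_surjective Z g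
      rw [Subgroup.eq_bot_iff_forall]
      intro q hq
      obtain ⟨hq1, hq2⟩ := Subgroup.mem_inf.1 hq
      obtain ⟨k, hk, rfl⟩ := hq1
      by_contra hne
      have hkV : (k : G) ∉ V := fun h => hne ((QuotientGroup.eq_one_iff k).2 (Subgroup.mem_subgroupOf.2 h))
      have hxk : x⁻¹ * k * x ∈ K := by
        refine hpre _ ?_
        have := Subgroup.mem_pointwise_smul_iff_inv_smul_mem.1 hq2
        rw [← map_inv, MulAut.smul_def, MulAut.conj_apply, inv_inv] at this
        rw [map_mul, map_mul, map_inv]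
        exact this
      have hU : V ⊔ Subgroup.zpowers (k : G) ≤ A :=
        sup_le hVA (Subgroup.zpowers_le.2 (Subgroup.mem_subgroupOf.1 hk))
      have hlt : V < V ⊔ Subgroup.zpowers (k : G) := lt_of_le_of_ne le_sup_left fun e =>
        hkV (by rw [e]; exact le_sup_right (b := Subgroup.zpowers (k : G)) (Subgroup.mem_zpowers _))
      have hC := good _ hU hlt
      have hxM : (x : G) ∈ M := by
        refine C.mem_normalizer_of_conj fun z hz hzc => ?_
        have hconj : (x : G) * z * (x : G)⁻¹ ∈ M := by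
          refine hC (Subgroup.mem_centralizer_iff.2 ?_)
          intro v hv
          have hle : V ⊔ Subgroup.zpowers (k : G) ≤ Subgroup.centralizer ({(x : G) * z * (x : G)⁻¹} : Set G) := by
            refine sup_le (fun u hu => Subgroup.mem_centralizer_singleton_iff.2 ?_) (Subgroup.zpowers_le.2 ?_)
            · have hux : u * x = x * u := Subgroup.mem_centralizer_iff.1 x.2 u hu
              have hux' : u * (x : G)⁻¹ = (x : G)⁻¹ * u := (Commute.inv_right hux).eq
              calc u * (x * z * (x : G)⁻¹) = (u * x) * z * (x : G)⁻¹ := by group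
                _ = x * (u * z) * (x : G)⁻¹ := by rw [hux]; group
                _ = x * z * (u * (x : G)⁻¹) := by rw [hzc u (hVA hu)]; group
                _ = x * z * (x : G)⁻¹ * u := by rw [hux']; group
            · rw [Subgroup.mem_centralizer_singleton_iff]
              have hk' : ((x⁻¹ * k * x : R) : G) ∈ A := Subgroup.mem_subgroupOf.1 hxk
              push_cast at hk'
              calc (k : G) * (x * z * (x : G)⁻¹) = x * (((x : G)⁻¹ * k * x) * z) * (x : G)⁻¹ := by group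
                _ = x * (z * ((x : G)⁻¹ * k * x)) * (x : G)⁻¹ := by rw [hzc _ hk']
                _ = x * z * (x : G)⁻¹ * k := by group
          exact Subgroup.mem_centralizer_singleton_iff.1 (hle hv)
        refine C.mem_A_of_normalizer hconj (k := Nat.card A) ?_ C.cop
        rw [conj_pow, show z ^ Nat.card A = 1 from orderOf_dvd_iff_pow_eq_one.1 (Subgroup.orderOf_dvd_natCard A hz),
          mul_one, mul_inv_cancel]
      exact hg ⟨x, Subgroup.mem_subgroupOf.2 (hRM x x.2 hxM), rfl⟩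
  obtain ⟨N, -, hNn, hNc⟩ := CfsgLib.Frob.exists_kernel hfr
  have hNcard : Nat.card N = (K.map f).index := hNc.index_eq_card.symm
  have hcop : (Nat.card (K.map f)).Coprime (Nat.card N) := hNcard ▸ CfsgLib.Frob.coprime_index hfr
  set N' := N.comap f with hN'
  -- `z ∉ V`
  have hdvdK : ∀ p : ℕ, p.Prime → p ∣ Nat.card A → p ∣ Nat.card (K.map f) := by
    intro p hp hpd
    haveI := Fact.mk hp
    obtain ⟨z, hz, hzc, hzo⟩ := exists_central C.nilA hp hpd
    have hz1 : z ≠ 1 := fun e => hp.ne_one (by rw [← hzo, e, orderOf_one])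
    have hmem : f ⟨z, hzR z hz hzc⟩ ∈ K.map f := ⟨_, Subgroup.mem_subgroupOf.2 hz, rfl⟩
    have hne : f ⟨z, hzR z hz hzc⟩ ≠ 1 := fun e =>
      hzV z hz hzc hz1 (Subgroup.mem_subgroupOf.1 ((QuotientGroup.eq_one_iff _).1 e))
    have ho : orderOf (f ⟨z, hzR z hz hzc⟩) = p := by
      refine orderOf_eq_prime ?_ hne
      rw [← map_pow, show (⟨z, hzR z hz hzc⟩ : R) ^ p = 1 from Subtype.ext (by simp [← hzo, pow_orderOf_eq_one]), map_one]
    exact ho ▸ Subgroup.orderOf_dvd_natCard _ hmem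
  have hN1 : Nat.card N ≠ 1 := by
    rw [hNcard, Ne, Subgroup.index_eq_one]
    exact hfr.2.1
  obtain ⟨q, hq, hqN⟩ := Nat.exists_prime_and_dvd hN1
  have hqA : ¬ q ∣ Nat.card A := fun h => hq.not_dvd_one (hcop ▸ Nat.dvd_gcd (hdvdK q hq h) hqN)
  haveI := Fact.mk hq
  obtain ⟨p, hp, hpd, -⟩ := C.otherA 0
  haveI := Fact.mk hp
  obtain ⟨z, hz, hzc, hzo⟩ := exists_central C.nilA hp hpd
  have hz1 : z ≠ 1 := fun e => hp.ne_one (by rw [← hzo, e, orderOf_one])
  -- a Sylow subgroup of `N'` normalised by a conjugate of `z`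
  haveI : N'.Normal := hNn.comap f
  obtain ⟨Q⟩ : Nonempty (Sylow q N') := inferInstance
  have hsup := Q.normalizer_sup_eq_top
  set NQ := Subgroup.normalizer (((Q : Subgroup N').map N'.subtype : Subgroup R) : Set R) with hNQ
  have hZQ : Z ≤ NQ := fun x hx => Subgroup.centralizer_le_normalizer _
    (Subgroup.mem_centralizer_iff.2 fun y _ => hZc x hx y)
  have hidx : ¬ p ∣ NQ.index := by
    have h1 : NQ.index = NQ.relIndex N' := by
      have e1 : N'.relIndex NQ = N'.index := by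
        rw [← Subgroup.relIndex_sup_right (H := NQ) (K := N'), hsup, Subgroup.relIndex_top_right]
      have e2 : (NQ ⊓ N').index = N'.index * NQ.index := by
        rw [← Subgroup.relIndex_mul_index (inf_le_left : NQ ⊓ N' ≤ NQ), Subgroup.inf_relIndex_left, e1]
      have e3 : (NQ ⊓ N').index = NQ.relIndex N' * N'.index := by
        rw [← Subgroup.relIndex_mul_index (inf_le_right : NQ ⊓ N' ≤ N'), Subgroup.inf_relIndex_right]
      rw [e2, mul_comm] at e3
      exact Nat.eq_of_mul_eq_mul_right (Nat.pos_of_ne_zero Subgroup.index_ne_zero_of_finite) e3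
    have h2 : NQ.relIndex N' ∣ Z.relIndex N' :=
      Subgroup.relIndex_dvd_of_le_left _ hZQ
    have hZN : Z ≤ N' := fun x hx => by
      show f x ∈ N
      rw [show f x = 1 from (QuotientGroup.eq_one_iff x).2 hx]; exact one_mem N
    have h3 : Z.relIndex N' = Nat.card N := by
      have e := (Z.subgroupOf N').card_mul_index
      rw [Nat.card_congr (Subgroup.subgroupOfEquivOfLe hZN).toEquiv] at e
      have e' : Nat.card N' = Nat.card Z * Nat.card N := CfsgLib.card_comap_mk Z N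
      rw [e'] at e
      exact Nat.eq_of_mul_eq_mul_left Nat.card_pos e
    intro h
    exact hp.not_dvd_one (hcop ▸ Nat.dvd_gcd (hdvdK p hp hpd) ((h1 ▸ h).trans (h2.trans (dvd_of_eq h3))))
  obtain ⟨P⟩ : Nonempty (Sylow p NQ) := inferInstance
  have hPcard : Nat.card ((P : Subgroup NQ).map NQ.subtype) = p ^ (Nat.card R).factorization p := by
    rw [← Nat.card_congr ((P : Subgroup NQ).equivMapOfInjective NQ.subtype NQ.subtype_injective).toEquiv,
      P.card_eq_multiplicity, ← NQ.card_mul_index, Nat.factorization_mul Nat.card_pos.ne'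
        Subgroup.index_ne_zero_of_finite, Finsupp.add_apply, Nat.factorization_eq_zero_of_not_dvd hidx, add_zero]
  let P' : Sylow p R := Sylow.ofCard ((P : Subgroup NQ).map NQ.subtype) hPcard
  have hzp : IsPGroup p (Subgroup.zpowers (⟨z, hzR z hz hzc⟩ : R)) := IsPGroup.of_card (n := 1) (by
    rw [Nat.card_zpowers, Subgroup.orderOf_mk, hzo, pow_one])
  obtain ⟨P2, hP2⟩ := hzp.exists_le_sylow
  obtain ⟨g, hg⟩ := MulAction.exists_smul_eq R P2 P'
  have hzmem : g * ⟨z, hzR z hz hzc⟩ * g⁻¹ ∈ NQ := by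
    have h1 : g * ⟨z, hzR z hz hzc⟩ * g⁻¹ ∈ ((g • P2 : Sylow p R) : Subgroup R) := by
      rw [Sylow.coe_subgroup_smul]
      exact Subgroup.smul_mem_pointwise_smul _ _ _ (hP2 (Subgroup.mem_zpowers _))
    rw [hg] at h1
    exact Subgroup.map_subtype_le _ h1
  -- push to `G`
  let Qg : Subgroup G := (((Q : Subgroup N').map N'.subtype).map (MulAut.conj g⁻¹).toMonoidHom).map R.subtype
  have hQg : IsPGroup q Qg := ((Q.2.map _).map _).map _
  have hQne : Qg ≠ ⊥ := by
    intro e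
    rw [Subgroup.map_eq_bot_iff_of_injective _ R.subtype_injective,
      Subgroup.map_eq_bot_iff_of_injective _ (MulAut.conj g⁻¹).injective,
      Subgroup.map_eq_bot_iff_of_injective _ N'.subtype_injective] at e
    refine Q.ne_bot_of_dvd_card ?_ e
    refine hqN.trans ⟨Nat.card Z, ?_⟩
    rw [hN', hfdef, CfsgLib.card_comap_mk, mul_comm]
  have hqB : q ∣ Nat.card B := by
    have : q ∣ Nat.card G := hqN.trans ((Subgroup.card_subgroup_dvd_card N).trans
      ((Z.card_quotient_dvd_card).trans (Subgroup.card_subgroup_dvd_card R)))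
    rw [C.card_G] at this
    exact ((Nat.Prime.dvd_mul hq).1 this).resolve_left hqA
  refine hQne (C.no_norm hz hzc hz1 hqB hQg ?_)
  rw [Subgroup.mem_normalizer_iff]
  intro x
  have hn := Subgroup.mem_normalizer_iff.1 hzmem
  set zr : R := ⟨z, hzR z hz hzc⟩ with hzr
  constructor
  · rintro ⟨_, ⟨y, hy, rfl⟩, rfl⟩
    refine ⟨zr * (g⁻¹ * y * g) * zr⁻¹, ⟨(g * zr * g⁻¹) * y * (g * zr * g⁻¹)⁻¹, (hn y).1 hy, ?_⟩, ?_⟩
    · simp [mul_assoc]
    · simp [zr, mul_assoc]
  · rintro ⟨_, ⟨y, hy, rfl⟩, e⟩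
    refine ⟨zr⁻¹ * (g⁻¹ * y * g) * zr, ⟨(g * zr * g⁻¹)⁻¹ * y * (g * zr * g⁻¹), (hn _).2 (by
      simp only [SetLike.mem_coe] at hy ⊢
      simpa [mul_assoc] using hy), ?_⟩, ?_⟩
    · simp [mul_assoc]
    · simp only [Subgroup.coe_subtype, MulEquiv.coe_toMonoidHom, MulAut.conj_apply, inv_inv] at e
      push_cast at e ⊢
      show z⁻¹ * ((g : G)⁻¹ * (y : G) * g) * z = x
      rw [e]; group

theorem B_not_le : ¬ B ≤ Subgroup.normalizer (A : Set G) := fun h => by
  obtain ⟨z, hz, hz1, -⟩ := C.A_ne_bot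
  have htop : Subgroup.normalizer (A : Set G) = ⊤ := by
    rw [eq_top_iff]
    intro g _
    obtain ⟨a, ha, b, hb, rfl⟩ := C.prod g
    exact mul_mem (Subgroup.le_normalizer ha) (h hb)
  rcases C.normal_triv (Subgroup.normalizer_eq_top_iff.1 htop) with e | e
  · exact hz1 (Subgroup.mem_bot.1 (e ▸ hz))
  · haveI := C.nilA
    haveI : Group.IsNilpotent G := Group.nilpotent_of_mulEquiv ((MulEquiv.subgroupCongr e).trans Subgroup.topEquiv)
    exact C.not_solvable inferInstance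

theorem card_le : Nat.card A ≤ Nat.card B := by
  obtain ⟨b, hb, hbM⟩ := SetLike.not_le_iff_exists.1 C.B_not_le
  by_contra hlt
  let f : A × A → G := fun x => (x.1 : G) * (b * x.2 * b⁻¹)
  have hinj : Function.Injective f := by
    intro x y h
    have hmem : b⁻¹ * ((y.1 : G)⁻¹ * x.1) * b = (y.2 : G) * (x.2 : G)⁻¹ := by
      have h' : (x.1 : G) * (b * x.2 * b⁻¹) = y.1 * (b * y.2 * b⁻¹) := h
      have h1 : (y.1 : G)⁻¹ * x.1 = (b * y.2 * b⁻¹) * (b * x.2 * b⁻¹)⁻¹ := by
        rw [eq_mul_inv_iff_mul_eq, mul_assoc, h', inv_mul_cancel_left]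
      rw [h1]; group
    set u := (y.1 : G)⁻¹ * x.1 with hu
    have huA : u ∈ A := mul_mem (inv_mem y.1.2) x.1.2
    have hu' : b⁻¹ * u * b ∈ A := hmem ▸ mul_mem y.2.2 (inv_mem x.2.2)
    by_cases hu1 : u = 1
    · have e1 : x.1 = y.1 := Subtype.ext (inv_mul_eq_one.1 (hu ▸ hu1)).symm
      refine Prod.ext e1 (Subtype.ext ?_)
      rw [hu1, mul_one, inv_mul_cancel, eq_comm, mul_inv_eq_one] at hmem
      exact hmem.symm
    · exfalso
      apply hbM
      refine C.mem_normalizer_of_conj fun z hz hzc => ?_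
      have hconj : b * z * b⁻¹ ∈ Subgroup.normalizer (A : Set G) := by
        refine C.centralizer_sub_le (W := Subgroup.zpowers u) (Subgroup.zpowers_le.2 huA) (by simpa using hu1)
          (Subgroup.mem_centralizer_iff.2 fun v hv => ?_)
        obtain ⟨i, rfl⟩ := Subgroup.mem_zpowers_iff.1 hv
        refine (Commute.zpow_left ?_ i).eq
        calc u * (b * z * b⁻¹) = b * ((b⁻¹ * u * b) * z) * b⁻¹ := by group
          _ = b * (z * (b⁻¹ * u * b)) * b⁻¹ := by rw [hzc _ hu']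
          _ = b * z * b⁻¹ * u := by group
      refine C.mem_A_of_normalizer hconj (k := Nat.card A) ?_ C.cop
      rw [conj_pow, show z ^ Nat.card A = 1 from orderOf_dvd_iff_pow_eq_one.1 (Subgroup.orderOf_dvd_natCard A hz),
        mul_one, mul_inv_cancel]
  have hle := Nat.card_le_card_of_injective f hinj
  rw [Nat.card_prod, C.card_G] at hle
  have := Nat.le_of_mul_le_mul_left hle Nat.card_pos
  omega

theorem false_of : False := by
  have e := le_antisymm C.card_le C.symm.card_le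
  have hc := C.cop
  rw [← e, Nat.coprime_self] at hc
  obtain ⟨p, hp, hpd, -⟩ := C.otherA 0
  exact hp.not_dvd_one (hc ▸ hpd)

end MinCex

/-- A prime power factor gives a class of prime power size. -/
theorem false_of_prime_pow [IsSimpleGroup G] (hns : ¬ Group.IsSolvable G) {A B : Subgroup G}
    (hB : Group.IsNilpotent B) (hBne : B ≠ ⊥) (hcard : Nat.card G = Nat.card A * Nat.card B)
    {p k : ℕ} (hp : p.Prime) (hA : Nat.card A = p ^ k) : False := by
  haveI := hB
  have hne := inf_center_ne_bot_of_nilpotent (G := B) (N := ⊤) (fun e => by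
    haveI : Nontrivial B := (Subgroup.nontrivial_iff_ne_bot B).2 hBne
    exact top_ne_bot e)
  rw [top_inf_eq] at hne
  obtain ⟨⟨y, hy⟩, hy1⟩ := Subgroup.ne_bot_iff_exists_ne_one.1 hne
  have hy1' : (y : G) ≠ 1 := fun e => hy1 (Subtype.ext (Subtype.ext e))
  have hle : B ≤ Subgroup.centralizer ({(y : G)} : Set G) := fun b hb =>
    Subgroup.mem_centralizer_singleton_iff.2 (congrArg Subtype.val (Subgroup.mem_center_iff.1 hy ⟨b, hb⟩))
  have hidx : B.index = p ^ k := by
    have h := B.card_mul_index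
    rw [hcard, hA, mul_comm] at h
    exact Nat.eq_of_mul_eq_mul_right Nat.card_pos h
  obtain ⟨i, -, hi⟩ := (Nat.dvd_prime_pow hp).1 (hidx ▸ Subgroup.index_dvd_of_le hle)
  haveI := Fact.mk (CfsgLib.CharTheory.prime_card_of_simple_class_prime_pow hp hy1' hi)
  haveI : IsCyclic G := isCyclic_of_prime_card rfl
  exact hns (isSolvable_of_comm fun a b => (IsCyclic.commGroup (α := G)).mul_comm a b)

/-- **Wielandt.** A product of two nilpotent subgroups of coprime orders is solvable. -/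
theorem isSolvable : ∀ (n : ℕ) {G : Type u} [Group G] [Finite G], Nat.card G = n → ∀ (A B : Subgroup G),
    Group.IsNilpotent A → Group.IsNilpotent B → (Nat.card A).Coprime (Nat.card B) →
    (∀ g : G, ∃ a ∈ A, ∃ b ∈ B, g = a * b) → Group.IsSolvable G := by
  intro n
  induction n using Nat.strong_induction_on with
  | _ n ih =>
  intro G _ _ hn A B hA hB hcop hAB
  by_contra hns
  rcases subsingleton_or_nontrivial G with hs | hnt
  · exact hns (isSolvable_of_comm fun a b => Subsingleton.elim _ _)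
  have proper : ∀ H : Subgroup G, H ≠ ⊤ → (∀ h ∈ H, ∃ a ∈ A ⊓ H, ∃ b ∈ B ⊓ H, h = a * b) → Group.IsSolvable H := by
    intro H hH hf
    have hlt : Nat.card H < n := hn ▸ lt_of_le_of_ne (Subgroup.card_le_card_group H)
      (fun e => hH (Subgroup.eq_top_of_card_eq _ e))
    let inc : ∀ C : Subgroup G, C.subgroupOf H →* C := fun C =>
      MonoidHom.mk' (fun x => ⟨((x : H) : G), Subgroup.mem_subgroupOf.1 x.2⟩) (fun _ _ => rfl)
    have hinc : ∀ C : Subgroup G, Function.Injective (inc C) := fun C x y e =>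
      Subtype.ext (Subtype.ext (congrArg Subtype.val e :))
    refine ih _ hlt rfl (A.subgroupOf H) (B.subgroupOf H) ?_ ?_ ?_ fun g => ?_
    · haveI := hA
      exact Group.nilpotent_of_mulEquiv (MonoidHom.ofInjective (hinc A)).symm
    · haveI := hB
      exact Group.nilpotent_of_mulEquiv (MonoidHom.ofInjective (hinc B)).symm
    · exact Nat.Coprime.of_dvd (Subgroup.card_dvd_of_injective _ (hinc A)) (Subgroup.card_dvd_of_injective _ (hinc B)) hcop
    · obtain ⟨a, ha, b, hb, e⟩ := hf g g.2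
      exact ⟨⟨a, (Subgroup.mem_inf.1 ha).2⟩, Subgroup.mem_subgroupOf.2 (Subgroup.mem_inf.1 ha).1,
        ⟨b, (Subgroup.mem_inf.1 hb).2⟩, Subgroup.mem_subgroupOf.2 (Subgroup.mem_inf.1 hb).1, Subtype.ext e⟩
  have hsimple : IsSimpleGroup G := by
    refine ⟨fun N hN => ?_⟩
    by_contra hc
    push Not at hc
    obtain ⟨hN0, hN1⟩ := hc
    haveI := hN
    have hq : Group.IsSolvable (G ⧸ N) := by
      refine ih _ ?_ rfl (A.map (QuotientGroup.mk' N)) (B.map (QuotientGroup.mk' N)) ?_ ?_ ?_ fun g => ?_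
      · rw [← hn, Subgroup.card_eq_card_quotient_mul_card_subgroup N]
        exact lt_mul_of_one_lt_right Nat.card_pos ((Subgroup.one_lt_card_iff_ne_bot N).2 hN0)
      · haveI := hA
        exact Group.nilpotent_of_surjective ((QuotientGroup.mk' N).subgroupMap A) ((QuotientGroup.mk' N).subgroupMap_surjective A)
      · haveI := hB
        exact Group.nilpotent_of_surjective ((QuotientGroup.mk' N).subgroupMap B) ((QuotientGroup.mk' N).subgroupMap_surjective B)
      · exact Nat.Coprime.of_dvd (A.card_map_dvd _) (B.card_map_dvd _) hcop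
      · obtain ⟨g, rfl⟩ := QuotientGroup.mk'_surjective N g
        obtain ⟨a, ha, b, hb, rfl⟩ := hAB g
        exact ⟨_, ⟨a, ha, rfl⟩, _, ⟨b, hb, rfl⟩, map_mul _ _ _⟩
    have hNs : Group.IsSolvable N := by
      have key : ∀ (C D : Subgroup G), (∀ g : G, ∃ c ∈ C, ∃ d ∈ D, g = c * d) →
          ∀ x ∈ C ⊔ N, ∃ c ∈ C ⊓ (C ⊔ N), ∃ d ∈ D ⊓ (C ⊔ N), x = c * d := by
        intro C D h x hx
        obtain ⟨c, hc, d, hd, rfl⟩ := h x
        have hcK : c ∈ C ⊔ N := le_sup_left (a := C) hc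
        exact ⟨c, Subgroup.mem_inf.2 ⟨hc, hcK⟩, d, Subgroup.mem_inf.2 ⟨hd, by simpa using mul_mem (inv_mem hcK) hx⟩, rfl⟩
      by_cases h1 : A ⊔ N = ⊤
      · by_cases h2 : B ⊔ N = ⊤
        · exfalso
          have hAI : A.index ∣ Nat.card N := by
            have h := card_sup_dvd_mul A N
            rw [h1, Subgroup.card_top, ← A.card_mul_index] at h
            exact Nat.dvd_of_mul_dvd_mul_left Nat.card_pos h
          have hBI : B.index ∣ Nat.card N := by
            have h := card_sup_dvd_mul B N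
            rw [h2, Subgroup.card_top, ← B.card_mul_index] at h
            exact Nat.dvd_of_mul_dvd_mul_left Nat.card_pos h
          have hbot := Subgroup.inf_eq_bot_of_coprime hcop
          have hcardG : Nat.card G = Nat.card A * Nat.card B := by
            rw [← Nat.card_prod]
            symm
            refine Nat.card_eq_of_bijective (fun x : A × B => (x.1 : G) * x.2) ⟨fun x y h => ?_, fun g => ?_⟩
            · have h' : (x.1 : G) * x.2 = y.1 * y.2 := h
              have e1 : (y.1 : G)⁻¹ * x.1 = y.2 * (x.2 : G)⁻¹ := by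
                rw [eq_mul_inv_iff_mul_eq, mul_assoc, h', inv_mul_cancel_left]
              have e2 : (y.1 : G)⁻¹ * x.1 = 1 := Subgroup.mem_bot.1 (hbot ▸ Subgroup.mem_inf.2
                ⟨mul_mem (inv_mem y.1.2) x.1.2, e1 ▸ mul_mem y.2.2 (inv_mem x.2.2)⟩)
              have e3 : x.1 = y.1 := Subtype.ext (inv_mul_eq_one.1 e2).symm
              exact Prod.ext e3 (Subtype.ext (mul_left_cancel (by rw [e3] at h'; exact h')))
            · obtain ⟨a, ha, b, hb, e⟩ := hAB g
              exact ⟨(⟨a, ha⟩, ⟨b, hb⟩), e.symm⟩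
          have iA : A.index = Nat.card B := Nat.eq_of_mul_eq_mul_left Nat.card_pos (A.card_mul_index.trans hcardG)
          have iB : B.index = Nat.card A := Nat.eq_of_mul_eq_mul_right Nat.card_pos
            (by rw [mul_comm]; exact B.card_mul_index.trans hcardG)
          rw [iA] at hAI; rw [iB] at hBI
          exact hN1 (Subgroup.eq_top_of_card_eq _ (Nat.dvd_antisymm (Subgroup.card_subgroup_dvd_card N)
            (hcardG ▸ hcop.mul_dvd_of_dvd_of_dvd hBI hAI)))
        · haveI := proper (B ⊔ N) h2 fun x hx => by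
            obtain ⟨b, hb, a, ha, e⟩ := key B A (fun g => by
              obtain ⟨a, ha, b, hb, e⟩ := hAB g⁻¹
              exact ⟨b⁻¹, inv_mem hb, a⁻¹, inv_mem ha, by rw [← mul_inv_rev, ← e, inv_inv]⟩) x⁻¹ (inv_mem hx)
            exact ⟨a⁻¹, inv_mem ha, b⁻¹, inv_mem hb, by rw [← mul_inv_rev, ← e, inv_inv]⟩
          exact Group.isSolvable_of_isSolvable_injective (f := Subgroup.inclusion (le_sup_right : N ≤ B ⊔ N))
            (Subgroup.inclusion_injective _)
      · haveI := proper (A ⊔ N) h1 (key A B hAB)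
        exact Group.isSolvable_of_isSolvable_injective (f := Subgroup.inclusion (le_sup_right : N ≤ A ⊔ N))
          (Subgroup.inclusion_injective _)
    exact hns (Group.isSolvable_of_ker_le_range N.subtype (QuotientGroup.mk' N) (by simp))
  haveI := hsimple
  have hA0 : A ≠ ⊥ := fun e => by
    haveI := hB
    have hBt : B = ⊤ := eq_top_iff.2 fun g _ => by
      obtain ⟨a, ha, b, hb, rfl⟩ := hAB g
      rw [e, Subgroup.mem_bot] at ha
      simpa [ha] using hb
    haveI : Group.IsNilpotent G := Group.nilpotent_of_mulEquiv ((MulEquiv.subgroupCongr hBt).trans Subgroup.topEquiv)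
    exact hns inferInstance
  have hB0 : B ≠ ⊥ := fun e => by
    haveI := hA
    have hBt : A = ⊤ := eq_top_iff.2 fun g _ => by
      obtain ⟨a, ha, b, hb, rfl⟩ := hAB g
      rw [e, Subgroup.mem_bot] at hb
      simpa [hb] using ha
    haveI : Group.IsNilpotent G := Group.nilpotent_of_mulEquiv ((MulEquiv.subgroupCongr hBt).trans Subgroup.topEquiv)
    exact hns inferInstance
  have hcardG : Nat.card G = Nat.card A * Nat.card B := by
    have hbot := Subgroup.inf_eq_bot_of_coprime hcop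
    rw [← Nat.card_prod]
    symm
    refine Nat.card_eq_of_bijective (fun x : A × B => (x.1 : G) * x.2) ⟨fun x y h => ?_, fun g => ?_⟩
    · have h' : (x.1 : G) * x.2 = y.1 * y.2 := h
      have e1 : (y.1 : G)⁻¹ * x.1 = y.2 * (x.2 : G)⁻¹ := by
        rw [eq_mul_inv_iff_mul_eq, mul_assoc, h', inv_mul_cancel_left]
      have e2 : (y.1 : G)⁻¹ * x.1 = 1 := Subgroup.mem_bot.1 (hbot ▸ Subgroup.mem_inf.2
        ⟨mul_mem (inv_mem y.1.2) x.1.2, e1 ▸ mul_mem y.2.2 (inv_mem x.2.2)⟩)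
      have e3 : x.1 = y.1 := Subtype.ext (inv_mul_eq_one.1 e2).symm
      exact Prod.ext e3 (Subtype.ext (mul_left_cancel (by rw [e3] at h'; exact h')))
    · obtain ⟨a, ha, b, hb, e⟩ := hAB g
      exact ⟨(⟨a, ha⟩, ⟨b, hb⟩), e.symm⟩
  have other : ∀ (A B : Subgroup G), Group.IsNilpotent B → A ≠ ⊥ → B ≠ ⊥ → Nat.card G = Nat.card A * Nat.card B →
      ∀ r : ℕ, ∃ p : ℕ, p.Prime ∧ p ∣ Nat.card A ∧ p ≠ r := by
    intro A B hB hA hB0 hc r
    by_contra hno
    push Not at hno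
    have h1 : Nat.card A ≠ 1 := fun e => hA (Subgroup.eq_bot_of_card_eq _ e)
    have hr : r.Prime := hno _ (Nat.minFac_prime h1) (Nat.minFac_dvd _) ▸ Nat.minFac_prime h1
    exact false_of_prime_pow hns hB hB0 hc hr (Nat.eq_prime_pow_of_unique_prime_dvd Nat.card_pos.ne'
      fun {d} hd hdd => hno d hd hdd)
  exact MinCex.false_of (A := A) (B := B) ⟨hsimple, hns, hA, hB, hcop, hAB, proper, other A B hB hA0 hB0 hcardG,
    other B A hA hB0 hA0 (hcardG.trans (mul_comm _ _))⟩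

end CfsgLib.ProductNilpotent
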