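/-
Products of two nilpotent subgroups are solvable (Kegel).

Kegel's lemma on subgroups permuting with all conjugates shows that in a minimal counterexample
`G = AB` every Sylow subgroup of the minimal normal subgroup lies in one of the factors.
-/
import Cfsg.Agent.Lib.Solvable.ProductNilpotent
import Cfsg.Agent.Lib.Products

set_option autoImplicit false

namespace CfsgLib.Kegel

open scoped Pointwise

universe u

section lemmas

variable {G : Type u} [Group G] [Finite G]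

/-- `Z X ⊆ X Z`. -/
def Perm (X Z : Subgroup G) : Prop := ∀ x ∈ X, ∀ z ∈ Z, ∃ x' ∈ X, ∃ z' ∈ Z, z * x = x' * z'

/-- `G = X Y`. -/
def Full (X Y : Subgroup G) : Prop := ∀ g : G, ∃ x ∈ X, ∃ y ∈ Y, g = x * y

theorem mem_conj {X : Subgroup G} {g x : G} : x ∈ X.map (MulAut.conj g).toMonoidHom ↔ g⁻¹ * x * g ∈ X := by
  constructor
  · rintro ⟨y, hy, rfl⟩; simpa [mul_assoc] using hy
  · intro h; exact ⟨_, h, by simp [mul_assoc]⟩

theorem full_conj {X Y : Subgroup G} (h : Full X Y) (k : G) : Full X (Y.map (MulAut.conj k).toMonoidHom) := by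
  intro g
  obtain ⟨x0, hx0, y0, hy0, rfl⟩ := h k
  obtain ⟨x, hx, y, hy, e⟩ := h (g * x0)
  refine ⟨x * x0⁻¹, mul_mem hx (inv_mem hx0), x0 * y * x0⁻¹, mem_conj.2 ?_, ?_⟩
  · have e2 : (x0 * y0)⁻¹ * (x0 * y * x0⁻¹) * (x0 * y0) = y0⁻¹ * y * y0 := by group
    rw [e2]
    exact mul_mem (mul_mem (inv_mem hy0) hy) hy0
  · calc g = g * x0 * x0⁻¹ := (mul_inv_cancel_right g x0).symm
      _ = x * y * x0⁻¹ := by rw [e]
      _ = x * x0⁻¹ * (x0 * y * x0⁻¹) := by group

theorem perm_sup {X X' Z : Subgroup G} (h : Perm X Z) (h' : Perm X' Z) : Perm (X ⊔ X') Z := by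
  intro w hw
  have hw' : w ∈ Submonoid.closure ((X : Set G) ∪ X') := by
    rw [← Subgroup.closure_toSubmonoid_of_finite, Subgroup.closure_union, Subgroup.closure_eq,
      Subgroup.closure_eq]
    exact hw
  induction hw' using Submonoid.closure_induction with
  | mem x hx =>
    intro z hz
    rcases hx with hx | hx
    · obtain ⟨x', hx', z', hz', e⟩ := h x hx z hz
      exact ⟨x', le_sup_left (a := X) hx', z', hz', e⟩
    · obtain ⟨x', hx', z', hz', e⟩ := h' x hx z hz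
      exact ⟨x', le_sup_right (b := X') hx', z', hz', e⟩
  | one => exact fun z hz => ⟨1, one_mem _, z, hz, by simp⟩
  | mul u v hu hv ihu ihv =>
    intro z hz
    have hu' : u ∈ X ⊔ X' := by
      rw [← Subgroup.closure_eq X, ← Subgroup.closure_eq X', ← Subgroup.closure_union]
      exact (Subgroup.closure_toSubmonoid_of_finite (s := (X : Set G) ∪ X')).ge hu
    have hv' : v ∈ X ⊔ X' := by
      rw [← Subgroup.closure_eq X, ← Subgroup.closure_eq X', ← Subgroup.closure_union]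
      exact (Subgroup.closure_toSubmonoid_of_finite (s := (X : Set G) ∪ X')).ge hv
    obtain ⟨u', hu'', z', hz', e⟩ := ihu hu' z hz
    obtain ⟨v', hv'', z'', hz'', e'⟩ := ihv hv' z' hz'
    exact ⟨u' * v', mul_mem hu'' hv'', z'', hz'', by rw [← mul_assoc, e, mul_assoc, e', ← mul_assoc]⟩

/-- **Kegel's lemma.** -/
theorem kegel {X Y : Subgroup G} (hp : ∀ g : G, Perm X (Y.map (MulAut.conj g).toMonoidHom)) (hne : ¬ Full X Y) :
    Subgroup.normalClosure (X : Set G) ≠ ⊤ ∨ Subgroup.normalClosure (Y : Set G) ≠ ⊤ := by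
  classical
  by_contra hcon
  push Not at hcon
  obtain ⟨hX, hY⟩ := hcon
  let S : Set (Subgroup G) := {X' | (∀ g : G, Perm X' (Y.map (MulAut.conj g).toMonoidHom)) ∧ ¬ Full X' Y ∧
    Subgroup.normalClosure (X' : Set G) = ⊤}
  obtain ⟨T, ⟨hTp, hTf, hTn⟩, hmax⟩ :=
    Set.Finite.exists_maximalFor (fun U : Subgroup G => Nat.card U) S (Set.toFinite S) ⟨X, hp, hne, hX⟩
  by_cases hn : ∀ g : G, ∀ y ∈ Y.map (MulAut.conj g).toMonoidHom, ∀ x ∈ T, y * x * y⁻¹ ∈ T
  · have htop : Subgroup.normalizer (T : Set G) = ⊤ := by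
      rw [eq_top_iff, ← hY]
      refine (Subgroup.closure_le _).2 fun w hw => ?_
      obtain ⟨v, hv, hc⟩ := Group.mem_conjugatesOfSet_iff.1 hw
      obtain ⟨g, rfl⟩ := isConj_iff.1 hc
      have hmem : g * v * g⁻¹ ∈ Y.map (MulAut.conj g).toMonoidHom := ⟨v, hv, rfl⟩
      rw [SetLike.mem_coe, Subgroup.mem_normalizer_iff]
      refine fun x => ⟨hn g _ hmem x, fun hx => ?_⟩
      simpa [mul_assoc] using hn g _ (inv_mem hmem) _ hx
    haveI : T.Normal := Subgroup.normalizer_eq_top_iff.1 htop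
    rw [Subgroup.normalClosure_eq_self] at hTn
    exact hTf fun g => ⟨g, hTn ▸ Subgroup.mem_top g, 1, one_mem Y, (mul_one g).symm⟩
  · push Not at hn
    obtain ⟨g, y, hy, x, hx, hyx⟩ := hn
    set Z := Y.map (MulAut.conj g).toMonoidHom with hZ
    set Ty := T.map (MulAut.conj y).toMonoidHom with hTy
    have hp' : ∀ h : G, Perm Ty (Y.map (MulAut.conj h).toMonoidHom) := by
      intro h a ha z hz
      rw [hTy, mem_conj] at ha
      rw [mem_conj] at hz
      have hz' : y⁻¹ * z * y ∈ Y.map (MulAut.conj (y⁻¹ * h)).toMonoidHom := by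
        rw [mem_conj]
        have e : (y⁻¹ * h)⁻¹ * (y⁻¹ * z * y) * (y⁻¹ * h) = h⁻¹ * z * h := by group
        rwa [e]
      obtain ⟨a', ha', z', hz'', e⟩ := hTp (y⁻¹ * h) _ ha _ hz'
      rw [mem_conj] at hz''
      refine ⟨y * a' * y⁻¹, ⟨a', ha', rfl⟩, y * z' * y⁻¹, mem_conj.2 ?_, ?_⟩
      · have e' : h⁻¹ * (y * z' * y⁻¹) * h = (y⁻¹ * h)⁻¹ * z' * (y⁻¹ * h) := by group
        rwa [e']
      · calc z * a = y * ((y⁻¹ * z * y) * (y⁻¹ * a * y)) * y⁻¹ := by group
          _ = y * (a' * z') * y⁻¹ := by rw [e]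
          _ = y * a' * y⁻¹ * (y * z' * y⁻¹) := by group
    have hlt : T < T ⊔ Ty := lt_of_le_of_ne le_sup_left fun e => hyx (by
      rw [e]; exact le_sup_right (b := Ty) ⟨x, hx, rfl⟩)
    have hncl : Subgroup.normalClosure ((T ⊔ Ty : Subgroup G) : Set G) = ⊤ := by
      rw [eq_top_iff, ← hTn]
      exact Subgroup.normalClosure_mono (SetLike.coe_subset_coe.2 le_sup_left)
    have hfull : ¬ Full (T ⊔ Ty) Y := by
      intro hf
      -- the product `T Z` is a submonoid containing both factors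
      let M : Submonoid G :=
        { carrier := {w | ∃ a ∈ T, ∃ z ∈ Z, w = a * z}
          one_mem' := ⟨1, one_mem T, 1, one_mem Z, (one_mul 1).symm⟩
          mul_mem' := by
            rintro _ _ ⟨a, ha, z, hz, rfl⟩ ⟨a', ha', z', hz', rfl⟩
            obtain ⟨a'', ha'', z'', hz'', e⟩ := hTp g a' ha' z hz
            refine ⟨a * a'', mul_mem ha ha'', z'' * z', mul_mem hz'' hz', ?_⟩
            calc a * z * (a' * z') = a * (z * a') * z' := by group
              _ = a * (a'' * z'') * z' := by rw [e]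
              _ = a * a'' * (z'' * z') := by group }
      have hle : ∀ w ∈ T ⊔ Ty, w ∈ M := by
        intro w hw
        have hw' : w ∈ Submonoid.closure ((T : Set G) ∪ Ty) := by
          rw [← Subgroup.closure_toSubmonoid_of_finite, Subgroup.closure_union, Subgroup.closure_eq,
            Subgroup.closure_eq]
          exact hw
        refine Submonoid.closure_le.2 ?_ hw'
        rintro v (hv | hv)
        · exact ⟨v, hv, 1, one_mem Z, (mul_one v).symm⟩
        · obtain ⟨a, ha, rfl⟩ := hv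
          exact M.mul_mem (M.mul_mem ⟨1, one_mem T, y, hy, (one_mul y).symm⟩ ⟨a, ha, 1, one_mem Z, (mul_one a).symm⟩)
            ⟨1, one_mem T, y⁻¹, inv_mem hy, (one_mul _).symm⟩
      refine hTf ?_
      have h1 : Full T Z := fun k => by
        obtain ⟨u, hu, v, hv, rfl⟩ := full_conj hf g k
        exact M.mul_mem (hle u hu) ⟨1, one_mem T, v, hv, (one_mul v).symm⟩
      intro k
      obtain ⟨a, ha, z, hz, e⟩ := full_conj h1 g⁻¹ k
      refine ⟨a, ha, z, ?_, e⟩
      rw [mem_conj, inv_inv, hZ, mem_conj] at hz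
      simpa [mul_assoc] using hz
    have hmem : (T ⊔ Ty) ∈ S := ⟨fun h => perm_sup (hTp h) (hp' h), hfull, hncl⟩
    exact hlt.ne (Subgroup.eq_of_le_of_card_ge hlt.le (hmax hmem (Subgroup.card_le_of_le hlt.le)))

/-- `|G| |A ∩ B| = |A| |B|` for `G = AB`. -/
theorem card_full {A B : Subgroup G} (h : Full A B) :
    Nat.card G * Nat.card (A ⊓ B : Subgroup G) = Nat.card A * Nat.card B := by
  choose a ha b hb e using h
  rw [← Nat.card_prod, ← Nat.card_prod]
  refine Nat.card_eq_of_bijective (fun p : G × (A ⊓ B : Subgroup G) =>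
    ((⟨a p.1 * p.2, mul_mem (ha _) (Subgroup.mem_inf.1 p.2.2).1⟩,
      ⟨(p.2 : G)⁻¹ * b p.1, mul_mem (inv_mem (Subgroup.mem_inf.1 p.2.2).2) (hb _)⟩) : A × B)) ⟨fun p q hpq => ?_, fun q => ?_⟩
  · obtain ⟨g, d⟩ := p
    obtain ⟨g', d'⟩ := q
    have h1 : a g * d = a g' * d' := congrArg Subtype.val (congrArg Prod.fst hpq)
    have h2 : (d : G)⁻¹ * b g = (d' : G)⁻¹ * b g' := congrArg Subtype.val (congrArg Prod.snd hpq)
    have hg : g = g' := by
      calc g = a g * d * ((d : G)⁻¹ * b g) := by rw [← mul_assoc, mul_inv_cancel_right, ← e]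
        _ = a g' * d' * ((d' : G)⁻¹ * b g') := by rw [h1, h2]
        _ = g' := by rw [← mul_assoc, mul_inv_cancel_right, ← e]
    subst hg
    exact Prod.ext rfl (Subtype.ext (mul_left_cancel h1))
  · obtain ⟨⟨x, hx⟩, ⟨y, hy⟩⟩ := q
    have hd1 : (a (x * y))⁻¹ * x = b (x * y) * y⁻¹ := by
      rw [eq_mul_inv_iff_mul_eq, mul_assoc]
      conv_lhs => arg 2; rw [e (x * y)]
      rw [inv_mul_cancel_left]
    refine ⟨(x * y, ⟨(a (x * y))⁻¹ * x, Subgroup.mem_inf.2 ⟨mul_mem (inv_mem (ha _)) hx,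
      hd1 ▸ mul_mem (hb _) (inv_mem hy)⟩⟩), Prod.ext (Subtype.ext (mul_inv_cancel_left _ _)) (Subtype.ext ?_)⟩
    show ((a (x * y))⁻¹ * x)⁻¹ * b (x * y) = y
    rw [hd1]; group

/-- The product of the Sylow subgroups of the factors contains a Sylow subgroup. -/
theorem exists_sylow {A B : Subgroup G} [Group.IsNilpotent A] [Group.IsNilpotent B] (hAB : Full A B)
    {p : ℕ} [hp : Fact p.Prime] (PA : Sylow p A) (PB : Sylow p B) :
    ∃ S : Sylow p G, (PA : Subgroup A).map A.subtype ≤ S ∧ (PB : Subgroup B).map B.subtype ≤ S ∧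
      ∀ x ∈ (S : Subgroup G), ∃ u ∈ (PA : Subgroup A).map A.subtype, ∃ v ∈ (PB : Subgroup B).map B.subtype,
        x = u * v := by
  set X := (PA : Subgroup A).map A.subtype with hX
  set Y := (PB : Subgroup B).map B.subtype with hY
  have hXn : ∀ a ∈ A, ∀ x ∈ X, a * x * a⁻¹ ∈ X := by
    rintro a ha _ ⟨x, hx, rfl⟩
    exact ⟨⟨a, ha⟩ * x * ⟨a, ha⟩⁻¹, Subgroup.Normal.conj_mem inferInstance x hx _, rfl⟩
  have hYn : ∀ a ∈ B, ∀ x ∈ Y, a * x * a⁻¹ ∈ Y := by
    rintro a ha _ ⟨x, hx, rfl⟩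
    exact ⟨⟨a, ha⟩ * x * ⟨a, ha⟩⁻¹, Subgroup.Normal.conj_mem inferInstance x hx _, rfl⟩
  obtain ⟨S0, hS0⟩ := (PA.2.map A.subtype).exists_le_sylow
  obtain ⟨S1, hS1⟩ := (PB.2.map B.subtype).exists_le_sylow
  obtain ⟨g, hg⟩ := MulAction.exists_smul_eq G S1 S0
  obtain ⟨a, ha, b, hb, rfl⟩ := hAB g
  refine ⟨a⁻¹ • S0, ?_, ?_, ?_⟩
  all_goals
    have hmem : ∀ x, x ∈ ((a⁻¹ • S0 : Sylow p G) : Subgroup G) ↔ a * x * a⁻¹ ∈ (S0 : Subgroup G) := fun x => by
      rw [Sylow.coe_subgroup_smul, Subgroup.mem_pointwise_smul_iff_inv_smul_mem, ← map_inv, inv_inv, MulAut.smul_def,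
        MulAut.conj_apply]
    have h1 : X ≤ ((a⁻¹ • S0 : Sylow p G) : Subgroup G) := fun x hx => (hmem x).2 (hS0 (hXn a ha x hx))
    have h2 : Y ≤ ((a⁻¹ • S0 : Sylow p G) : Subgroup G) := fun x hx => by
      rw [hmem]
      have := Subgroup.smul_mem_pointwise_smul _ (MulAut.conj (a * b)) _ (hS1 (hYn b⁻¹ (inv_mem hb) x hx))
      rw [← Sylow.coe_subgroup_smul, hg, MulAut.smul_def, MulAut.conj_apply] at this
      simpa [mul_assoc] using this
  · exact h1
  · exact h2
  · intro x hx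
    set S : Sylow p G := a⁻¹ • S0
    have key : Nat.card (S : Subgroup G) * Nat.card (X ⊓ Y : Subgroup G) ≤ Nat.card X * Nat.card Y := by
      obtain ⟨k, hk⟩ := ((PA.2.map A.subtype).to_le (inf_le_left : X ⊓ Y ≤ X)).exists_card_eq
      have hkd : p ^ k ∣ Nat.card (A ⊓ B : Subgroup G) := hk ▸
        Subgroup.card_dvd_of_le (inf_le_inf (Subgroup.map_subtype_le _) (Subgroup.map_subtype_le _))
      have hXc : Nat.card X = p ^ (Nat.card A).factorization p := by
        rw [← Nat.card_congr ((PA : Subgroup A).equivMapOfInjective A.subtype A.subtype_injective).toEquiv]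
        exact PA.card_eq_multiplicity
      have hYc : Nat.card Y = p ^ (Nat.card B).factorization p := by
        rw [← Nat.card_congr ((PB : Subgroup B).equivMapOfInjective B.subtype B.subtype_injective).toEquiv]
        exact PB.card_eq_multiplicity
      have hf := congrArg (fun n => n.factorization p) (card_full hAB)
      simp only [Nat.factorization_mul Nat.card_pos.ne' Nat.card_pos.ne', Finsupp.add_apply] at hf
      rw [hXc, hYc, S.card_eq_multiplicity, hk, ← pow_add, ← pow_add]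
      refine Nat.pow_le_pow_right hp.out.pos ?_
      have := (Nat.Prime.pow_dvd_iff_le_factorization hp.out Nat.card_pos.ne').1 hkd
      omega
    have hle : X ⊔ Y ≤ (S : Subgroup G) := sup_le h1 h2
    have h2' : Nat.card (X ⊔ Y : Subgroup G) * Nat.card (X ⊓ Y : Subgroup G) ≤ Nat.card X * Nat.card Y :=
      le_trans (Nat.mul_le_mul_right _ (Subgroup.card_le_of_le hle)) key
    have heq : X ⊔ Y = (S : Subgroup G) := Subgroup.eq_of_le_of_card_ge hle (Nat.le_of_mul_le_mul_right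
      (key.trans (CfsgLib.Products.card_mul_card_le X Y)) Nat.card_pos)
    have hx' : x ∈ Y ⊔ X := by rw [sup_comm, heq]; exact hx
    obtain ⟨u, hu, v, hv, e⟩ := CfsgLib.Products.exists_mul_of_card_eq (H := Y) (K := X)
      (by rw [sup_comm, inf_comm, mul_comm (Nat.card Y)]; exact h2') hx'
    exact ⟨u, hu, v, hv, e⟩

end lemmas

set_option maxHeartbeats 1000000 in
/-- **Kegel.** A product of two nilpotent subgroups is solvable. -/
theorem isSolvable : ∀ (n : ℕ) {G : Type u} [Group G] [Finite G], Nat.card G = n → ∀ (A B : Subgroup G),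
    Group.IsNilpotent A → Group.IsNilpotent B → Full A B → Group.IsSolvable G := by
  intro n
  induction n using Nat.strong_induction_on with
  | _ n ih =>
  intro G _ _ hn A B hA hB hAB
  classical
  haveI := hA
  haveI := hB
  by_contra hns
  haveI hnt : Nontrivial G := by
    rcases subsingleton_or_nontrivial G with hs | h
    · exact absurd (isSolvable_of_comm fun a b => Subsingleton.elim _ _) hns
    · exact h
  have proper : ∀ H : Subgroup G, H ≠ ⊤ → (∀ h ∈ H, ∃ a ∈ A ⊓ H, ∃ b ∈ B ⊓ H, h = a * b) → Group.IsSolvable H := by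
    intro H hH hf
    have hlt : Nat.card H < n := hn ▸ lt_of_le_of_ne (Subgroup.card_le_card_group H)
      (fun e => hH (Subgroup.eq_top_of_card_eq _ e))
    let inc : ∀ C : Subgroup G, C.subgroupOf H →* C := fun C =>
      MonoidHom.mk' (fun x => ⟨((x : H) : G), Subgroup.mem_subgroupOf.1 x.2⟩) (fun _ _ => rfl)
    have hinc : ∀ C : Subgroup G, Function.Injective (inc C) := fun C x y e =>
      Subtype.ext (Subtype.ext (congrArg Subtype.val e :))
    refine ih _ hlt rfl (A.subgroupOf H) (B.subgroupOf H) (Group.nilpotent_of_mulEquiv (MonoidHom.ofInjective (hinc A)).symm)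
      (Group.nilpotent_of_mulEquiv (MonoidHom.ofInjective (hinc B)).symm) fun g => ?_
    obtain ⟨a, ha, b, hb, e⟩ := hf g g.2
    exact ⟨⟨a, (Subgroup.mem_inf.1 ha).2⟩, Subgroup.mem_subgroupOf.2 (Subgroup.mem_inf.1 ha).1,
      ⟨b, (Subgroup.mem_inf.1 hb).2⟩, Subgroup.mem_subgroupOf.2 (Subgroup.mem_inf.1 hb).1, Subtype.ext e⟩
  have quot : ∀ M : Subgroup G, [M.Normal] → M ≠ ⊥ → Group.IsSolvable (G ⧸ M) := by
    intro M _ hM
    refine ih _ ?_ rfl (A.map (QuotientGroup.mk' M)) (B.map (QuotientGroup.mk' M))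
      (Group.nilpotent_of_surjective ((QuotientGroup.mk' M).subgroupMap A) ((QuotientGroup.mk' M).subgroupMap_surjective A))
      (Group.nilpotent_of_surjective ((QuotientGroup.mk' M).subgroupMap B) ((QuotientGroup.mk' M).subgroupMap_surjective B)) fun g => ?_
    · rw [← hn, Subgroup.card_eq_card_quotient_mul_card_subgroup M]
      exact lt_mul_of_one_lt_right Nat.card_pos ((Subgroup.one_lt_card_iff_ne_bot M).2 hM)
    · obtain ⟨g, rfl⟩ := QuotientGroup.mk'_surjective M g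
      obtain ⟨a, ha, b, hb, rfl⟩ := hAB g
      exact ⟨_, ⟨a, ha, rfl⟩, _, ⟨b, hb, rfl⟩, map_mul _ _ _⟩
  obtain ⟨N, hNn, -, hN0, hNmin⟩ := CfsgLib.exists_minimal_normal (N := (⊤ : Subgroup G)) top_ne_bot
  haveI := hNn
  have hNs : ¬ Group.IsSolvable N := fun h => by
    haveI := quot N hN0
    exact hns (Group.isSolvable_of_ker_le_range N.subtype (QuotientGroup.mk' N) (by simp))
  have key : ∀ (C D : Subgroup G), Full C D → ∀ x ∈ C ⊔ N, ∃ c ∈ C ⊓ (C ⊔ N), ∃ d ∈ D ⊓ (C ⊔ N), x = c * d := by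
    intro C D h x hx
    obtain ⟨c, hc, d, hd, rfl⟩ := h x
    have hcK : c ∈ C ⊔ N := le_sup_left (a := C) hc
    exact ⟨c, Subgroup.mem_inf.2 ⟨hc, hcK⟩, d, Subgroup.mem_inf.2 ⟨hd, by simpa using mul_mem (inv_mem hcK) hx⟩, rfl⟩
  have hBA : Full B A := fun g => by
    obtain ⟨a, ha, b, hb, e⟩ := hAB g⁻¹
    exact ⟨b⁻¹, inv_mem hb, a⁻¹, inv_mem ha, by rw [← mul_inv_rev, ← e, inv_inv]⟩
  have hAN : A ⊔ N = ⊤ := by
    by_contra h1
    haveI := proper (A ⊔ N) h1 (key A B hAB)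
    exact hNs (Group.isSolvable_of_isSolvable_injective (f := Subgroup.inclusion (le_sup_right : N ≤ A ⊔ N))
      (Subgroup.inclusion_injective _))
  have hBN : B ⊔ N = ⊤ := by
    by_contra h1
    haveI := proper (B ⊔ N) h1 fun x hx => by
      obtain ⟨b, hb, a, ha, e⟩ := key B A hBA x⁻¹ (inv_mem hx)
      exact ⟨a⁻¹, inv_mem ha, b⁻¹, inv_mem hb, by rw [← mul_inv_rev, ← e, inv_inv]⟩
    exact hNs (Group.isSolvable_of_isSolvable_injective (f := Subgroup.inclusion (le_sup_right : N ≤ B ⊔ N))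
      (Subgroup.inclusion_injective _))
  have hNA : ∀ g : G, ∃ k ∈ N, ∃ a ∈ A, g = k * a := fun g => by
    have hg : g ∈ (↑(N ⊔ A) : Set G) := by rw [sup_comm, hAN]; exact Subgroup.mem_top g
    rw [Subgroup.normal_mul] at hg
    obtain ⟨k, hk, a, ha, e⟩ := Set.mem_mul.1 hg
    exact ⟨k, hk, a, ha, e.symm⟩
  have hNB : ∀ g : G, ∃ k ∈ N, ∃ a ∈ B, g = k * a := fun g => by
    have hg : g ∈ (↑(N ⊔ B) : Set G) := by rw [sup_comm, hBN]; exact Subgroup.mem_top g
    rw [Subgroup.normal_mul] at hg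
    obtain ⟨k, hk, a, ha, e⟩ := Set.mem_mul.1 hg
    exact ⟨k, hk, a, ha, e.symm⟩
  have huniq : ∀ M : Subgroup G, M.Normal → M ≠ ⊥ → N ≤ M := by
    intro M hM hM0
    haveI := hM
    rcases eq_or_ne (N ⊓ M) ⊥ with h | h
    · exfalso
      haveI := quot N hN0
      haveI := quot M hM0
      have hinj : Function.Injective ((QuotientGroup.mk' N).prod (QuotientGroup.mk' M)) := by
        rw [← MonoidHom.ker_eq_bot_iff, MonoidHom.ker_prod, QuotientGroup.ker_mk', QuotientGroup.ker_mk']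
        exact h
      exact hns (Group.isSolvable_of_isSolvable_injective hinj)
    · haveI : (N ⊓ M).Normal := Subgroup.normal_inf_normal N M
      have := hNmin (N ⊓ M) inferInstance inf_le_left
      rcases this with h' | h'
      · exact absurd h' h
      · exact h' ▸ inf_le_right
  -- each Sylow subgroup of `N` lies in a factor
  have main : ∀ (p : ℕ) (hp : Fact p.Prime) (PA : Sylow p A) (PB : Sylow p B) (S : Sylow p G),
      (PA : Subgroup A).map A.subtype ≤ S → (PB : Subgroup B).map B.subtype ≤ S →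
      (∀ x ∈ (S : Subgroup G), ∃ u ∈ (PA : Subgroup A).map A.subtype, ∃ v ∈ (PB : Subgroup B).map B.subtype, x = u * v) →
      (S : Subgroup G) ⊓ N ≤ A ∨ (S : Subgroup G) ⊓ N ≤ B := by
    intro p hp PA PB S hXS hYS hS
    set X := (PA : Subgroup A).map A.subtype with hX
    set Y := (PB : Subgroup B).map B.subtype with hY
    have hXA : X ≤ A := Subgroup.map_subtype_le _
    have hYB : Y ≤ B := Subgroup.map_subtype_le _
    have hXn : ∀ a ∈ A, ∀ x ∈ X, a * x * a⁻¹ ∈ X := by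
      rintro a ha _ ⟨x, hx, rfl⟩
      exact ⟨⟨a, ha⟩ * x * ⟨a, ha⟩⁻¹, Subgroup.Normal.conj_mem inferInstance x hx _, rfl⟩
    have hYn : ∀ a ∈ B, ∀ x ∈ Y, a * x * a⁻¹ ∈ Y := by
      rintro a ha _ ⟨x, hx, rfl⟩
      exact ⟨⟨a, ha⟩ * x * ⟨a, ha⟩⁻¹, Subgroup.Normal.conj_mem inferInstance x hx _, rfl⟩
    let good : Set (Subgroup G) := {L | L.Normal ∧ N ≤ L ∧
      ∀ x ∈ (S : Subgroup G) ⊓ L, ∃ u ∈ X ⊓ L, ∃ v ∈ Y ⊓ L, x = u * v}
    have htop : (⊤ : Subgroup G) ∈ good := ⟨inferInstance, le_top, fun x hx => by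
      obtain ⟨u, hu, v, hv, e⟩ := hS x (Subgroup.mem_inf.1 hx).1
      exact ⟨u, Subgroup.mem_inf.2 ⟨hu, Subgroup.mem_top u⟩, v, Subgroup.mem_inf.2 ⟨hv, Subgroup.mem_top v⟩, e⟩⟩
    obtain ⟨L, ⟨hLn, hNL, hL⟩, hmin⟩ :=
      Set.Finite.exists_minimalFor (fun L : Subgroup G => Nat.card L) good (Set.toFinite _) ⟨⊤, htop⟩
    haveI := hLn
    by_cases hX0 : X ⊓ L = ⊥
    · refine Or.inr fun x hx => ?_
      obtain ⟨u, hu, v, hv, e⟩ := hL x (Subgroup.mem_inf.2 ⟨(Subgroup.mem_inf.1 hx).1, hNL (Subgroup.mem_inf.1 hx).2⟩)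
      rw [hX0, Subgroup.mem_bot] at hu
      rw [e, hu, one_mul]; exact hYB (Subgroup.mem_inf.1 hv).1
    by_cases hY0 : Y ⊓ L = ⊥
    · refine Or.inl fun x hx => ?_
      obtain ⟨u, hu, v, hv, e⟩ := hL x (Subgroup.mem_inf.2 ⟨(Subgroup.mem_inf.1 hx).1, hNL (Subgroup.mem_inf.1 hx).2⟩)
      rw [hY0, Subgroup.mem_bot] at hv
      rw [e, hv, mul_one]; exact hXA (Subgroup.mem_inf.1 hu).1
    exfalso
    set X' := (X ⊓ L).subgroupOf L with hX'
    set Y' := (Y ⊓ L).subgroupOf L with hY'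
    have hperm : ∀ g : L, Perm X' (Y'.map (MulAut.conj g).toMonoidHom) := by
      intro g x hx z hz
      rw [mem_conj] at hz
      obtain ⟨a, ha, b, hb, hab⟩ := hAB g
      rw [Subgroup.mem_subgroupOf, Subgroup.mem_inf] at hx hz
      push_cast at hz
      rw [hab] at hz
      have hzy : a⁻¹ * (z : G) * a ∈ Y ⊓ L := by
        refine Subgroup.mem_inf.2 ⟨?_, by simpa using hLn.conj_mem _ z.2 a⁻¹⟩
        have := hYn b hb _ hz.1
        simpa [mul_assoc] using this
      have hxa : a⁻¹ * (x : G) * a ∈ X ⊓ L := Subgroup.mem_inf.2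
        ⟨by simpa using hXn a⁻¹ (inv_mem ha) _ hx.1, by simpa using hLn.conj_mem _ x.2 a⁻¹⟩
      obtain ⟨u, hu, v, hv, e⟩ := hL ((a⁻¹ * (z : G) * a) * (a⁻¹ * (x : G) * a)) (Subgroup.mem_inf.2
        ⟨mul_mem (hYS (Subgroup.mem_inf.1 hzy).1) (hXS (Subgroup.mem_inf.1 hxa).1),
          mul_mem (Subgroup.mem_inf.1 hzy).2 (Subgroup.mem_inf.1 hxa).2⟩)
      refine ⟨⟨a * u * a⁻¹, hLn.conj_mem _ (Subgroup.mem_inf.1 hu).2 a⟩, ?_,
        ⟨a * v * a⁻¹, hLn.conj_mem _ (Subgroup.mem_inf.1 hv).2 a⟩, ?_, Subtype.ext ?_⟩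
      · exact Subgroup.mem_subgroupOf.2 (Subgroup.mem_inf.2 ⟨hXn a ha u (Subgroup.mem_inf.1 hu).1,
          hLn.conj_mem _ (Subgroup.mem_inf.1 hu).2 a⟩)
      · rw [mem_conj, Subgroup.mem_subgroupOf]
        push_cast
        rw [hab]
        refine Subgroup.mem_inf.2 ⟨?_, ?_⟩
        · have := hYn b⁻¹ (inv_mem hb) v (Subgroup.mem_inf.1 hv).1
          simpa [mul_assoc] using this
        · have := hLn.conj_mem _ (Subgroup.mem_inf.1 hv).2 b⁻¹
          simpa [mul_assoc] using this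
      · show (z : G) * x = a * u * a⁻¹ * (a * v * a⁻¹)
        calc (z : G) * x = a * ((a⁻¹ * (z : G) * a) * (a⁻¹ * (x : G) * a)) * a⁻¹ := by group
          _ = a * (u * v) * a⁻¹ := by rw [e]
          _ = a * u * a⁻¹ * (a * v * a⁻¹) := by group
    have hnf : ¬ Full X' Y' := by
      intro hf
      have hle : N ≤ (S : Subgroup G) := fun x hx => by
        obtain ⟨u, hu, v, hv, e⟩ := hf ⟨x, hNL hx⟩
        rw [show x = (u : G) * v from congrArg Subtype.val e]
        exact mul_mem (hXS (Subgroup.mem_inf.1 (Subgroup.mem_subgroupOf.1 hu)).1)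
          (hYS (Subgroup.mem_inf.1 (Subgroup.mem_subgroupOf.1 hv)).1)
      haveI : Group.IsNilpotent N := (S.2.to_le hle).isNilpotent
      exact hNs inferInstance
    have descend : ∀ (C : Subgroup G) (Z : Subgroup G), (∀ g : G, ∃ k ∈ N, ∃ a ∈ C, g = k * a) →
        (∀ a ∈ C, ∀ x ∈ Z, a * x * a⁻¹ ∈ Z) → Z ⊓ L ≠ ⊥ →
        Subgroup.normalClosure (((Z ⊓ L).subgroupOf L : Subgroup L) : Set L) ≠ ⊤ →
        ∃ L' : Subgroup G, L'.Normal ∧ N ≤ L' ∧ L' ≤ L ∧ L' ≠ L ∧ Z ⊓ L ≤ L' := by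
      intro C Z hC hZn hZ0 hcl
      refine ⟨Subgroup.normalClosure ((Z ⊓ L : Subgroup G) : Set G), inferInstance,
        huniq _ inferInstance fun e => hZ0 (le_bot_iff.1 (e ▸ Subgroup.le_normalClosure)),
        Subgroup.normalClosure_le_normal inf_le_right, fun e => hcl ?_, Subgroup.le_normalClosure⟩
      rw [eq_top_iff]
      set K := Subgroup.normalClosure (((Z ⊓ L).subgroupOf L : Subgroup L) : Set L) with hK
      have hsub : Subgroup.normalClosure ((Z ⊓ L : Subgroup G) : Set G) ≤ K.map L.subtype := by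
        refine (Subgroup.closure_le _).2 fun w hw => ?_
        obtain ⟨v, hv, hc⟩ := Group.mem_conjugatesOfSet_iff.1 hw
        obtain ⟨g, rfl⟩ := isConj_iff.1 hc
        obtain ⟨k, hk, a, ha, rfl⟩ := hC g
        obtain ⟨hvZ, hvL⟩ := Subgroup.mem_inf.1 hv
        have hav : a * v * a⁻¹ ∈ Z ⊓ L := Subgroup.mem_inf.2 ⟨hZn a ha v hvZ, hLn.conj_mem _ hvL a⟩
        refine ⟨⟨k, hNL hk⟩ * ⟨a * v * a⁻¹, (Subgroup.mem_inf.1 hav).2⟩ * (⟨k, hNL hk⟩ : L)⁻¹,
          Subgroup.normalClosure_normal.conj_mem _ (Subgroup.le_normalClosure (Subgroup.mem_subgroupOf.2 hav)) _, ?_⟩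
        show k * (a * v * a⁻¹) * k⁻¹ = k * a * v * (k * a)⁻¹
        group
      intro w _
      obtain ⟨w', hw', e'⟩ := hsub (by rw [e]; exact w.2)
      rwa [← Subtype.ext (show (w' : G) = w from e')]
    rcases kegel hperm hnf with h | h
    · obtain ⟨L', h1, h2, h3, h4, h5⟩ := descend A X hNA hXn hX0 h
      refine h4 (Subgroup.eq_of_le_of_card_ge h3 (hmin (j := L') ⟨h1, h2, fun x hx => ?_⟩ (Subgroup.card_le_of_le h3)))
      obtain ⟨u, hu, v, hv, e⟩ := hL x (Subgroup.mem_inf.2 ⟨(Subgroup.mem_inf.1 hx).1, h3 (Subgroup.mem_inf.1 hx).2⟩)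
      have huL : u ∈ L' := h5 hu
      refine ⟨u, Subgroup.mem_inf.2 ⟨(Subgroup.mem_inf.1 hu).1, huL⟩, v, Subgroup.mem_inf.2 ⟨(Subgroup.mem_inf.1 hv).1, ?_⟩, e⟩
      simpa [e] using mul_mem (inv_mem huL) (Subgroup.mem_inf.1 hx).2
    · obtain ⟨L', h1, h2, h3, h4, h5⟩ := descend B Y hNB hYn hY0 h
      refine h4 (Subgroup.eq_of_le_of_card_ge h3 (hmin (j := L') ⟨h1, h2, fun x hx => ?_⟩ (Subgroup.card_le_of_le h3)))
      obtain ⟨u, hu, v, hv, e⟩ := hL x (Subgroup.mem_inf.2 ⟨(Subgroup.mem_inf.1 hx).1, h3 (Subgroup.mem_inf.1 hx).2⟩)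
      have hvL : v ∈ L' := h5 hv
      refine ⟨u, Subgroup.mem_inf.2 ⟨(Subgroup.mem_inf.1 hu).1, ?_⟩, v, Subgroup.mem_inf.2 ⟨(Subgroup.mem_inf.1 hv).1, hvL⟩, e⟩
      simpa [e] using mul_mem (Subgroup.mem_inf.1 hx).2 (inv_mem hvL)
  have hdvd : ∀ (p k : ℕ), p.Prime → p ^ k ∣ Nat.card N →
      p ^ k ∣ Nat.lcm (Nat.card (A ⊓ N : Subgroup G)) (Nat.card (B ⊓ N : Subgroup G)) := by
    intro p k hp hk
    haveI := Fact.mk hp
    obtain ⟨PA⟩ : Nonempty (Sylow p A) := inferInstance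
    obtain ⟨PB⟩ : Nonempty (Sylow p B) := inferInstance
    obtain ⟨S, hXS, hYS, hS⟩ := exists_sylow hAB PA PB
    have hdiv : p ^ k ∣ Nat.card ((S : Subgroup G) ⊓ N : Subgroup G) := by
      have e1 := CfsgLib.Products.card_inf_mul_relIndex (S : Subgroup G) N
      have hnd : ¬ p ∣ (S : Subgroup G).relIndex N := fun h => by
        have e2 : (S : Subgroup G).relIndex N * N.index = N.relIndex S * (S : Subgroup G).index := by
          rw [← Subgroup.inf_relIndex_right, Subgroup.relIndex_mul_index inf_le_right,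
            ← Subgroup.relIndex_mul_index (inf_le_left : (S : Subgroup G) ⊓ N ≤ S), Subgroup.inf_relIndex_left]
        obtain ⟨r, hr⟩ : N.relIndex S ∣ N.index := Subgroup.relIndex_dvd_index_of_normal _ _
        have hpos : 0 < N.relIndex (S : Subgroup G) := Nat.pos_of_ne_zero fun h0 =>
          Subgroup.index_ne_zero_of_finite (H := N) (by rw [hr, h0, zero_mul])
        rw [hr, mul_left_comm] at e2
        exact S.not_dvd_index ((h.trans (dvd_mul_right _ r)).trans (dvd_of_eq (Nat.eq_of_mul_eq_mul_left hpos e2)))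
      exact (Nat.Coprime.pow_left k ((Nat.Prime.coprime_iff_not_dvd hp).2 hnd)).dvd_of_dvd_mul_right (e1 ▸ hk)
    rcases main p ⟨hp⟩ PA PB S hXS hYS hS with h | h
    · exact (hdiv.trans (Subgroup.card_dvd_of_le (le_inf h inf_le_right))).trans (Nat.dvd_lcm_left _ _)
    · exact (hdiv.trans (Subgroup.card_dvd_of_le (le_inf h inf_le_right))).trans (Nat.dvd_lcm_right _ _)
  by_cases hNtop : N = ⊤
  · -- simple case
    by_cases hcop : (Nat.card A).Coprime (Nat.card B)
    · exact hns (CfsgLib.ProductNilpotent.isSolvable _ rfl A B hA hB hcop hAB)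
    obtain ⟨p, hp, hpA, hpB⟩ := Nat.Prime.not_coprime_iff_dvd.1 hcop
    haveI := Fact.mk hp
    obtain ⟨PA⟩ : Nonempty (Sylow p A) := inferInstance
    obtain ⟨PB⟩ : Nonempty (Sylow p B) := inferInstance
    obtain ⟨S, hXS, hYS, hS⟩ := exists_sylow hAB PA PB
    have fin : ∀ (C D : Subgroup G) [Group.IsNilpotent C] [Group.IsNilpotent D] (P : Sylow p C), Full D C →
        p ∣ Nat.card C → (P : Subgroup C).map C.subtype ≤ D → False := by
      intro C D _ _ P hDC hpC hPD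
      set X := (P : Subgroup C).map C.subtype with hX
      have hne : X ≠ ⊥ := fun e => P.ne_bot_of_dvd_card hpC
        ((Subgroup.map_eq_bot_iff_of_injective _ C.subtype_injective).1 e)
      have hncl : Subgroup.normalClosure (X : Set G) ≤ D := by
        refine (Subgroup.closure_le _).2 fun w hw => ?_
        obtain ⟨v, hv, hc⟩ := Group.mem_conjugatesOfSet_iff.1 hw
        obtain ⟨g, rfl⟩ := isConj_iff.1 hc
        obtain ⟨d, hd, c, hc', rfl⟩ := hDC g
        obtain ⟨v', hv', rfl⟩ := hv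
        have hmem : c * (v' : G) * c⁻¹ ∈ X :=
          ⟨⟨c, hc'⟩ * v' * ⟨c, hc'⟩⁻¹, Subgroup.Normal.conj_mem inferInstance v' hv' _, rfl⟩
        have := mul_mem (mul_mem hd (hPD hmem)) (inv_mem hd)
        simpa [mul_assoc] using this
      have h1 : (⊤ : Subgroup G) ≤ D := by
        rw [← hNtop]
        exact (huniq _ inferInstance fun e => hne (le_bot_iff.1 (e ▸ Subgroup.le_normalClosure))).trans hncl
      haveI : Group.IsNilpotent G :=
        Group.nilpotent_of_mulEquiv ((MulEquiv.subgroupCongr (top_le_iff.1 h1)).trans Subgroup.topEquiv)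
      exact hns inferInstance
    rcases main p ⟨hp⟩ PA PB S hXS hYS hS with h | h
    · rw [hNtop, inf_top_eq] at h
      exact fin B A PB hAB hpB (hYS.trans h)
    · rw [hNtop, inf_top_eq] at h
      exact fin A B PA hBA hpA (hXS.trans h)
  · refine hNs (proper N hNtop fun h hh => ?_)
    set AN := A ⊓ N with hANd
    set BN := B ⊓ N with hBNd
    have hlcm : Nat.card N ∣ Nat.lcm (Nat.card AN) (Nat.card BN) := Nat.dvd_iff_prime_pow_dvd_dvd _ _ |>.2 hdvd
    have hle : BN ⊔ AN ≤ N := sup_le inf_le_right inf_le_right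
    have h1 : Nat.card N * Nat.card (BN ⊓ AN : Subgroup G) ≤ Nat.card BN * Nat.card AN := by
      have hd : Nat.card (BN ⊓ AN : Subgroup G) ∣ Nat.gcd (Nat.card AN) (Nat.card BN) :=
        Nat.dvd_gcd (Subgroup.card_dvd_of_le inf_le_right) (Subgroup.card_dvd_of_le inf_le_left)
      rw [mul_comm (Nat.card BN), ← Nat.gcd_mul_lcm (Nat.card AN) (Nat.card BN), mul_comm (Nat.gcd _ _)]
      exact Nat.mul_le_mul (Nat.le_of_dvd (Nat.lcm_pos Nat.card_pos Nat.card_pos) hlcm)
        (Nat.le_of_dvd (Nat.gcd_pos_of_pos_left _ Nat.card_pos) hd)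
    have h2 : Nat.card (BN ⊔ AN : Subgroup G) * Nat.card (BN ⊓ AN : Subgroup G) ≤ Nat.card BN * Nat.card AN :=
      le_trans (Nat.mul_le_mul_right _ (Subgroup.card_le_of_le hle)) h1
    have heq : BN ⊔ AN = N := Subgroup.eq_of_le_of_card_ge hle
      (Nat.le_of_mul_le_mul_right (h1.trans (CfsgLib.Products.card_mul_card_le BN AN)) Nat.card_pos)
    exact CfsgLib.Products.exists_mul_of_card_eq h2 (heq.symm ▸ hh)

/-- In a product of nilpotent subgroups, one a proper subgroup, a proper normal subgroup contains a factor. -/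
theorem exists_normal : ∀ (n : ℕ) {G : Type u} [Group G] [Finite G], Nat.card G = n → ∀ (A B : Subgroup G),
    Group.IsNilpotent A → Group.IsNilpotent B → Full A B → (A ≠ ⊤ ∨ B ≠ ⊤) →
    ∃ N : Subgroup G, N.Normal ∧ N ≠ ⊤ ∧ (A ≤ N ∨ B ≤ N) := by
  intro n
  induction n using Nat.strong_induction_on with
  | _ n ih =>
  intro G _ _ hn A B hA hB hAB hpr
  classical
  haveI := hA
  haveI := hB
  haveI hsol := isSolvable n hn A B hA hB hAB
  have nilcase : Group.IsNilpotent G → ∀ C : Subgroup G, C ≠ ⊤ → ∃ N : Subgroup G, N.Normal ∧ N ≠ ⊤ ∧ C ≤ N := by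
    intro hG C hC
    haveI := hG
    obtain ⟨M, hM, hCM⟩ := (eq_top_or_exists_le_coatom C).resolve_left hC
    exact ⟨M, Subgroup.NormalizerCondition.normal_of_coatom M normalizerCondition_of_isNilpotent hM, hM.1, hCM⟩
  by_cases hAt : A = ⊤
  · haveI : Group.IsNilpotent G := Group.nilpotent_of_mulEquiv ((MulEquiv.subgroupCongr hAt).trans Subgroup.topEquiv)
    obtain ⟨N, h1, h2, h3⟩ := nilcase inferInstance B (hpr.resolve_left fun h => h hAt)
    exact ⟨N, h1, h2, Or.inr h3⟩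
  by_cases hBt : B = ⊤
  · haveI : Group.IsNilpotent G := Group.nilpotent_of_mulEquiv ((MulEquiv.subgroupCongr hBt).trans Subgroup.topEquiv)
    obtain ⟨N, h1, h2, h3⟩ := nilcase inferInstance A hAt
    exact ⟨N, h1, h2, Or.inl h3⟩
  haveI hnt : Nontrivial G := by
    rcases subsingleton_or_nontrivial G with hs | h
    · exact absurd (Subgroup.ext fun x => ⟨fun _ => Subgroup.mem_top x, fun _ => Subsingleton.elim (1 : G) x ▸ one_mem A⟩) hAt
    · exact h
  have red : ∀ N : Subgroup G, N.Normal → N ≠ ⊥ → ¬ (A ⊔ N = ⊤ ∧ B ⊔ N = ⊤) →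
      ∃ N : Subgroup G, N.Normal ∧ N ≠ ⊤ ∧ (A ≤ N ∨ B ≤ N) := by
    intro N hNn hN0 hcase
    haveI := hNn
    let f := QuotientGroup.mk' N
    obtain ⟨M, hM, hMt, hM'⟩ := ih _ (by
        rw [← hn, Subgroup.card_eq_card_quotient_mul_card_subgroup N]
        exact lt_mul_of_one_lt_right Nat.card_pos ((Subgroup.one_lt_card_iff_ne_bot N).2 hN0)) rfl
      (A.map f) (B.map f)
      (Group.nilpotent_of_surjective (f.subgroupMap A) (f.subgroupMap_surjective A))
      (Group.nilpotent_of_surjective (f.subgroupMap B) (f.subgroupMap_surjective B))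
      (fun g => by
        obtain ⟨g, rfl⟩ := QuotientGroup.mk'_surjective N g
        obtain ⟨a, ha, b, hb, rfl⟩ := hAB g
        exact ⟨_, ⟨a, ha, rfl⟩, _, ⟨b, hb, rfl⟩, map_mul _ _ _⟩)
      (by
        by_contra hh
        push Not at hh
        refine hcase ⟨?_, ?_⟩
        · have := congrArg (Subgroup.comap f) hh.1
          rwa [Subgroup.comap_map_eq, QuotientGroup.ker_mk', Subgroup.comap_top] at this
        · have := congrArg (Subgroup.comap f) hh.2
          rwa [Subgroup.comap_map_eq, QuotientGroup.ker_mk', Subgroup.comap_top] at this)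
    refine ⟨M.comap f, hM.comap f, fun e => hMt ?_, hM'.imp Subgroup.map_le_iff_le_comap.1 Subgroup.map_le_iff_le_comap.1⟩
    rw [← Subgroup.map_comap_eq_self_of_surjective (QuotientGroup.mk'_surjective N) M, e,
      Subgroup.map_top_of_surjective _ (QuotientGroup.mk'_surjective N)]
  obtain ⟨N, hNn, -, hN0, hNmin⟩ := CfsgLib.exists_minimal_normal (N := (⊤ : Subgroup G)) top_ne_bot
  haveI := hNn
  by_cases hcase : A ⊔ N = ⊤ ∧ B ⊔ N = ⊤
  swap
  · exact red N hNn hN0 hcase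
  obtain ⟨hAN, hBN⟩ := hcase
  obtain ⟨-, p, hp, hNp⟩ := CfsgLib.minimal_normal_elementary hN0 inferInstance hNmin
  haveI := Fact.mk hp
  have hNpg : IsPGroup p N := fun x => ⟨1, Subtype.ext (by simpa using hNp x x.2)⟩
  -- elements of order prime to `p` of either factor lie in both
  have half : ∀ (C D : Subgroup G) [Group.IsNilpotent C], Full C D → D ⊔ N = ⊤ →
      ∀ a ∈ C, ¬ p ∣ orderOf a → a ∈ D := by
    intro C D _ hCD hD a ha hpa
    obtain ⟨k, hk⟩ := hNpg.exists_card_eq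
    have h1 := CfsgLib.card_sup_dvd_mul D N
    rw [hD, Subgroup.card_top] at h1
    have h3 : Nat.card C ∣ p ^ k * Nat.card (C ⊓ D : Subgroup G) := by
      have : Nat.card C * Nat.card D ∣ (p ^ k * Nat.card (C ⊓ D : Subgroup G)) * Nat.card D := by
        rw [← card_full hCD, mul_right_comm, ← hk, mul_comm (Nat.card N)]
        exact mul_dvd_mul_right h1 _
      exact Nat.dvd_of_mul_dvd_mul_right Nat.card_pos this
    obtain ⟨P⟩ : Nonempty (Sylow p C) := inferInstance
    haveI : (P : Subgroup C).Normal := inferInstance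
    set I := (C ⊓ D).subgroupOf C with hI
    have hidx : I.index ∣ p ^ k := by
      have := I.card_mul_index
      rw [Nat.card_congr (Subgroup.subgroupOfEquivOfLe inf_le_left).toEquiv] at this
      exact Nat.dvd_of_mul_dvd_mul_left (k := Nat.card (C ⊓ D : Subgroup G)) Nat.card_pos
        (by rw [this, mul_comm]; exact h3)
    have hsup : (P : Subgroup C) ⊔ I = ⊤ := Subgroup.index_eq_one.1 (Nat.eq_one_of_dvd_coprimes
      (Nat.Coprime.pow_left k ((Nat.Prime.coprime_iff_not_dvd hp).2 P.not_dvd_index))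
      ((Subgroup.index_dvd_of_le le_sup_right).trans hidx) (Subgroup.index_dvd_of_le le_sup_left))
    have hmem : (⟨a, ha⟩ : C) ∈ (↑((P : Subgroup C) ⊔ I) : Set C) := by rw [hsup]; exact Subgroup.mem_top _
    rw [Subgroup.normal_mul] at hmem
    obtain ⟨u, hu, i, hi, e⟩ := Set.mem_mul.1 hmem
    obtain ⟨x, y, rfl, ⟨l, hl⟩, hy, hxi, hyi⟩ := CfsgLib.ProductNilpotent.split_element hp i
    haveI := Sylow.unique_of_normal P inferInstance
    have hxP : x ∈ (P : Subgroup C) := by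
      obtain ⟨j, -, hj⟩ := (Nat.dvd_prime_pow hp).1 hl
      have hx' : IsPGroup p (Subgroup.zpowers x) := IsPGroup.of_card (n := j) (by rw [Nat.card_zpowers, hj])
      obtain ⟨Q, hQ⟩ := hx'.exists_le_sylow
      rw [Subsingleton.elim Q P] at hQ
      exact hQ (Subgroup.mem_zpowers x)
    obtain ⟨j, hj⟩ := P.2 ⟨u * x, mul_mem hu hxP⟩
    have hj' : (u * x) ^ p ^ j = 1 := congrArg Subtype.val hj
    have hoy : (p ^ j).Coprime (orderOf y) := Nat.Coprime.pow_left j ((Nat.Prime.coprime_iff_not_dvd hp).2 hy)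
    have hc : Commute (u * x) y := CfsgLib.commute_of_nilpotent (H := C) _ _
      (Nat.Coprime.of_dvd_left (orderOf_dvd_of_pow_eq_one hj') hoy)
    have hux : u * x = 1 := by
      have h5 : (⟨a, ha⟩ : C) ^ orderOf y = (u * x) ^ orderOf y := by
        rw [← e, ← mul_assoc, hc.mul_pow, pow_orderOf_eq_one, mul_one]
      have h6 : orderOf ((u * x) ^ orderOf y) ∣ orderOf a := by
        rw [← h5, ← Subgroup.orderOf_mk a ha]; exact orderOf_pow_dvd _
      have h7 : orderOf ((u * x) ^ orderOf y) ∣ p ^ j := (orderOf_pow_dvd _).trans (orderOf_dvd_of_pow_eq_one hj')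
      have h8 : (u * x) ^ orderOf y = 1 := orderOf_eq_one_iff.1 (Nat.eq_one_of_dvd_coprimes
        (Nat.Coprime.pow_left j ((Nat.Prime.coprime_iff_not_dvd hp).2 hpa)) h7 h6)
      exact orderOf_eq_one_iff.1 (Nat.eq_one_of_dvd_coprimes hoy (orderOf_dvd_of_pow_eq_one hj')
        (orderOf_dvd_of_pow_eq_one h8))
    have hay : (⟨a, ha⟩ : C) = y := by rw [← e, ← mul_assoc, hux, one_mul]
    have hyI : y ∈ I := (Subgroup.zpowers_le.2 hi) hyi
    rw [← hay, hI, Subgroup.mem_subgroupOf] at hyI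
    exact (Subgroup.mem_inf.1 hyI).2
  have hBA : Full B A := fun g => by
    obtain ⟨a, ha, b, hb, e⟩ := hAB g⁻¹
    exact ⟨b⁻¹, inv_mem hb, a⁻¹, inv_mem ha, by rw [← mul_inv_rev, ← e, inv_inv]⟩
  set D0 := Subgroup.closure {x | x ∈ A ∧ ¬ p ∣ orderOf x} with hD0
  have hD0n : D0.Normal := by
    have hgen : ∀ g : G, ∀ x, x ∈ A → ¬ p ∣ orderOf x → g * x * g⁻¹ ∈ D0 := by
      intro g x hx hpx
      obtain ⟨a, ha, b, hb, rfl⟩ := hAB g
      have ho : ∀ h z : G, orderOf (h * z * h⁻¹) = orderOf z := fun h z => MulEquiv.orderOf_eq (MulAut.conj h) z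
      have hxB := half A B hAB hBN x hx hpx
      have hbx : b * x * b⁻¹ ∈ A := half B A hBA hAN _ (mul_mem (mul_mem hb hxB) (inv_mem hb)) (by rwa [ho])
      refine Subgroup.subset_closure ⟨?_, by rwa [ho]⟩
      have := mul_mem (mul_mem ha hbx) (inv_mem ha)
      simpa [mul_assoc] using this
    refine ⟨fun x hx g => ?_⟩
    have : D0 ≤ D0.comap (MulAut.conj g).toMonoidHom :=
      (Subgroup.closure_le _).2 fun y hy => hgen g y hy.1 hy.2
    exact this hx
  by_cases hD00 : D0 = ⊥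
  · have pgrp : ∀ (C : Subgroup G), (∀ x ∈ C, ¬ p ∣ orderOf x → x = 1) → IsPGroup p C := by
      intro C hC c
      obtain ⟨x, y, e, ⟨l, hl⟩, hy, -, hyc⟩ := CfsgLib.ProductNilpotent.split_element hp (c : G)
      have hy1 := hC y ((Subgroup.zpowers_le.2 c.2) hyc) hy
      rw [hy1, mul_one] at e
      exact ⟨l, Subtype.ext (by simpa [e] using orderOf_dvd_iff_pow_eq_one.1 hl)⟩
    have hA1 : ∀ x ∈ A, ¬ p ∣ orderOf x → x = 1 := fun x hx hpx =>
      Subgroup.mem_bot.1 (hD00 ▸ Subgroup.subset_closure ⟨hx, hpx⟩)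
    have hpA := pgrp A hA1
    have hpB := pgrp B fun x hx hpx => hA1 x (half B A hBA hAN x hx hpx) hpx
    obtain ⟨i, hi⟩ := hpA.exists_card_eq
    obtain ⟨j, hj⟩ := hpB.exists_card_eq
    have hd : Nat.card G ∣ p ^ (i + j) := by
      rw [pow_add, ← hi, ← hj, ← card_full hAB]; exact dvd_mul_right _ _
    obtain ⟨l, -, hl⟩ := (Nat.dvd_prime_pow hp).1 hd
    haveI : Group.IsNilpotent G := (IsPGroup.of_card hl).isNilpotent
    obtain ⟨M, h1, h2, h3⟩ := nilcase inferInstance A hAt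
    exact ⟨M, h1, h2, Or.inl h3⟩
  · refine red D0 hD0n hD00 fun h => hAt ?_
    rw [← h.1, left_eq_sup]
    exact (Subgroup.closure_le _).2 fun x hx => hx.1

end CfsgLib.Kegel
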