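import Mathlib
import Cfsg.Agent.Lib.Elementary
import Cfsg.Agent.Lib.Solvable.Wielandt3
import Cfsg.Agent.Lib.CharTheory.Burnside

/-! Hall's converse, Wielandt's product criterion and permuting subgroups. -/

set_option autoImplicit false

open scoped Pointwise

namespace CfsgLib.HallConverse

universe u

variable {G : Type u} [Group G]

/-- Two permuting subgroups: the join is the product set and its order divides the product of the orders. -/
theorem sup_of_comm [Finite G] {A B : Subgroup G} (h : (A : Set G) * (B : Set G) = (B : Set G) * (A : Set G)) :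
    ((A ⊔ B : Subgroup G) : Set G) = (A : Set G) * (B : Set G) ∧
      Nat.card ↥(A ⊔ B) ≤ Nat.card A * Nat.card B := by
  let P : Subgroup G :=
    { carrier := (A : Set G) * (B : Set G)
      one_mem' := ⟨1, A.one_mem, 1, B.one_mem, one_mul 1⟩
      mul_mem' := by
        rintro _ _ ⟨a, ha, b, hb, rfl⟩ ⟨a', ha', b', hb', rfl⟩
        have : b * a' ∈ (A : Set G) * (B : Set G) := h ▸ ⟨b, hb, a', ha', rfl⟩
        obtain ⟨a'', ha'', b'', hb'', e⟩ := this
        refine ⟨a * a'', mul_mem ha ha'', b'' * b', mul_mem hb'' hb', ?_⟩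
        show a * a'' * (b'' * b') = a * b * (a' * b')
        replace e : a'' * b'' = b * a' := e
        rw [show a * a'' * (b'' * b') = a * (a'' * b'') * b' by group, e]
        group
      inv_mem' := by
        rintro _ ⟨a, ha, b, hb, rfl⟩
        rw [h]
        exact ⟨b⁻¹, inv_mem hb, a⁻¹, inv_mem ha, (mul_inv_rev a b).symm⟩ }
  have hP : A ⊔ B = P := by
    refine le_antisymm (sup_le (fun a ha => ?_) fun b hb => ?_) ?_
    · exact ⟨a, ha, 1, B.one_mem, mul_one a⟩
    · exact ⟨1, A.one_mem, b, hb, one_mul b⟩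
    · rintro _ ⟨a, ha, b, hb, rfl⟩
      exact mul_mem (Subgroup.mem_sup_left ha) (Subgroup.mem_sup_right hb)
  have hc : ((A ⊔ B : Subgroup G) : Set G) = (A : Set G) * (B : Set G) := by rw [hP]; rfl
  refine ⟨hc, ?_⟩
  rw [← Nat.card_prod]
  refine Nat.card_le_card_of_surjective (fun x : A × B => (⟨x.1 * x.2,
    mul_mem (Subgroup.mem_sup_left x.1.2) (Subgroup.mem_sup_right x.2.2)⟩ : ↥(A ⊔ B))) fun y => ?_
  obtain ⟨a, ha, b, hb, e⟩ : (y : G) ∈ (A : Set G) * (B : Set G) := hc ▸ y.2
  exact ⟨(⟨a, ha⟩, ⟨b, hb⟩), Subtype.ext e⟩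

/-- Wielandt: `G = H₁H₂ = H₁H₃`, solvable factors, coprime indices of `H₂`, `H₃`. -/
theorem isSolvable_of_products : ∀ (n : ℕ) {G : Type u} [Group G] [Finite G], Nat.card G = n →
    ∀ (A B C : Subgroup G), Group.IsSolvable A → Group.IsSolvable B → Group.IsSolvable C →
    (∀ g : G, ∃ x ∈ A, ∃ y ∈ B, g = x * y) → (∀ g : G, ∃ x ∈ A, ∃ y ∈ C, g = x * y) →
    B.index.Coprime C.index → Group.IsSolvable G := by
  intro n
  induction n using Nat.strong_induction_on with
  | _ n ih =>
  intro G _ _ hn A B C hA hB hC hAB hAC hBC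
  have key : ∀ X : Subgroup G, X = ⊤ → Group.IsSolvable X → Group.IsSolvable G := fun X hX h => by
    subst hX
    haveI := h
    exact Group.isSolvable_of_surjective (f := (Subgroup.topEquiv (G := G)).toMonoidHom) (MulEquiv.surjective _)
  by_cases hA0 : A = ⊥
  · refine key B (eq_top_iff.mpr fun g _ => ?_) hB
    obtain ⟨x, hx, y, hy, rfl⟩ := hAB g
    rw [hA0, Subgroup.mem_bot] at hx
    rw [hx, one_mul]
    exact hy
  haveI : Nontrivial A := (Subgroup.nontrivial_iff_ne_bot A).mpr hA0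
  obtain ⟨M, hMn, -, hM0, hmin⟩ := CfsgLib.exists_minimal_normal (N := (⊤ : Subgroup A)) top_ne_bot
  obtain ⟨-, p, hp, hMp⟩ := CfsgLib.minimal_normal_elementary hM0 inferInstance hmin
  have := Fact.mk hp
  have step : ∀ X : Subgroup G, Group.IsSolvable X → (∀ g : G, ∃ x ∈ A, ∃ y ∈ X, g = x * y) → ¬ p ∣ X.index →
      ∃ N : Subgroup G, N.Normal ∧ N ≠ ⊥ ∧ Group.IsSolvable N := by
    intro X hX hAX hpX
    have hM' : IsPGroup p (M.map A.subtype) := by
      refine IsPGroup.map ?_ _
      intro x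
      exact ⟨1, by rw [pow_one]; exact Subtype.ext (hMp x x.2)⟩
    obtain ⟨S, hS⟩ := hM'.exists_le_sylow
    obtain ⟨S₀⟩ : Nonempty (Sylow p X) := inferInstance
    have hS₀ : ¬ p ∣ ((S₀ : Subgroup X).map X.subtype).index := by
      rw [Subgroup.index_map_subtype]
      exact hp.not_dvd_mul S₀.not_dvd_index hpX
    obtain ⟨g, hg⟩ := MulAction.exists_smul_eq G ((S₀.2.map X.subtype).toSylow hS₀) S
    have hMX : M.map A.subtype ≤ MulAut.conj g • X := by
      refine hS.trans ?_
      rw [← hg, Sylow.coe_subgroup_smul, IsPGroup.toSylow_coe]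
      exact Subgroup.pointwise_smul_le_pointwise_smul_iff.mpr (Subgroup.map_subtype_le _)
    have hX's : Group.IsSolvable (MulAut.conj g • X : Subgroup G) := Group.isSolvable_of_surjective
      (f := (Subgroup.equivSMul (MulAut.conj g) X).toMonoidHom) (MulEquiv.surjective _)
    refine ⟨Subgroup.normalClosure (M.map A.subtype : Set G), inferInstance, fun h => hM0 ?_, ?_⟩
    · have h1 : (M.map A.subtype) ≤ ⊥ := h ▸ Subgroup.le_normalClosure
      exact (Subgroup.map_eq_bot_iff_of_injective _ A.subtype_injective).mp (le_bot_iff.mp h1)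
    · have hle : Subgroup.normalClosure (M.map A.subtype : Set G) ≤ MulAut.conj g • X := by
        refine (Subgroup.closure_le _).mpr fun y hy => ?_
        obtain ⟨m, hm, hc⟩ := Group.mem_conjugatesOfSet_iff.mp hy
        obtain ⟨c, rfl⟩ := isConj_iff.mp hc
        obtain ⟨m', hm', rfl⟩ := hm
        -- `G = X^g A`
        obtain ⟨a₁, ha₁, x₁, hx₁, e₁⟩ := hAX g
        obtain ⟨a, ha, x, hx, e⟩ := hAX (c⁻¹ * a₁)
        have hw : a₁ * a⁻¹ ∈ A := mul_mem ha₁ (inv_mem ha)
        have hy : a₁ * x⁻¹ * a₁⁻¹ ∈ MulAut.conj g • X := by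
          refine ⟨x₁⁻¹ * x⁻¹ * x₁, mul_mem (mul_mem (inv_mem hx₁) (inv_mem hx)) hx₁, ?_⟩
          show g * (x₁⁻¹ * x⁻¹ * x₁) * g⁻¹ = _
          rw [e₁]; group
        have h1 : a₁ * a⁻¹ * (m' : G) * (a₁ * a⁻¹)⁻¹ ∈ MulAut.conj g • X :=
          hMX ⟨⟨_, hw⟩ * m' * ⟨_, hw⟩⁻¹, hMn.conj_mem m' hm' _, rfl⟩
        have hc : c = a₁ * x⁻¹ * a₁⁻¹ * (a₁ * a⁻¹) := by
          rw [show c = a₁ * (c⁻¹ * a₁)⁻¹ by group, e]; group
        have h2 := mul_mem (mul_mem hy h1) (inv_mem hy)
        rw [hc]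
        show a₁ * x⁻¹ * a₁⁻¹ * (a₁ * a⁻¹) * (m' : G) * (a₁ * x⁻¹ * a₁⁻¹ * (a₁ * a⁻¹))⁻¹ ∈ MulAut.conj g • X
        convert h2 using 1
        group
      exact Group.isSolvable_of_isSolvable_injective (Subgroup.inclusion_injective hle)
  obtain ⟨N, hNn, hN0, hNs⟩ : ∃ N : Subgroup G, N.Normal ∧ N ≠ ⊥ ∧ Group.IsSolvable N := by
    by_cases h : p ∣ B.index
    · exact step C hC hAC fun h' => hp.not_dvd_one (hBC ▸ Nat.dvd_gcd h h')
    · exact step B hB hAB h
  have hlt : Nat.card (G ⧸ N) < n := by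
    rw [← hn, N.card_eq_card_quotient_mul_card_subgroup]
    haveI : Nontrivial N := (Subgroup.nontrivial_iff_ne_bot N).mpr hN0
    exact lt_mul_of_one_lt_right Nat.card_pos Finite.one_lt_card
  have hmap : ∀ X : Subgroup G, Group.IsSolvable X →
      Group.IsSolvable (X.map (QuotientGroup.mk' N)) ∧ (X.map (QuotientGroup.mk' N)).index ∣ X.index := fun X h =>
    ⟨Group.isSolvable_of_surjective ((QuotientGroup.mk' N).subgroupMap_surjective X),
      Subgroup.index_map_dvd X (QuotientGroup.mk'_surjective N)⟩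
  have hprod : ∀ X : Subgroup G, (∀ g : G, ∃ x ∈ A, ∃ y ∈ X, g = x * y) →
      ∀ g : G ⧸ N, ∃ x ∈ A.map (QuotientGroup.mk' N), ∃ y ∈ X.map (QuotientGroup.mk' N), g = x * y := by
    intro X hX g
    induction g using QuotientGroup.induction_on with
    | _ g =>
      obtain ⟨x, hx, y, hy, rfl⟩ := hX g
      exact ⟨_, Subgroup.mem_map_of_mem _ hx, _, Subgroup.mem_map_of_mem _ hy, rfl⟩
  obtain ⟨hA', -⟩ := hmap A hA
  obtain ⟨hB', hB''⟩ := hmap B hB
  obtain ⟨hC', hC''⟩ := hmap C hC
  haveI : Group.IsSolvable (G ⧸ N) := ih _ hlt rfl _ _ _ hA' hB' hC' (hprod B hAB) (hprod C hAC)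
    (Nat.Coprime.of_dvd hB'' hC'' hBC)
  haveI := hNs
  exact Group.isSolvable_of_ker_le_range N.subtype (QuotientGroup.mk' N) (by rw [QuotientGroup.ker_mk', Subgroup.range_subtype])

/-- Hall's converse. -/
theorem isSolvable_of_pComplements : ∀ (n : ℕ) {G : Type u} [Group G] [Finite G], Nat.card G = n →
    (∀ p : ℕ, p.Prime → ∃ H : Subgroup G, H.index = p ^ (Nat.card G).factorization p) →
    Group.IsSolvable G := by
  intro n
  induction n using Nat.strong_induction_on with
  | _ n ih =>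
  intro G _ _ hn h
  have hsol : ∀ p : ℕ, p.Prime → p ∣ Nat.card G →
      ∃ H : Subgroup G, Group.IsSolvable H ∧ H.index = p ^ (Nat.card G).factorization p := by
    intro p hp hpd
    obtain ⟨H, hH⟩ := h p hp
    have hcard : Nat.card H * p ^ (Nat.card G).factorization p = Nat.card G := hH ▸ H.card_mul_index
    have hpos : 0 < (Nat.card G).factorization p := hp.factorization_pos_of_dvd Nat.card_pos.ne' hpd
    refine ⟨H, ih _ ?_ rfl fun q hq => ?_, hH⟩
    · rw [← hn, ← hcard]
      exact lt_mul_of_one_lt_right Nat.card_pos (Nat.one_lt_pow hpos.ne' hp.one_lt)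
    · by_cases hqp : q = p
      · subst hqp
        refine ⟨⊤, ?_⟩
        have h0 : ¬ q ∣ Nat.card H := by
          intro hd
          obtain ⟨c, hc⟩ := hd
          refine Nat.not_dvd_ordCompl hq (Nat.card_pos (α := G)).ne' ⟨c, ?_⟩
          apply Nat.eq_of_mul_eq_mul_left (pow_pos hq.pos ((Nat.card G).factorization q))
          rw [Nat.ordProj_mul_ordCompl_eq_self]
          linarith [hcard, hc ▸ hcard]
        rw [Subgroup.index_top, Nat.factorization_eq_zero_of_not_dvd h0, pow_zero]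
      · obtain ⟨K, hK⟩ := h q hq
        refine ⟨K.subgroupOf H, ?_⟩
        have hco : H.index.Coprime K.index := by
          rw [hH, hK]
          exact Nat.Coprime.pow _ _ ((Nat.coprime_primes hp hq).mpr (Ne.symm hqp))
        have h1 : K.relIndex H = K.index := by
          have h1 := Subgroup.relIndex_le_of_le_right (H := K) (le_top : H ≤ ⊤) (by
            rw [Subgroup.relIndex_top_right]; exact Subgroup.index_ne_zero_of_finite)
          rw [Subgroup.relIndex_top_right] at h1
          have h2 : K.index ∣ K.relIndex H * H.index := by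
            rw [← Subgroup.inf_relIndex_right, Subgroup.relIndex_mul_index inf_le_right]
            exact Subgroup.index_dvd_of_le inf_le_left
          exact le_antisymm h1 (Nat.le_of_dvd
            (Nat.pos_of_ne_zero (Subgroup.index_ne_zero_of_finite (H := K.subgroupOf H)))
            (hco.symm.dvd_of_dvd_mul_right h2))
        show K.relIndex H = _
        rw [h1, hK, show Nat.card G = Nat.card H * p ^ (Nat.card G).factorization p from hcard.symm,
          Nat.factorization_mul Nat.card_pos.ne' (pow_ne_zero _ hp.ne_zero), Finsupp.add_apply, hp.factorization_pow,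
          Finsupp.single_eq_of_ne hqp, add_zero]
  by_cases h3 : ∃ p q r : ℕ, p.Prime ∧ q.Prime ∧ r.Prime ∧ p ≠ q ∧ p ≠ r ∧ q ≠ r ∧ p ∣ Nat.card G ∧ q ∣ Nat.card G ∧ r ∣ Nat.card G
  · obtain ⟨p, q, r, hp, hq, hr, hpq, hpr, hqr, dp, dq, dr⟩ := h3
    obtain ⟨A, hA, ea⟩ := hsol p hp dp
    obtain ⟨B, hB, eb⟩ := hsol q hq dq
    obtain ⟨C, hC, ec⟩ := hsol r hr dr
    refine CfsgLib.Wielandt3.isSolvable _ rfl A B C hA hB hC ?_ ?_ ?_
    · rw [ea, eb]; exact Nat.Coprime.pow _ _ ((Nat.coprime_primes hp hq).mpr hpq)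
    · rw [ea, ec]; exact Nat.Coprime.pow _ _ ((Nat.coprime_primes hp hr).mpr hpr)
    · rw [eb, ec]; exact Nat.Coprime.pow _ _ ((Nat.coprime_primes hq hr).mpr hqr)
  push Not at h3
  by_cases hG : Subsingleton G
  · infer_instance
  rw [not_subsingleton_iff_nontrivial] at hG
  obtain ⟨p, hp, dp⟩ := Nat.exists_prime_and_dvd (n := Nat.card G) (Finite.one_lt_card (α := G)).ne'
  have := Fact.mk hp
  set m := Nat.card G / p ^ (Nat.card G).factorization p with hm
  have hpm : Nat.card G = p ^ (Nat.card G).factorization p * m := (Nat.ordProj_mul_ordCompl_eq_self _ p).symm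
  have hcop : ¬ p ∣ m := Nat.not_dvd_ordCompl hp Nat.card_pos.ne'
  by_cases hm1 : m = 1
  · rw [hm1, mul_one] at hpm
    haveI := (IsPGroup.of_card hpm).isNilpotent
    infer_instance
  obtain ⟨q, hq, dq⟩ := Nat.exists_prime_and_dvd hm1
  have hmd : m ∣ Nat.card G := Dvd.intro_left _ hpm.symm
  have hpq : p ≠ q := fun e => hcop (e ▸ dq)
  have hm2 : m = q ^ m.primeFactorsList.length := Nat.eq_prime_pow_of_unique_prime_dvd
    (fun e => hcop (e ▸ dvd_zero p)) fun {r} hr dr => by
      by_contra hne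
      exact h3 p q r hp hq hr hpq (fun e => hcop (e ▸ dr)) (Ne.symm hne) dp (dq.trans hmd) (dr.trans hmd)
  exact CfsgLib.CharTheory.isSolvable_of_card_two_primes hp hq (hpm.trans (congrArg _ hm2))

end CfsgLib.HallConverse
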