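import Cfsg.Agent.Lib.Solvable.HallSystem

/-!
Conjugacy of Carter subgroups.
-/

set_option autoImplicit false
set_option linter.unusedSectionVars false

namespace CfsgLib.CarterConj

open CfsgLib CfsgLib.HallSystem Cfsg
open scoped Pointwise

universe u

theorem carter_conjugate : ∀ (n : ℕ) {G : Type u} [Group G] [Finite G] [Group.IsSolvable G], Nat.card G = n →
    ∀ {C D : Subgroup G}, IsCarterSubgroup C → IsCarterSubgroup D → ∃ g : G, MulAut.conj g • C = D := by
  intro n
  induction n using Nat.strong_induction_on with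
  | _ n ih =>
  intro G _ _ _ hn C D hC hD
  rcases subsingleton_or_nontrivial G with hs | hnt
  · exact ⟨1, Subgroup.ext fun x => by rw [Subsingleton.elim x 1]; exact iff_of_true (one_mem _) (one_mem _)⟩
  obtain ⟨N, hNn, -, hN0, hNmin⟩ := CfsgLib.exists_minimal_normal (N := (⊤ : Subgroup G)) top_ne_bot
  haveI := hNn
  obtain ⟨hNc, p₀, hp₀, hNp⟩ := CfsgLib.minimal_normal_elementary hN0 inferInstance hNmin
  haveI := hNc
  have hNnil : Group.IsNilpotent N := by
    letI : CommGroup N := { (inferInstance : Group N) with mul_comm := fun a b => IsMulCommutative.is_comm.comm a b }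
    exact CommGroup.isNilpotent
  set f := QuotientGroup.mk' N with hf
  have hcart : ∀ A : Subgroup G, IsCarterSubgroup A → IsCarterSubgroup (A.map f) := fun A hA => by
    have hker : f.ker ≤ A ⊔ N := (QuotientGroup.ker_mk' N).le.trans le_sup_right
    have hmapJ : (A ⊔ N).map f = A.map f := by
      rw [Subgroup.map_sup, (Subgroup.map_eq_bot_iff N).mpr (QuotientGroup.ker_mk' N).ge, sup_bot_eq]
    refine ⟨?_, ?_⟩
    · haveI := hA.1
      exact Group.nilpotent_of_surjective (f.subgroupMap A) (f.subgroupMap_surjective A)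
    · rw [← hmapJ]
      exact self_normalizing_map (QuotientGroup.mk'_surjective N) hker (normalizer_carter_sup N hNnil hA)
  obtain ⟨gq, hgq⟩ := ih (Nat.card (G ⧸ N)) (by
    rw [← hn, ← N.card_mul_index, ← Subgroup.index_eq_card]
    refine lt_mul_of_one_lt_left (Nat.pos_of_ne_zero Subgroup.index_ne_zero_of_finite) ?_
    haveI : Nontrivial N := (Subgroup.nontrivial_iff_ne_bot N).mpr hN0
    exact Finite.one_lt_card) rfl (hcart C hC) (hcart D hD)
  obtain ⟨g, rfl⟩ := QuotientGroup.mk'_surjective N gq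
  set C₁ := MulAut.conj g • C with hC₁
  have hC₁c : IsCarterSubgroup C₁ := isCarter_conj hC g
  have hsup : C₁ ⊔ N = D ⊔ N := by
    have h1 : C₁.map f = D.map f := by rw [hC₁, map_conj]; exact hgq
    have h2 := congrArg (Subgroup.comap f) h1
    rwa [Subgroup.comap_map_eq, Subgroup.comap_map_eq, QuotientGroup.ker_mk'] at h2
  set J := D ⊔ N with hJ
  have hCJ : C₁ ≤ J := hsup ▸ le_sup_left
  have key : ∀ {A : Subgroup G} (hA : IsCarterSubgroup A) (hle : A ≤ J), A ⊔ N = J →
      ∃ L : Nat.Primes → Subgroup J, IsComplementSystem L ∧ A.subgroupOf J = systemNormalizer L := fun {A} hA hle e => by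
    obtain ⟨L, hL, he, -⟩ := carter_eq_of_sup (N.subgroupOf J)
      (isNilpotent_congr (Subgroup.subgroupOfEquivOfLe le_sup_right).symm hNnil) (isCarter_subgroupOf hA hle)
      (by rw [← Subgroup.subgroupOf_sup hle le_sup_right, e, Subgroup.subgroupOf_self])
    exact ⟨L, hL, he⟩
  obtain ⟨L₁, hL₁, h1⟩ := key hC₁c hCJ hsup
  obtain ⟨L₂, hL₂, h2⟩ := key hD le_sup_left rfl
  obtain ⟨j, hj⟩ := systems_conjugate hL₁ hL₂
  have h3 : MulAut.conj j • C₁.subgroupOf J = D.subgroupOf J := by
    rw [h1, ← systemNormalizer_conj, h2]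
    exact congrArg _ (funext hj)
  have h4 := congrArg (Subgroup.map J.subtype) h3
  rw [map_conj, Subgroup.map_subgroupOf_eq_of_le hCJ, Subgroup.map_subgroupOf_eq_of_le le_sup_left] at h4
  exact ⟨(j : G) * g, by rw [← conj_smul_mul]; exact h4⟩

end CfsgLib.CarterConj
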