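import Mathlib
import Cfsg.Prelude.Def_SolvableStructure
import Cfsg.Agent.Lib.Coprime
import Cfsg.Agent.Lib.Components
import Cfsg.Agent.Lib.Solvable.Huppert

/-! Groups with hereditary converse of Lagrange's theorem. -/

set_option autoImplicit false

namespace CfsgLib.HereditaryCLT

open Cfsg
open scoped Pointwise

universe u
variable {G : Type u} [Group G]

theorem of_equiv {K : Type*} [Group K] (e : G ≃* K) (h : HasSubgroupOfEveryOrder G) :
    HasSubgroupOfEveryOrder K := by
  intro d hd
  obtain ⟨H, hH⟩ := h d (by rwa [Nat.card_congr e.toEquiv])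
  exact ⟨H.map e.toMonoidHom, by rw [Subgroup.card_map_of_injective e.injective, hH]⟩

theorem subgroup (h : ∀ H : Subgroup G, HasSubgroupOfEveryOrder H) (L : Subgroup G)
    (H : Subgroup L) : HasSubgroupOfEveryOrder H :=
  of_equiv (Subgroup.equivMapOfInjective H L.subtype L.subtype_injective).symm (h _)

theorem exists_index [Finite G] (h : ∀ H : Subgroup G, HasSubgroupOfEveryOrder H) {d : ℕ}
    (hd : d ∣ Nat.card G) : ∃ H : Subgroup G, H.index = d := by
  obtain ⟨H, hH⟩ := of_equiv Subgroup.topEquiv (h ⊤) (Nat.card G / d) (Nat.div_dvd_of_dvd hd)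
  refine ⟨H, ?_⟩
  have := H.card_mul_index
  rw [hH] at this
  refine mul_left_cancel₀ (Nat.div_pos (Nat.le_of_dvd Nat.card_pos hd) (Nat.pos_of_dvd_of_pos hd Nat.card_pos)).ne' ?_
  rw [this, Nat.div_mul_cancel hd]

theorem sylow_normal [Finite G] (h : ∀ H : Subgroup G, HasSubgroupOfEveryOrder H) {p : ℕ} [Fact p.Prime]
    (hmax : ∀ q : ℕ, q.Prime → q ∣ Nat.card G → q ≤ p) (P : Sylow p G) : (P : Subgroup G).Normal := by
  induction hn : Nat.card G using Nat.strong_induction_on generalizing G with
  | h n ih =>
    subst hn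
    rcases subsingleton_or_nontrivial G with hs | hs
    · rw [Subsingleton.elim (P : Subgroup G) ⊥]; infer_instance
    have hm := Nat.minFac_prime (Finite.one_lt_card (α := G)).ne'
    by_cases hp : (Nat.card G).minFac = p
    · have hG : IsPGroup p G := IsPGroup.of_card (n := (Nat.card G).primeFactorsList.length)
        (Nat.eq_prime_pow_of_unique_prime_dvd Nat.card_pos.ne' fun {r} hr hd =>
          le_antisymm (hmax r hr hd) (hp ▸ Nat.minFac_le_of_dvd hr.two_le hd))
      rw [← P.3 (hG.to_subgroup ⊤) le_top]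
      infer_instance
    obtain ⟨K, hK⟩ := exists_index h (Nat.minFac_dvd (Nat.card G))
    haveI : K.Normal := Subgroup.normal_of_index_eq_minFac_card hK
    have hPK : (P : Subgroup G) ≤ K := by
      intro x hx
      rw [← QuotientGroup.eq_one_iff, ← orderOf_eq_one_iff]
      obtain ⟨k, hk⟩ := P.2 ⟨x, hx⟩
      have hxk : x ^ p ^ k = 1 := by simpa using congrArg Subtype.val hk
      obtain ⟨j, -, hj⟩ := (Nat.dvd_prime_pow Fact.out).mp
        (orderOf_dvd_of_pow_eq_one (x := (x : G ⧸ K)) (n := p ^ k) (by rw [← QuotientGroup.mk_pow, hxk]; rfl))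
      have h2 : orderOf (x : G ⧸ K) ∣ (Nat.card G).minFac := by
        rw [← hK]; exact orderOf_dvd_natCard _
      rcases (Nat.dvd_prime hm).mp h2 with e | e
      · exact e
      · exfalso
        rw [hj] at e
        exact hp ((Nat.prime_dvd_prime_iff_eq hm Fact.out).mp (hm.dvd_of_dvd_pow (e ▸ dvd_rfl : (Nat.card G).minFac ∣ p ^ j)))
    have hlt : Nat.card K < Nat.card G := by
      rw [← K.card_mul_index]
      exact lt_mul_of_one_lt_right Nat.card_pos (hK ▸ hm.one_lt)
    haveI hn' := ih _ hlt (subgroup h K) (fun q hq hd => hmax q hq (hd.trans K.card_subgroup_dvd_card))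
      (P.subtype hPK) rfl
    haveI : ((P.subtype hPK : Subgroup K)).Characteristic := Sylow.characteristic_of_normal _ hn'
    have e : (P.subtype hPK : Subgroup K).map K.subtype = (P : Subgroup G) := by
      rw [Sylow.coe_subtype, Subgroup.map_subgroupOf_eq_of_le hPK]
    rw [← e]
    infer_instance

theorem isSupersolvable [Finite G] (h : ∀ H : Subgroup G, HasSubgroupOfEveryOrder H) :
    IsSupersolvable G := by
  induction hn : Nat.card G using Nat.strong_induction_on generalizing G with
  | h n ih =>
    subst hn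
    refine Supersolvable.of_index_prime fun M hM => ?_
    haveI : Nontrivial G := by
      rcases subsingleton_or_nontrivial G with hs | hs
      · exact absurd (Subsingleton.elim _ _) hM.1
      · exact hs
    obtain ⟨p, hp, hpd, hmax⟩ := Supersolvable.exists_largest_prime (G := G)
    haveI : Fact p.Prime := ⟨hp⟩
    obtain ⟨P⟩ : Nonempty (Sylow p G) := inferInstance
    haveI hPn := sylow_normal h hmax P
    have hP0 : (P : Subgroup G) ≠ ⊥ := P.ne_bot_of_dvd_card hpd
    have hcop : (Nat.card (P : Subgroup G)).Coprime (P : Subgroup G).index := P.card_coprime_index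
    obtain ⟨H₀, hH₀⟩ := Subgroup.exists_right_complement'_of_coprime hcop
    have hH0card : Nat.card H₀ = (P : Subgroup G).index := hH₀.symm.index_eq_card.symm
    by_cases hPM : (P : Subgroup G) ≤ M
    · -- pass to the quotient, which is isomorphic to a complement
      have hlt : Nat.card H₀ < Nat.card G := by
        rw [hH0card, ← (P : Subgroup G).card_mul_index]
        exact lt_mul_left (Nat.pos_of_ne_zero Subgroup.index_ne_zero_of_finite)
          (by haveI := (Subgroup.nontrivial_iff_ne_bot _).mpr hP0; exact Finite.one_lt_card)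
      have h1 := Supersolvable.of_equiv hH₀.symm.QuotientMulEquiv.symm (ih _ hlt (subgroup h H₀) rfl)
      rw [← Supersolvable.index_map_eq_of_le hPM]
      exact Supersolvable.index_prime h1 (Supersolvable.isCoatom_map_of_le hPM hM)
    · have htop : M ⊔ (P : Subgroup G) = ⊤ :=
        hM.2 _ (lt_of_le_of_ne le_sup_left fun e => hPM (e ▸ le_sup_right))
      -- a complement `H` of `P` inside `M`
      set D := (P : Subgroup G).subgroupOf M with hD
      have hDcard : Nat.card D ∣ Nat.card (P : Subgroup G) :=
        Subgroup.card_comap_dvd_of_injective _ _ (Subgroup.subtype_injective _)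
      have hDidx : D.index = (P : Subgroup G).index := by
        show (P : Subgroup G).relIndex M = _
        rw [← Subgroup.relIndex_sup_right (H := M) (K := (P : Subgroup G)), htop, Subgroup.relIndex_top_right]
      obtain ⟨H', hH'⟩ := Subgroup.exists_right_complement'_of_coprime (N := D)
        (hDidx ▸ hcop.coprime_dvd_left hDcard)
      set H := H'.map M.subtype with hH
      have hHM : H ≤ M := Subgroup.map_subtype_le _
      have hHcard : Nat.card H = (P : Subgroup G).index := by
        rw [hH, Subgroup.card_map_of_injective M.subtype_injective, ← hH'.symm.index_eq_card, hDidx]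
      have hMdec : ∀ m ∈ M, ∃ d ∈ M ⊓ (P : Subgroup G), ∃ t ∈ H, m = d * t := by
        intro m hm
        obtain ⟨⟨⟨d, hd⟩, ⟨t, ht⟩⟩, hdt⟩ := hH'.2 ⟨m, hm⟩
        exact ⟨d, ⟨d.2, hd⟩, t, ⟨t, ht, rfl⟩, (congrArg Subtype.val hdt).symm⟩
      -- a subgroup of index `p` containing `H`
      obtain ⟨K₀, hK₀⟩ := exists_index h hpd
      have hPK₀ : ((P : Subgroup G).subgroupOf K₀).index = (P : Subgroup G).index := by
        show (P : Subgroup G).relIndex K₀ = _
        have htop' : K₀ ⊔ (P : Subgroup G) = ⊤ := by
          refine Subgroup.index_eq_one.mp ?_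
          have h1 := Subgroup.index_dvd_of_le (le_sup_left : K₀ ≤ K₀ ⊔ (P : Subgroup G))
          have h2 := Subgroup.index_dvd_of_le (le_sup_right : (P : Subgroup G) ≤ K₀ ⊔ (P : Subgroup G))
          rw [hK₀] at h1
          exact Nat.eq_one_of_dvd_coprimes (hp.coprime_iff_not_dvd.mpr P.not_dvd_index) h1 h2
        rw [← Subgroup.relIndex_sup_right (H := K₀) (K := (P : Subgroup G)), htop', Subgroup.relIndex_top_right]
      obtain ⟨H₁', hH₁'⟩ := Subgroup.exists_right_complement'_of_coprime (N := (P : Subgroup G).subgroupOf K₀)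
        (hPK₀ ▸ hcop.coprime_dvd_left (Subgroup.card_comap_dvd_of_injective _ _ (Subgroup.subtype_injective _)))
      have hcompl : ∀ X : Subgroup G, Nat.card X = (P : Subgroup G).index →
          Subgroup.IsComplement' (P : Subgroup G) X := fun X hX =>
        Subgroup.isComplement'_of_coprime (by rw [hX, (P : Subgroup G).card_mul_index]) (hX ▸ hcop)
      obtain ⟨g, hg⟩ := CfsgLib.complements_conj hcop
        (Or.inl (haveI := P.2.isNilpotent; inferInstance))
        (hcompl (H₁'.map K₀.subtype) (by
          rw [Subgroup.card_map_of_injective K₀.subtype_injective, ← hH₁'.symm.index_eq_card, hPK₀]))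
        (hcompl H hHcard)
      set K := MulAut.conj g • K₀ with hK
      have hKc : Nat.card K = Nat.card K₀ := CfsgLib.card_conj_smul g K₀
      have hKidx : K.index = p := by
        have h1 := K.card_mul_index
        rw [hKc, ← K₀.card_mul_index, hK₀] at h1
        exact mul_left_cancel₀ Nat.card_pos.ne' h1
      have hHK : H ≤ K := hg ▸ (Subgroup.pointwise_smul_le_pointwise_smul_iff.mpr (Subgroup.map_subtype_le _))
      by_cases hMK : M ≤ K
      · rcases hMK.eq_or_lt with e | hlt
        · rw [e, hKidx]; exact hp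
        · exact absurd (hKidx ▸ Subgroup.index_eq_one.mpr (hM.2 K hlt)) hp.ne_one
      -- `M ⊓ P` is normal and not inside `K`, so `G = K M`
      have hDK : ¬ M ⊓ (P : Subgroup G) ≤ K := fun hle => hMK fun m hm => by
        obtain ⟨d, hd, t, ht, rfl⟩ := hMdec m hm
        exact mul_mem (hle hd) (hHK ht)
      haveI hDn : (M ⊓ (P : Subgroup G)).Normal := by
        haveI := hPn
        rw [← Subgroup.normalizer_eq_top_iff]
        refine hM.2 _ (lt_of_le_of_ne (fun m hm => ?_) fun e => ?_)
        · rw [Subgroup.mem_normalizer_iff]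
          intro x
          have hh : ∀ m ∈ M, ∀ x ∈ M ⊓ (P : Subgroup G), m * x * m⁻¹ ∈ M ⊓ (P : Subgroup G) :=
            fun m hm x hx => ⟨M.mul_mem (M.mul_mem hm hx.1) (M.inv_mem hm), hPn.conj_mem x hx.2 m⟩
          refine ⟨fun hx => hh m hm x hx, fun hx => ?_⟩
          have := hh m⁻¹ (M.inv_mem hm) _ hx
          rwa [show m⁻¹ * (m * x * m⁻¹) * m⁻¹⁻¹ = x by group] at this
        · -- normalizers grow in `P`
          haveI := P.2.isNilpotent
          have hlt : (M ⊓ (P : Subgroup G)).subgroupOf P < ⊤ := lt_top_iff_ne_top.mpr fun e' =>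
            hPM ((Subgroup.subgroupOf_eq_top.mp e').trans inf_le_left)
          obtain ⟨x, hx, hx'⟩ :=
            SetLike.exists_of_lt (Group.normalizerCondition_of_isNilpotent _ hlt)
          rw [← Subgroup.subgroupOf_normalizer_eq inf_le_right, Subgroup.mem_subgroupOf, ← e] at hx
          exact hx' ⟨hx, x.2⟩
      have hKcoatom : IsCoatom K := by
        refine ⟨fun e => hp.ne_one (by rw [← hKidx, e, Subgroup.index_top]), fun L hL => ?_⟩
        rcases hp.eq_one_or_self_of_dvd _ (hKidx ▸ Subgroup.index_dvd_of_le hL.le) with e | e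
        · exact Subgroup.index_eq_one.mp e
        · exact absurd (Subgroup.eq_of_le_of_card_ge hL.le (by
            have h1 := L.card_mul_index
            rw [e, ← K.card_mul_index, hKidx] at h1
            exact (Nat.eq_of_mul_eq_mul_right hp.pos h1).le)) hL.ne
      have hKD : K ⊔ (M ⊓ (P : Subgroup G)) = ⊤ :=
        hKcoatom.2 _ (lt_of_le_of_ne le_sup_left fun e => hDK (e ▸ le_sup_right))
      have hGKM : ∀ x : G, ∃ k ∈ K, ∃ m ∈ M, x = k * m := fun x => by
        obtain ⟨k, hk, d, hd, rfl⟩ := Subgroup.mem_sup_of_normal_right.mp (hKD ▸ Subgroup.mem_top x)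
        exact ⟨k, hk, d, hd.1, rfl⟩
      have hrel : M.relIndex K = M.index := by
        show Nat.card (K ⧸ M.subgroupOf K) = Nat.card (G ⧸ M)
        refine Nat.card_eq_of_bijective
          (Quotient.map' (fun k : K => (k : G)) fun a b hab => by
            rw [QuotientGroup.leftRel_apply] at hab ⊢
            exact hab) ⟨?_, ?_⟩
        · intro x y
          obtain ⟨x, rfl⟩ := QuotientGroup.mk_surjective x
          obtain ⟨y, rfl⟩ := QuotientGroup.mk_surjective y
          intro hxy
          exact QuotientGroup.eq.mpr (QuotientGroup.eq (s := M).mp hxy)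
        · intro x
          obtain ⟨x, rfl⟩ := QuotientGroup.mk_surjective x
          obtain ⟨k, hk, m, hm, rfl⟩ := hGKM x
          exact ⟨QuotientGroup.mk ⟨k, hk⟩, QuotientGroup.eq.mpr (by simpa using hm)⟩
      rw [← hrel]
      -- `M ⊓ K` is maximal in the supersolvable group `K`
      have hKlt : Nat.card K < Nat.card G := CfsgLib.card_lt_of_lt_top hKcoatom.1.lt_top
      refine Supersolvable.index_prime (ih _ hKlt (subgroup h K) rfl) (M := M.subgroupOf K) ⟨fun e => ?_, fun J hJ => ?_⟩
      · have hKM := Subgroup.subgroupOf_eq_top.mp e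
        rcases hKM.eq_or_lt with e' | hlt
        · exact hMK e'.ge
        · exact hM.1 (hKcoatom.2 M hlt)
      · set J' := J.map K.subtype with hJ'
        have hJK : J' ≤ K := Subgroup.map_subtype_le _
        have hMKJ : M ⊓ K ≤ J' := fun x hx => ⟨⟨x, hx.2⟩, hJ.le hx.1, rfl⟩
        obtain ⟨j, hj, hjM⟩ := SetLike.exists_of_lt hJ
        have hsup : J' ⊔ (M ⊓ (P : Subgroup G)) = ⊤ := by
          refine hM.2 _ (lt_of_le_of_ne (fun m hm => ?_) fun e => hjM ?_)
          · obtain ⟨d, hd, t, ht, rfl⟩ := hMdec m hm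
            exact mul_mem (Subgroup.mem_sup_right hd) (Subgroup.mem_sup_left (hMKJ ⟨hHM ht, hHK ht⟩))
          · exact e.ge (Subgroup.mem_sup_left ⟨j, hj, rfl⟩)
        refine eq_top_iff.mpr fun k _ => ?_
        obtain ⟨a, ha, d, hd, hk⟩ := Subgroup.mem_sup_of_normal_right.mp (hsup ▸ Subgroup.mem_top (k : G))
        have hdK : d ∈ K := by
          have : d = a⁻¹ * (k : G) := by rw [← hk, inv_mul_cancel_left]
          rw [this]
          exact K.mul_mem (K.inv_mem (hJK ha)) k.2
        obtain ⟨b, hb, hbe⟩ : (k : G) ∈ J' := hk ▸ J'.mul_mem ha (hMKJ ⟨hd.1, hdK⟩)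
        exact (Subtype.ext hbe : b = k) ▸ hb

end CfsgLib.HereditaryCLT
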