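import Mathlib
import Cfsg.Prelude.Def_SolvableStructure
import Cfsg.Agent.Lib.Solvable.Supersolvable

/-!
Irreducible supersolvable automorphism groups of elementary abelian groups in which every element of
prime power order coprime to `p` induces a scalar on its commutator.
-/

set_option autoImplicit false
set_option linter.unusedSectionVars false

namespace CfsgLib.PairScalar

open Cfsg

variable {V : Type*} [CommGroup V] {p : ℕ} [hp : Fact p.Prime]

theorem dvd_of_zpow_eq_one (hexp : ∀ v : V, v ^ p = 1) {c : V} (hc : c ≠ 1) {j : ℤ} (h : c ^ j = 1) :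
    (p : ℤ) ∣ j := by
  have ho : orderOf c = p := ((Nat.dvd_prime hp.out).mp (orderOf_dvd_of_pow_eq_one (hexp c))).resolve_left
    (fun e => hc (orderOf_eq_one_iff.mp e))
  rw [← ho]
  exact orderOf_dvd_iff_zpow_eq_one.mpr h

theorem zpow_congr (hexp : ∀ v : V, v ^ p = 1) {i j : ℤ} (h : (p : ℤ) ∣ i - j) (v : V) : v ^ i = v ^ j := by
  obtain ⟨t, ht⟩ := h
  rw [show i = j + (p : ℤ) * t by omega, zpow_add, zpow_mul, zpow_natCast, hexp, one_zpow, mul_one]

theorem mem_zpowers_of_zpow (hexp : ∀ v : V, v ^ p = 1) {c d : V} {j : ℤ} (hj : ¬ (p : ℤ) ∣ j)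
    (h : d ^ j ∈ Subgroup.zpowers c) : d ∈ Subgroup.zpowers c := by
  obtain ⟨a, b, hab⟩ := ((Nat.prime_iff_prime_int.mp hp.out).coprime_iff_not_dvd.mpr hj)
  have : d = (d ^ j) ^ b := by
    rw [← zpow_mul, zpow_congr hexp (i := j * b) (j := 1) ⟨-a, by linear_combination hab⟩, zpow_one]
  rw [this]
  exact Subgroup.zpow_mem _ h b

/-- A homomorphism fixing every line of a subgroup is a power map on it. -/
theorem exists_common (hexp : ∀ v : V, v ^ p = 1) (I : Subgroup V) (f : V →* V)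
    (hf : ∀ c ∈ I, f c ∈ Subgroup.zpowers c) : ∃ k : ℤ, ∀ c ∈ I, f c = c ^ k := by
  by_cases hI : ∀ c ∈ I, c = 1
  · exact ⟨0, fun c hc => by rw [hI c hc, map_one, one_zpow]⟩
  push_neg at hI
  obtain ⟨c0, hc0, hne⟩ := hI
  obtain ⟨k, hk : c0 ^ k = f c0⟩ := hf c0 hc0
  refine ⟨k, fun d hd => ?_⟩
  by_cases hd0 : d ∈ Subgroup.zpowers c0
  · obtain ⟨i, rfl : c0 ^ i = d⟩ := hd0
    rw [map_zpow, ← hk, ← zpow_mul, ← zpow_mul, mul_comm]
  obtain ⟨l, hl : d ^ l = f d⟩ := hf d hd
  obtain ⟨j, hj : (c0 * d) ^ j = f (c0 * d)⟩ := hf _ (mul_mem hc0 hd)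
  rw [map_mul, ← hk, ← hl, mul_zpow] at hj
  have h1 : d ^ (j - l) = c0 ^ (k - j) := by
    rw [zpow_sub, zpow_sub, mul_inv_eq_iff_eq_mul, mul_assoc, mul_comm _ (d ^ l), ← mul_assoc, eq_mul_inv_iff_mul_eq,
      mul_comm, hj]
  have h2 : (p : ℤ) ∣ j - l := by
    by_contra h
    exact hd0 (mem_zpowers_of_zpow hexp h (h1 ▸ Subgroup.zpow_mem _ (Subgroup.mem_zpowers c0) _))
  have h3 : (p : ℤ) ∣ k - j := by
    refine dvd_of_zpow_eq_one hexp hne ?_
    rw [← h1, zpow_congr hexp (i := j - l) (j := 0) (by simpa using h2), zpow_zero]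
  rw [← hl]
  exact zpow_congr hexp (by
    have := dvd_add h2 h3
    have e : l - k = -(j - l + (k - j)) := by ring
    rw [e]; exact dvd_neg.mpr this) d

/-- The fixed points of an automorphism. -/
def fixedPts (g : MulAut V) : Subgroup V where
  carrier := {v | g v = v}
  one_mem' := map_one g
  mul_mem' := fun {a b} ha hb => by
    show g (a * b) = a * b
    rw [map_mul, ha, hb]
  inv_mem' := fun {a} ha => by
    show g a⁻¹ = a⁻¹
    rw [map_inv, ha]

/-- `g` maps every element to one of its powers. -/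
def IsPow (g : MulAut V) : Prop := ∀ v, g v ∈ Subgroup.zpowers v

/-- The commutator `v ↦ g v / v`. -/
def dd (g : MulAut V) : V →* V where
  toFun v := g v * v⁻¹
  map_one' := by simp
  map_mul' a b := by rw [map_mul, mul_inv, mul_mul_mul_comm]

theorem dd_apply (g : MulAut V) (v : V) : dd g v = g v * v⁻¹ := rfl

theorem pow_apply_eq (g : MulAut V) {v c : V} (hc : g c = c) (h : g v = v * c) (n : ℕ) :
    (g ^ n) v = v * c ^ n := by
  induction n with
  | zero => simp
  | succ n ih => rw [pow_succ', MulAut.mul_apply, ih, map_mul, map_pow, hc, h, pow_succ', mul_assoc]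

theorem pow_apply_zpow (g : MulAut V) {v : V} {k : ℤ} (h : g v = v ^ k) (n : ℕ) :
    (g ^ n) v = v ^ (k ^ n) := by
  induction n with
  | zero => simp
  | succ n ih => rw [pow_succ', MulAut.mul_apply, ih, map_zpow, h, ← zpow_mul, pow_succ']

theorem isPow_mul {a b : MulAut V} (ha : IsPow a) (hb : IsPow b) : IsPow (a * b) := fun v => by
  obtain ⟨i, hi : v ^ i = b v⟩ := hb v
  rw [MulAut.mul_apply, ← hi, map_zpow]
  exact Subgroup.zpow_mem _ (ha v) i

theorem isPow_common (hexp : ∀ v : V, v ^ p = 1) {g : MulAut V} (hg : IsPow g) :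
    ∃ k : ℤ, ∀ v, g v = v ^ k := by
  obtain ⟨k, hk⟩ := exists_common hexp ⊤ g.toMonoidHom fun c _ => hg c
  exact ⟨k, fun v => hk v trivial⟩

theorem isPow_inv [Finite V] {a : MulAut V} (ha : IsPow a) : IsPow a⁻¹ := by
  have h : ∀ n : ℕ, IsPow (a ^ n) := by
    intro n
    induction n with
    | zero => intro v; simp
    | succ n ih => rw [pow_succ]; exact isPow_mul ih ha
  obtain ⟨n, hn⟩ : ∃ n : ℕ, a ^ n = a⁻¹ := ⟨orderOf a - 1, eq_inv_of_mul_eq_one_left (by
    rw [← pow_succ, Nat.sub_add_cancel (orderOf_pos a), pow_orderOf_eq_one])⟩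
  rw [← hn]; exact h n

theorem isPow_comm (hexp : ∀ v : V, v ^ p = 1) {s : MulAut V} (hs : IsPow s) (g : MulAut V) :
    s * g = g * s := by
  obtain ⟨k, hk⟩ := isPow_common hexp hs
  refine MulEquiv.ext fun v => ?_
  rw [MulAut.mul_apply, MulAut.mul_apply, hk, hk, map_zpow]

/-- A power map with a nontrivial fixed point is trivial. -/
theorem isPow_fixed (hexp : ∀ v : V, v ^ p = 1) {s : MulAut V} (hs : IsPow s) {c : V} (hc : c ≠ 1)
    (h : s c = c) : s = 1 := by
  obtain ⟨k, hk⟩ := isPow_common hexp hs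
  have : (p : ℤ) ∣ k - 1 := dvd_of_zpow_eq_one hexp hc (by rw [zpow_sub, ← hk, h, zpow_one, mul_inv_cancel])
  refine MulEquiv.ext fun v => ?_
  rw [hk, zpow_congr hexp this, zpow_one, MulAut.one_apply]

theorem exists_fixed_pPow [Finite V] [Nontrivial V] (hexp : ∀ v : V, v ^ p = 1) {x : MulAut V} {e : ℕ}
    (hx : x ^ p ^ e = 1) : ∃ v, v ≠ 1 ∧ x v = v := by
  have hV : IsPGroup p V := fun v => ⟨1, by rw [pow_one]; exact hexp v⟩
  have hP : IsPGroup p (Subgroup.zpowers x) := by
    rintro ⟨y, i, rfl⟩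
    refine ⟨e, Subtype.ext ?_⟩
    show (x ^ i) ^ p ^ e = 1
    rw [← zpow_natCast, zpow_comm, zpow_natCast, hx, one_zpow]
  have hdvd : p ∣ Nat.card V := by
    obtain ⟨n, hn⟩ := hV.exists_card_eq
    rcases Nat.eq_zero_or_pos n with rfl | h
    · exact absurd hn (Finite.one_lt_card (α := V)).ne'
    · rw [hn]; exact dvd_pow_self p h.ne'
  obtain ⟨b, hb, hb1⟩ := hP.exists_fixed_point_of_prime_dvd_card_of_fixed_point V hdvd
    (a := (1 : V)) (fun g => map_one (g : MulAut V))
  exact ⟨b, fun h => hb1 h.symm, hb ⟨x, Subgroup.mem_zpowers x⟩⟩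

/-- The main lemma. -/
theorem isPow_of_irreducible [Finite V] [Nontrivial V] (hexp : ∀ v : V, v ^ p = 1) (R : Subgroup (MulAut V))
    (hR : IsSupersolvable R)
    (hirr : ∀ U : Subgroup V, (∀ g ∈ R, ∀ u ∈ U, g u ∈ U) → U = ⊥ ∨ U = ⊤)
    (hyp : ∀ g ∈ R, ∀ r e : ℕ, r.Prime → r ≠ p → g ^ r ^ e = 1 →
      ∀ v, g (dd g v) ∈ Subgroup.zpowers (dd g v)) :
    ∀ g ∈ R, IsPow g := by
  classical
  let Sc : Subgroup R :=
    { carrier := {g | IsPow (g : MulAut V)}
      one_mem' := fun v => Subgroup.mem_zpowers v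
      mul_mem' := fun {a b} ha hb => isPow_mul ha hb
      inv_mem' := fun {a} ha => isPow_inv ha }
  have hScn : Sc.Normal := ⟨fun a ha g => by
    show IsPow ((g : MulAut V) * (a : MulAut V) * (g : MulAut V)⁻¹)
    rw [← isPow_comm hexp ha, mul_inv_cancel_right]; exact ha⟩
  suffices hall : Sc = ⊤ by
    intro g hg
    have : (⟨g, hg⟩ : R) ∈ Sc := hall ▸ Subgroup.mem_top _
    exact this
  by_contra hne
  have : Nontrivial (R ⧸ Sc) := QuotientGroup.nontrivial_iff.mpr hne
  have hfinR : Finite R := inferInstance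
  obtain ⟨P, hPn, -, hPcard⟩ := CfsgLib.Supersolvable.exists_prime_normal_le
    (CfsgLib.Supersolvable.quotient hR Sc) (N := (⊤ : Subgroup (R ⧸ Sc))) top_ne_bot
  set r := Nat.card P with hr
  have hrf : Fact r.Prime := ⟨hPcard⟩
  obtain ⟨y, hy1⟩ : ∃ y : P, y ≠ 1 := by
    have : Nontrivial P := Finite.one_lt_card_iff_nontrivial.mp hPcard.one_lt
    exact exists_ne 1
  obtain ⟨x0, hx0⟩ := QuotientGroup.mk'_surjective Sc (y : R ⧸ Sc)
  obtain ⟨a, m, hm, hxm⟩ := Nat.exists_eq_pow_mul_and_not_dvd (orderOf_pos x0).ne' r hPcard.ne_one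
  set x := x0 ^ m with hx
  have hyord : orderOf y = r :=
    ((Nat.dvd_prime hPcard).mp (orderOf_dvd_natCard y)).resolve_left fun e => hy1 (orderOf_eq_one_iff.mp e)
  have hxP : QuotientGroup.mk' Sc x ∈ P := by
    rw [hx, map_pow, hx0]; exact pow_mem y.2 m
  have hxne : x ∉ Sc := by
    intro h
    have h1 : QuotientGroup.mk' Sc x = 1 := (QuotientGroup.eq_one_iff x).mpr h
    rw [hx, map_pow, hx0] at h1
    have h2 : y ^ m = 1 := Subtype.ext (by simpa using h1)
    exact hm (hyord ▸ orderOf_dvd_of_pow_eq_one h2)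
  have hxord : x ^ r ^ a = 1 := by rw [hx, ← pow_mul, mul_comm, ← hxm, pow_orderOf_eq_one]
  set xx := (x : MulAut V) with hxx
  have hxxord : xx ^ r ^ a = 1 := by rw [hxx, ← SubmonoidClass.coe_pow, hxord]; rfl
  -- conjugates of `x`
  have hconj : ∀ g : R, ∃ (t : MulAut V) (i : ℕ), IsPow t ∧ t ∈ R ∧ t ^ r ^ a = 1 ∧
      (g : MulAut V) * xx * (g : MulAut V)⁻¹ = t * xx ^ i := by
    intro g
    have hz : ∃ i : ℕ, QuotientGroup.mk' Sc (g * x * g⁻¹) = (QuotientGroup.mk' Sc x) ^ i := by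
      have h1 : QuotientGroup.mk' Sc (g * x * g⁻¹) ∈ P := by
        simpa using hPn.conj_mem _ hxP (QuotientGroup.mk' Sc g)
      have hne1 : (⟨_, hxP⟩ : P) ≠ 1 := fun h =>
        hxne ((QuotientGroup.eq_one_iff x).mp (congrArg Subtype.val h))
      obtain ⟨i, hi⟩ := mem_powers_of_prime_card (G := P) rfl hne1 (g' := ⟨_, h1⟩)
      exact ⟨i, (congrArg Subtype.val hi).symm⟩
    obtain ⟨i, hi⟩ := hz
    have ht : g * x * g⁻¹ * (x ^ i)⁻¹ ∈ Sc := by
      refine (QuotientGroup.eq_one_iff _).mp ?_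
      show QuotientGroup.mk' Sc _ = 1
      rw [map_mul _ (g * x * g⁻¹), hi, map_inv, map_pow _ x i, mul_inv_cancel]
    set t := g * x * g⁻¹ * (x ^ i)⁻¹ with ht'
    refine ⟨(t : MulAut V), i, ht, t.2, ?_, by rw [ht', hxx]; push_cast; group⟩
    have hc : Commute (t : MulAut V) (xx ^ i) := isPow_comm hexp ht _
    have h2 : ((t : MulAut V) * xx ^ i) ^ r ^ a = 1 := by
      have e : (t : MulAut V) * xx ^ i = (g : MulAut V) * xx * (g : MulAut V)⁻¹ := by
        rw [ht', hxx]; push_cast; group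
      rw [e, conj_pow, hxxord, mul_one, mul_inv_cancel]
    rw [hc.mul_pow, ← pow_mul xx, mul_comm i, pow_mul, hxxord, one_pow, mul_one] at h2
    exact h2
  have hxnot : ¬ IsPow xx := hxne
  have hF : ∃ v, v ≠ 1 ∧ xx v = v := by
    by_cases hrp : r = p
    · exact exists_fixed_pPow hexp (e := a) (hrp ▸ hxxord)
    · by_contra hno
      push_neg at hno
      apply hxnot
      have hinj : Function.Injective (dd xx) := by
        rw [injective_iff_map_eq_one]
        intro v hv
        by_contra hv1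
        exact hno v hv1 (mul_inv_eq_one.mp hv)
      intro w
      obtain ⟨v, rfl⟩ := (Finite.injective_iff_surjective.mp hinj) w
      exact hyp xx x.2 r a hPcard hrp hxxord v
  -- `C_V(x)` cannot be invariant
  have hnotinv : ¬ ∀ g : R, ∀ v, xx v = v → xx ((g : MulAut V) v) = (g : MulAut V) v := by
    intro h
    rcases hirr (fixedPts xx) (fun g hg u hu => h ⟨g, hg⟩ u hu) with e | e
    · obtain ⟨v, hv1, hv⟩ := hF
      have : v ∈ fixedPts xx := hv
      rw [e, Subgroup.mem_bot] at this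
      exact hv1 this
    · exact hxnot fun v => by
        have : v ∈ fixedPts xx := e ▸ Subgroup.mem_top v
        rw [show xx v = v from this]; exact Subgroup.mem_zpowers v
  -- fixed space of a conjugate
  have hmove : ∀ (g : R) (t : MulAut V) (i : ℕ), (g : MulAut V) * xx * (g : MulAut V)⁻¹ = t * xx ^ i →
      ∀ v, xx v = v → t ((xx ^ i) ((g : MulAut V) v)) = (g : MulAut V) v := by
    intro g t i h v hv
    show (t * xx ^ i) ((g : MulAut V) v) = _
    rw [← h, MulAut.mul_apply, MulAut.mul_apply, MulAut.inv_apply_self, hv]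
  obtain ⟨s, hsR, hs, hsord, hs1⟩ : ∃ s ∈ R, IsPow s ∧ s ^ r ^ a = 1 ∧ s ≠ 1 := by
    by_contra hno
    push_neg at hno
    apply hnotinv
    intro g v hv
    obtain ⟨t, i, ht, htR, htord, he⟩ := hconj g⁻¹
    have ht1 := hno t htR ht htord
    rw [ht1, one_mul, Subgroup.coe_inv, inv_inv] at he
    -- `g⁻¹ x g = x ^ i`
    have hvi : (xx ^ i) v = v := by
      clear he
      induction i with
      | zero => rfl
      | succ i ih => rw [pow_succ', MulAut.mul_apply, ih, hv]
    have : xx * (g : MulAut V) = (g : MulAut V) * xx ^ i := by rw [← he]; group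
    rw [← MulAut.mul_apply, this, MulAut.mul_apply, hvi]
  have hrp : r ≠ p := by
    intro hrp
    obtain ⟨c, hc1, hc⟩ := exists_fixed_pPow hexp (e := a) (hrp ▸ hsord)
    exact hs1 (isPow_fixed hexp hs hc1 hc)
  obtain ⟨k, hk⟩ : ∃ k : ℤ, ∀ c ∈ (dd xx).range, xx c = c ^ k :=
    exists_common hexp _ xx.toMonoidHom (by rintro _ ⟨v, rfl⟩; exact hyp xx x.2 r a hPcard hrp hxxord v)
  obtain ⟨c0, hc0, hc01⟩ : ∃ c ∈ (dd xx).range, c ≠ 1 := by
    by_contra h
    push_neg at h
    exact hxnot fun v => by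
      have := h _ ⟨v, rfl⟩
      rw [dd_apply, mul_inv_eq_one] at this
      rw [this]; exact Subgroup.mem_zpowers v
  -- every nontrivial scalar `r`-element inverts `x` on `[V,x]`
  have hsx : ∀ t ∈ R, IsPow t → t ^ r ^ a = 1 → t ≠ 1 → t (xx c0) = c0 := by
    intro t htR ht htord ht1
    obtain ⟨j, hj⟩ := isPow_common hexp ht
    have hy' : ∃ v, v ≠ 1 ∧ t (xx v) = v := by
      by_contra hno
      push_neg at hno
      have hinj : Function.Injective (dd (t * xx)) := by
        rw [injective_iff_map_eq_one]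
        intro v hv
        by_contra hv1
        exact hno v hv1 (mul_inv_eq_one.mp hv)
      apply hxnot
      have hpow : IsPow (t * xx) := fun w => by
        obtain ⟨v, rfl⟩ := (Finite.injective_iff_surjective.mp hinj) w
        refine hyp _ (mul_mem htR x.2) r a hPcard hrp ?_ v
        rw [(show Commute t xx from isPow_comm hexp ht _).mul_pow, htord, hxxord, one_mul]
      intro w
      have h2 := isPow_mul (isPow_inv ht) hpow w
      rwa [inv_mul_cancel_left] at h2
    obtain ⟨v, hv1, hv⟩ := hy'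
    rw [hj, ] at hv
    -- `x v = v ^ i` with `i` inverse to `j`
    have hjp : ¬ (p : ℤ) ∣ j := fun hd => hv1 (by
      rw [← hv, zpow_congr hexp (i := j) (j := 0) (by simpa using hd), zpow_zero])
    obtain ⟨A, B, hAB⟩ := ((Nat.prime_iff_prime_int.mp hp.out).coprime_iff_not_dvd.mpr hjp)
    have hxv : xx v = v ^ B := by
      conv_rhs => rw [← hv]
      rw [← zpow_mul, zpow_congr hexp (i := j * B) (j := 1) ⟨-A, by linear_combination hAB⟩, zpow_one]
    have hB1 : ¬ (p : ℤ) ∣ B - 1 := fun hd => ht1 (isPow_fixed hexp ht hv1 (by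
      rw [hj]
      have : xx v = v := by rw [hxv, zpow_congr hexp hd, zpow_one]
      rwa [this] at hv))
    have hd : dd xx v = v ^ (B - 1) := by rw [dd_apply, hxv, zpow_sub, zpow_one]
    have hk' := hk _ ⟨v, rfl⟩
    rw [hd, map_zpow, hxv, ← zpow_mul, ← zpow_mul] at hk'
    have h3 : (p : ℤ) ∣ (B - k) * (B - 1) := dvd_of_zpow_eq_one hexp hv1 (by
      rw [show (B - k) * (B - 1) = B * (B - 1) - (B - 1) * k by ring, zpow_sub, hk', mul_inv_cancel])
    have h4 := ((Nat.prime_iff_prime_int.mp hp.out).dvd_or_dvd h3).resolve_right hB1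
    rw [hk c0 hc0, hj, ← zpow_mul, zpow_congr hexp (i := k * j) (j := 1) (by
      obtain ⟨q, hq⟩ := h4
      exact ⟨-q * j - A, by linear_combination hAB - j * hq⟩), zpow_one]
  have huniq : ∀ t ∈ R, IsPow t → t ^ r ^ a = 1 → t ≠ 1 → t = s := by
    intro t htR ht htord ht1
    have e1 := hsx t htR ht htord ht1
    have e2 := hsx s hsR hs hsord hs1
    have h : s⁻¹ * t = 1 := isPow_fixed hexp (isPow_mul (isPow_inv hs) ht)
      (c := xx c0) (fun h => hc01 (by rwa [map_eq_one_iff xx xx.injective] at h)) (by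
      rw [MulAut.mul_apply, e1]
      conv_lhs => rw [← e2]
      rw [MulAut.inv_apply_self])
    exact (inv_mul_eq_one.mp h).symm
  have hs2 : s * s = 1 := by
    by_contra h
    refine hs1 ?_
    have h2 := huniq _ (mul_mem hsR hsR) (isPow_mul hs hs)
      (by rw [← pow_two, ← pow_mul, mul_comm, pow_mul, hsord, one_pow]) h
    exact mul_eq_left.mp h2
  have hsinv : ∀ v, s v = v⁻¹ := by
    obtain ⟨j, hj⟩ := isPow_common hexp hs
    have hd : (p : ℤ) ∣ (j - 1) * (j + 1) := by
      obtain ⟨v, hv⟩ := exists_ne (1 : V)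
      refine dvd_of_zpow_eq_one hexp hv ?_
      have h1 : s (s v) = v := by rw [← MulAut.mul_apply, hs2, MulAut.one_apply]
      rw [hj, hj, ← zpow_mul] at h1
      rw [show (j - 1) * (j + 1) = j * j - 1 by ring, zpow_sub, h1, zpow_one, mul_inv_cancel]
    rcases (Nat.prime_iff_prime_int.mp hp.out).dvd_or_dvd hd with h | h
    · obtain ⟨v, hv⟩ := exists_ne (1 : V)
      exact absurd (isPow_fixed hexp hs hv (by rw [hj, zpow_congr hexp h, zpow_one])) hs1
    · intro v
      rw [hj, zpow_congr hexp (j := -1) (by simpa using h), zpow_neg_one]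
  have hp2 : p ≠ 2 := by
    intro h2
    subst h2
    refine hs1 (MulEquiv.ext fun v => ?_)
    rw [hsinv, MulAut.one_apply, inv_eq_iff_mul_eq_one, ← pow_two]
    exact hexp v
  have hnd2 : ¬ (p : ℤ) ∣ 2 := by
    intro h
    have := (Nat.prime_dvd_prime_iff_eq hp.out Nat.prime_two).mp (by exact_mod_cast h)
    exact hp2 this
  have hkm : ∀ c ∈ (dd xx).range, xx c = c⁻¹ := by
    intro c hc
    have e2 := hsx s hsR hs hsord hs1
    rw [hsinv, hk c0 hc0, ← zpow_neg] at e2
    have hdk : (p : ℤ) ∣ -k - 1 := dvd_of_zpow_eq_one hexp hc01 (by rw [zpow_sub, e2, zpow_one, mul_inv_cancel])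
    rw [hk c hc, zpow_congr hexp (j := -1) (by
      have := dvd_neg.mpr hdk
      have e : k - -1 = -(-k - 1) := by ring
      rw [e]; exact this), zpow_neg_one]
  have hr2 : r = 2 := by
    have h2 : orderOf s ∣ 2 := orderOf_dvd_of_pow_eq_one (by rw [pow_two, hs2])
    rcases (Nat.dvd_prime Nat.prime_two).mp h2 with h | h
    · exact absurd (orderOf_eq_one_iff.mp h) hs1
    · have := orderOf_dvd_of_pow_eq_one hsord
      rw [h] at this
      exact ((Nat.prime_dvd_prime_iff_eq Nat.prime_two hPcard).mp (Nat.prime_two.dvd_of_dvd_pow this)).symm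
  have hx2 : xx * xx = 1 := MulEquiv.ext fun v => by
    have h := hkm _ ⟨v, rfl⟩
    rw [dd_apply, map_mul, map_inv, mul_inv_rev, inv_inv, mul_inv_eq_iff_eq_mul, mul_assoc,
      inv_mul_cancel, mul_one] at h
    rw [MulAut.mul_apply, MulAut.one_apply, h]
  -- conjugates of `x` are `x` and `s x`
  have hcases : ∀ g : R, (g : MulAut V) * xx = xx * g ∨ (g : MulAut V) * xx = s * xx * g := by
    intro g
    obtain ⟨t, i, ht, htR, htord, he⟩ := hconj g
    have e1 : (g : MulAut V) * xx = (g : MulAut V) * xx * (g : MulAut V)⁻¹ * g := by group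
    rw [he] at e1
    rcases Nat.even_or_odd i with ⟨n, hn⟩ | ⟨n, hn⟩
    · exfalso
      apply hxnot
      have hpow : IsPow ((g : MulAut V) * xx * (g : MulAut V)⁻¹) := by
        rw [he, hn, ← two_mul, pow_mul, pow_two, hx2, one_pow, mul_one]; exact ht
      have hc := isPow_comm hexp hpow (g : MulAut V)
      have : (g : MulAut V) * xx = (g : MulAut V) * ((g : MulAut V) * xx * (g : MulAut V)⁻¹) := by
        rw [← hc]; group
      rw [mul_left_cancel this]; exact hpow
    · rw [hn, pow_succ, pow_mul, pow_two, hx2, one_pow, one_mul] at e1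
      by_cases ht1 : t = 1
      · rw [ht1, one_mul] at e1; exact Or.inl e1
      · rw [huniq t htR ht htord ht1] at e1; exact Or.inr e1
  obtain ⟨g0, hg0⟩ : ∃ g : R, (g : MulAut V) * xx = s * xx * g := by
    by_contra hno
    push_neg at hno
    apply hnotinv
    intro g v hv
    have h := (hcases g).resolve_right (hno g)
    rw [← MulAut.mul_apply, ← h, MulAut.mul_apply, hv]
  have hsc : ∀ g : MulAut V, s * g = g * s := isPow_comm hexp hs
  have hiter : ∀ n : ℕ, ((g0 : MulAut V) ^ (2 * n + 1)) * xx = s * xx * (g0 : MulAut V) ^ (2 * n + 1) := by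
    intro n
    induction n with
    | zero => simpa using hg0
    | succ n ih =>
      have e : 2 * (n + 1) + 1 = (2 * n + 1) + 1 + 1 := by ring
      rw [e, pow_succ, pow_succ]
      calc (g0 : MulAut V) ^ (2 * n + 1) * (g0 : MulAut V) * g0 * xx
          = (g0 : MulAut V) ^ (2 * n + 1) * ((g0 : MulAut V) * (s * xx * g0)) := by rw [← hg0]; group
        _ = (g0 : MulAut V) ^ (2 * n + 1) * (s * ((g0 : MulAut V) * xx) * g0) := by
            rw [mul_assoc s, ← mul_assoc (g0 : MulAut V) s, ← hsc]; group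
        _ = (g0 : MulAut V) ^ (2 * n + 1) * ((s * s) * xx * g0 * g0) := by rw [hg0]; group
        _ = ((g0 : MulAut V) ^ (2 * n + 1) * xx) * g0 * g0 := by rw [hs2]; group
        _ = _ := by rw [ih]; group
  obtain ⟨b, d, hd, hgd⟩ := Nat.exists_eq_two_pow_mul_odd (orderOf_pos (g0 : MulAut V)).ne'
  obtain ⟨n, rfl⟩ := hd
  set g := (g0 : MulAut V) ^ (2 * n + 1) with hgdef
  have hgR : g ∈ R := pow_mem g0.2 _
  have hgx : g * xx = s * xx * g := hiter n
  have hgord : g ^ 2 ^ b = 1 := by rw [hgdef, ← pow_mul, mul_comm, ← hgd, pow_orderOf_eq_one]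
  -- on `C_V(x)` the square of such an element is trivial
  have hsquare : ∀ h : MulAut V, h ∈ R → (∃ e, h ^ 2 ^ e = 1) → h * xx = s * xx * h →
      ∀ v, xx v = v → h (h v) = v := by
    intro h hR' ⟨e, he⟩ hh v hv
    rcases eq_or_ne v 1 with rfl | hv1
    · simp
    set w := h v with hw
    have hxw : xx w = w⁻¹ := by
      have := congrArg (fun f : MulAut V => f v) hh
      simp only [MulAut.mul_apply, hv, hsinv] at this
      rw [← hw] at this
      exact (inv_eq_iff_eq_inv.mpr this).symm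
    have hxhw : xx (h w) = h w := by
      have := congrArg (fun f : MulAut V => f w) hh
      simp only [MulAut.mul_apply, hxw, map_inv, hsinv] at this
      exact inv_injective this.symm
    obtain ⟨l, hl⟩ := exists_common hexp (dd h).range h.toMonoidHom
      (by rintro _ ⟨u, rfl⟩; exact hyp h hR' 2 e Nat.prime_two (Ne.symm hp2) he u)
    have h1 : h (dd h v) = dd h v ^ l := hl _ ⟨v, rfl⟩
    rw [dd_apply, map_mul, map_inv, ← hw, mul_zpow, inv_zpow] at h1
    have h2 := congrArg xx h1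
    rw [map_mul, map_inv, hxhw, hxw, inv_inv, map_mul, map_zpow, hxw, map_inv, map_zpow, hv, inv_zpow] at h2
    have h3 : w * w = ((w ^ l)⁻¹) * (w ^ l)⁻¹ := by
      have h4 : (h w * w) * (h w * w⁻¹)⁻¹ = ((w ^ l)⁻¹ * (v ^ l)⁻¹) * (w ^ l * (v ^ l)⁻¹)⁻¹ := by
        rw [h2, h1]
      simpa [mul_inv_rev, mul_comm, mul_left_comm, mul_assoc] using h4
    have hw1 : w ≠ 1 := by rwa [hw, Ne, map_eq_one_iff h h.injective]
    have hl1 : (p : ℤ) ∣ l + 1 := by
      have : w ^ (2 * (l + 1)) = 1 := by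
        rw [two_mul, zpow_add, zpow_add_one]
        calc w ^ l * w * (w ^ l * w) = (w ^ l * w ^ l) * (w * w) := by rw [mul_mul_mul_comm]
          _ = 1 := by rw [h3, ← mul_inv, mul_inv_cancel]
      exact ((Nat.prime_iff_prime_int.mp hp.out).dvd_or_dvd (dvd_of_zpow_eq_one hexp hw1 this)).resolve_left hnd2
    rw [zpow_congr hexp (j := -1) (by simpa using hl1) w, zpow_congr hexp (j := -1) (by simpa using hl1) v,
      zpow_neg_one, zpow_neg_one, inv_inv, mul_comm w⁻¹] at h1
    exact mul_right_cancel h1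
  have hg2 : ∀ v, xx v = v → g (g v) = v := hsquare g hgR ⟨b, hgord⟩ hgx
  have hgx' : (g * xx) * xx = s * xx * (g * xx) := by rw [← mul_assoc (s * xx), ← hgx]
  have hsq : (g * xx) * (g * xx) = s * (g * g) := by
    calc (g * xx) * (g * xx) = g * (xx * g) * xx := by group
      _ = g * (s * (s * xx * g)) * xx := by rw [← mul_assoc s, ← mul_assoc s, hs2, one_mul]
      _ = g * (s * (g * xx)) * xx := by rw [hgx]
      _ = (g * s) * g * (xx * xx) := by group
      _ = s * (g * g) := by rw [← hsc g, hx2, mul_one, mul_assoc]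
  have hgxord : (g * xx) ^ 2 ^ (b + 1) = 1 := by
    rw [pow_succ', pow_mul, pow_two, hsq, (show Commute s (g * g) from hsc _).mul_pow, ← pow_two g, ← pow_mul,
      mul_comm 2, pow_mul, hgord, one_pow, mul_one]
    have hs2' : s ^ 2 = 1 := by rw [pow_two, hs2]
    rcases Nat.eq_zero_or_pos b with rfl | hb
    · exfalso
      apply hs1
      have hg1 : g = 1 := by simpa using hgord
      rw [hg1, one_mul, mul_one] at hgx
      exact mul_eq_right.mp hgx.symm
    · obtain ⟨c, rfl⟩ : ∃ c, b = c + 1 := ⟨b - 1, by omega⟩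
      rw [pow_succ', pow_mul, hs2', one_pow]
  obtain ⟨v, hv1, hv⟩ := hF
  have h5 := hsquare (g * xx) (mul_mem hgR x.2) ⟨b + 1, hgxord⟩ hgx' v hv
  rw [← MulAut.mul_apply, hsq, MulAut.mul_apply, MulAut.mul_apply, hg2 v hv, hsinv] at h5
  refine hv1 ?_
  have h6 : v ^ 2 = 1 := by
    rw [pow_two]
    nth_rewrite 1 [← h5]
    exact inv_mul_cancel v
  have h7 : (p : ℤ) ∣ 2 ∨ v = 1 := by
    rcases eq_or_ne v 1 with h | h
    · exact Or.inr h
    · exact Or.inl (dvd_of_zpow_eq_one hexp h (by exact_mod_cast h6))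
  exact h7.resolve_left hnd2

end CfsgLib.PairScalar
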